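import Groth.Agent.EqTors4.Prim
import Groth.Agent.LinRed34.Basic
import Groth.Agent.GMod80.Alg

/-!
Torsors under a group, equivariant for the action of another group, through their points: the comodule
on the functions and the space of affine functions.
-/

universe u

open TensorProduct WithConv
open Groth.Agent.Comod33

noncomputable section

namespace Groth.Agent.EqTors4

variable {k : Type u} [Field k]

/-- the image of a point under a coaction, `(p, g) ↦ p ◂ g` -/
def act {A R B : Type u} [CommRing A] [Algebra k A] [CommRing R] [Algebra k R] [CommRing B]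
    [Algebra k B] (d : A →ₐ[k] A ⊗[k] R) (p : A →ₐ[k] B) (g : R →ₐ[k] B) : A →ₐ[k] B :=
  (Algebra.TensorProduct.lift p g fun _ _ => .all _ _).comp d

/-- the image of a point under a translation by a group element -/
def tr {A H B : Type u} [CommRing A] [Algebra k A] [CommRing H] [Algebra k H] [CommRing B]
    [Algebra k B] (β : A →ₐ[k] A ⊗[k] H) (p : A →ₐ[k] B) (u : H →ₐ[k] B) : A →ₐ[k] B :=
  (Algebra.TensorProduct.lift p u fun _ _ => .all _ _).comp β

theorem comp_act {A R B C : Type u} [CommRing A] [Algebra k A] [CommRing R] [Algebra k R] [CommRing B]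
    [Algebra k B] [CommRing C] [Algebra k C] (d : A →ₐ[k] A ⊗[k] R) (p : A →ₐ[k] B) (g : R →ₐ[k] B)
    (f : B →ₐ[k] C) : f.comp (act d p g) = act d (f.comp p) (f.comp g) := by
  rw [act, act, ← AlgHom.comp_assoc]
  congr 1
  ext x <;> simp

theorem comp_tr {A R B C : Type u} [CommRing A] [Algebra k A] [CommRing R] [Algebra k R] [CommRing B]
    [Algebra k B] [CommRing C] [Algebra k C] (d : A →ₐ[k] A ⊗[k] R) (p : A →ₐ[k] B) (g : R →ₐ[k] B)
    (f : B →ₐ[k] C) : f.comp (tr d p g) = tr d (f.comp p) (f.comp g) := comp_act d p g f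

variable {H R A : Type u} [CommRing H] [HopfAlgebra k H] [CommRing R] [HopfAlgebra k R]
  [CommRing A] [Algebra k A]

/-- A torsor `A` under `H`, with right actions of `R` on both, compatible. -/
structure Data (dA : A →ₐ[k] A ⊗[k] R) (dH : H →ₐ[k] H ⊗[k] R) (β : A →ₐ[k] A ⊗[k] H) : Prop where
  actA_mul : ∀ (B : Type u) [CommRing B] [Algebra k B] (p : A →ₐ[k] B) (g h : R →ₐ[k] B),
    act dA p (toConv g * toConv h).ofConv = act dA (act dA p g) h
  actA_one : ∀ (B : Type u) [CommRing B] [Algebra k B] (p : A →ₐ[k] B),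
    act dA p (1 : WithConv (R →ₐ[k] B)).ofConv = p
  actH_mul : ∀ (B : Type u) [CommRing B] [Algebra k B] (u : H →ₐ[k] B) (g h : R →ₐ[k] B),
    act dH u (toConv g * toConv h).ofConv = act dH (act dH u g) h
  actH_one : ∀ (B : Type u) [CommRing B] [Algebra k B] (u : H →ₐ[k] B),
    act dH u (1 : WithConv (R →ₐ[k] B)).ofConv = u
  actH_hom : ∀ (B : Type u) [CommRing B] [Algebra k B] (u v : H →ₐ[k] B) (g : R →ₐ[k] B),
    toConv (act dH (toConv u * toConv v).ofConv g) = toConv (act dH u g) * toConv (act dH v g)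
  tr_mul : ∀ (B : Type u) [CommRing B] [Algebra k B] (p : A →ₐ[k] B) (u v : H →ₐ[k] B),
    tr β p (toConv u * toConv v).ofConv = tr β (tr β p v) u
  tr_one : ∀ (B : Type u) [CommRing B] [Algebra k B] (p : A →ₐ[k] B),
    tr β p (1 : WithConv (H →ₐ[k] B)).ofConv = p
  tr_act : ∀ (B : Type u) [CommRing B] [Algebra k B] (p : A →ₐ[k] B) (u : H →ₐ[k] B) (g : R →ₐ[k] B),
    act dA (tr β p u) g = tr β (act dA p g) (act dH u g)
  exists_unique : ∀ (B : Type u) [CommRing B] [Algebra k B] (p q : A →ₐ[k] B),
    ∃! u : H →ₐ[k] B, tr β p u = q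
  nontrivial : Nontrivial A

/-- a primitive is additive on points -/
theorem prim_apply_mul {B : Type u} [CommRing B] [Algebra k B] {x : H} (hx : Diag.IsPrim (k := k) x)
    (u v : WithConv (H →ₐ[k] B)) : (u * v).ofConv x = u.ofConv x + v.ofConv x := by
  rw [AlgHom.convMul_apply, show CoalgebraStruct.comul (R := k) x = _ from hx]
  simp

theorem rc_map {V W X : Type u} [AddCommGroup V] [Module k V] [AddCommGroup W] [Module k W]
    [AddCommGroup X] [Module k X] (f : X →ₗ[k] k) (l : V →ₗ[k] W) (z : V ⊗[k] X) :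
    rc f (l.rTensor X z) = l (rc f z) := rc_rTensor f l z

variable {dA : A →ₐ[k] A ⊗[k] R} {dH : H →ₐ[k] H ⊗[k] R} {β : A →ₐ[k] A ⊗[k] H}

/-- the comodule on the functions of the torsor -/
@[reducible] def comodA (D : Data dA dH β) : HopfRep.Comod k R A where
  coact := dA.toLinearMap
  coassoc := by
    refine LinearMap.ext fun a => ?_
    let p : A →ₐ[k] A ⊗[k] (R ⊗[k] R) := Algebra.TensorProduct.includeLeft
    let g : R →ₐ[k] A ⊗[k] (R ⊗[k] R) :=
      Algebra.TensorProduct.includeRight.comp Algebra.TensorProduct.includeLeft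
    let h : R →ₐ[k] A ⊗[k] (R ⊗[k] R) :=
      Algebra.TensorProduct.includeRight.comp Algebra.TensorProduct.includeRight
    have hgh : (toConv g * toConv h).ofConv =
        Algebra.TensorProduct.includeRight.comp (Bialgebra.comulAlgHom k R) := by
      have h2 := AlgHom.comp_convMul_distrib (Algebra.TensorProduct.includeRight : R ⊗[k] R →ₐ[k] A ⊗[k] (R ⊗[k] R))
        (toConv Algebra.TensorProduct.includeLeft) (toConv Algebra.TensorProduct.includeRight)
      rw [← GMod80.comulAlgHom_eq_lr] at h2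
      simp only [WithConv.ofConv_toConv] at h2
      exact h2.symm
    have key := DFunLike.congr_fun (D.actA_mul _ p g h) a
    rw [hgh] at key
    have e1 : ∀ z : A ⊗[k] R, Algebra.TensorProduct.lift p
        (Algebra.TensorProduct.includeRight.comp (Bialgebra.comulAlgHom k R)) (fun _ _ => .all _ _) z =
        (CoalgebraStruct.comul (R := k) (A := R)).lTensor A z := fun z => by
      induction z with
      | zero => simp
      | tmul x y => simp [p]
      | add x y hx hy => simp only [map_add, hx, hy]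
    have e2 : ∀ z : A ⊗[k] R, Algebra.TensorProduct.lift (act dA p g) h (fun _ _ => .all _ _) z =
        (TensorProduct.assoc k A R R) (dA.toLinearMap.rTensor R z) := fun z => by
      induction z with
      | zero => simp
      | add x y hx hy => simp only [map_add, hx, hy]
      | tmul x y =>
        simp only [Algebra.TensorProduct.lift_tmul, LinearMap.rTensor_tmul, act, AlgHom.comp_apply,
          AlgHom.toLinearMap_apply]
        generalize dA x = w
        induction w with
        | zero => simp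
        | add s t hs ht => simp only [map_add, add_mul, add_tmul, hs, ht]
        | tmul s t => simp [p, g, h]
    exact (e2 (dA a)).symm.trans (key.symm.trans (e1 (dA a)))
  counit_comp := by
    refine LinearMap.ext fun a => ?_
    have key := DFunLike.congr_fun (D.actA_one A (AlgHom.id k A)) a
    have e1 : ∀ z : A ⊗[k] R, (Algebra.TensorProduct.lift (AlgHom.id k A)
        ((1 : WithConv (R →ₐ[k] A)).ofConv) (fun _ _ => .all _ _) z) ⊗ₜ[k] (1 : k) =
        (CoalgebraStruct.counit (R := k) (A := R)).lTensor A z := fun z => by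
      induction z with
      | zero => simp
      | add x y hx hy => simp only [map_add, add_tmul, hx, hy]
      | tmul x y =>
        simp only [Algebra.TensorProduct.lift_tmul, AlgHom.id_apply, LinearMap.lTensor_tmul,
          AlgHom.convOne_apply]
        rw [← Algebra.commutes, ← Algebra.smul_def, smul_tmul, smul_eq_mul, mul_one]
    show (CoalgebraStruct.counit (R := k) (A := R)).lTensor A (dA a) = a ⊗ₜ[k] (1 : k)
    rw [← e1 (dA a)]
    exact congrArg (· ⊗ₜ[k] (1 : k)) key

/-- the affine functions of the torsor -/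
def aff (β : A →ₐ[k] A ⊗[k] H) : Submodule k A where
  carrier := {a | ∃ x : H, β a = a ⊗ₜ[k] (1 : H) + (1 : A) ⊗ₜ[k] x}
  zero_mem' := ⟨0, by simp⟩
  add_mem' := by
    rintro a b ⟨x, hx⟩ ⟨y, hy⟩
    exact ⟨x + y, by rw [map_add, hx, hy, add_tmul, tmul_add]; abel⟩
  smul_mem' := by
    rintro c a ⟨x, hx⟩
    exact ⟨c • x, by rw [map_smul, hx, smul_add, smul_tmul', tmul_smul]⟩

theorem tr_apply_aff {B : Type u} [CommRing B] [Algebra k B] (p : A →ₐ[k] B) (u : H →ₐ[k] B)
    {a : A} {x : H} (hx : β a = a ⊗ₜ[k] (1 : H) + (1 : A) ⊗ₜ[k] x) : tr β p u a = p a + u x := by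
  rw [tr, AlgHom.comp_apply, hx]
  simp

theorem one_mem_aff : (1 : A) ∈ aff β := ⟨0, by simp [Algebra.TensorProduct.one_def]⟩

/-- the linear part of an affine function is primitive -/
theorem isPrim_of_aff (D : Data dA dH β) {a : A} {x : H}
    (hx : β a = a ⊗ₜ[k] (1 : H) + (1 : A) ⊗ₜ[k] x) : Diag.IsPrim (k := k) x := by
  let iA : A →ₐ[k] A ⊗[k] (H ⊗[k] H) := Algebra.TensorProduct.includeLeft
  let iH : H ⊗[k] H →ₐ[k] A ⊗[k] (H ⊗[k] H) := Algebra.TensorProduct.includeRight
  let u : H →ₐ[k] A ⊗[k] (H ⊗[k] H) := iH.comp Algebra.TensorProduct.includeLeft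
  let v : H →ₐ[k] A ⊗[k] (H ⊗[k] H) := iH.comp Algebra.TensorProduct.includeRight
  have key := DFunLike.congr_fun (D.tr_mul _ iA u v) a
  rw [tr_apply_aff _ _ hx, tr_apply_aff _ _ hx, tr_apply_aff _ _ hx, add_assoc, add_right_inj] at key
  have hgh : (toConv u * toConv v).ofConv = iH.comp (Bialgebra.comulAlgHom k H) := by
    have h2 := AlgHom.comp_convMul_distrib iH
      (toConv Algebra.TensorProduct.includeLeft) (toConv Algebra.TensorProduct.includeRight)
    rw [← GMod80.comulAlgHom_eq_lr] at h2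
    simp only [WithConv.ofConv_toConv] at h2
    exact h2.symm
  rw [hgh] at key
  haveI := D.nontrivial
  apply Algebra.TensorProduct.includeRight_injective (R := k) (A := A) (B := H ⊗[k] H)
    (algebraMap k A).injective
  show iH (CoalgebraStruct.comul (R := k) x) = iH _
  rw [map_add, show iH (CoalgebraStruct.comul (R := k) x) = iH.comp (Bialgebra.comulAlgHom k H) x from rfl, key,
    add_comm]
  rfl

/-- the linear part of a moved affine function -/
theorem aff_rc (D : Data dA dH β) (f : R →ₗ[k] k) {a : A} {x : H}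
    (hx : β a = a ⊗ₜ[k] (1 : H) + (1 : A) ⊗ₜ[k] x) :
    β (rc f (dA a)) = rc f (dA a) ⊗ₜ[k] (1 : H) + (1 : A) ⊗ₜ[k] rc f (dH x) := by
  let l : A ⊗[k] H →ₐ[k] (A ⊗[k] H) ⊗[k] R := Algebra.TensorProduct.includeLeft
  let p : A →ₐ[k] A ⊗[k] H := Algebra.TensorProduct.includeLeft
  let u : H →ₐ[k] A ⊗[k] H := Algebra.TensorProduct.includeRight
  let g : R →ₐ[k] (A ⊗[k] H) ⊗[k] R := Algebra.TensorProduct.includeRight
  have key := DFunLike.congr_fun (D.tr_act _ (l.comp p) (l.comp u) g) a
  rw [tr_apply_aff _ _ hx] at key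
  have e : ∀ {X : Type u} [CommRing X] [Algebra k X] (d : X →ₐ[k] X ⊗[k] R) (q : X →ₐ[k] A ⊗[k] H) (z : X),
      act d (l.comp q) g z = q.toLinearMap.rTensor R (d z) := by
    intro X _ _ d q z
    rw [act, AlgHom.comp_apply]
    generalize d z = w
    induction w with
    | zero => simp
    | tmul s t => simp [l, g]
    | add s t hs ht => simp only [map_add, hs, ht]
  rw [e, e] at key
  have hl : tr β (l.comp p) (l.comp u) = l.comp β := by
    rw [← comp_tr]
    congr 1
    rw [tr, show Algebra.TensorProduct.lift p u (fun _ _ => .all _ _) = AlgHom.id k (A ⊗[k] H) by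
      ext z <;> simp [p, u], AlgHom.id_comp]
  rw [hl, e] at key
  have key2 := congrArg (rc f) key
  rw [map_add, rc_map, rc_map, rc_map] at key2
  exact key2

theorem isSubcomod_aff (D : Data dA dH β) :
    letI := comodA D
    HopfRep.IsSubcomod (k := k) (A := R) (aff β) := by
  letI := comodA D
  rintro a ⟨x, hx⟩
  exact (mem_range_rTensor_iff _ _).2 fun f => ⟨_, aff_rc D f hx⟩

/-- every primitive is the linear part of an affine function -/
theorem exists_aff (D : Data dA dH β) {x : H} (hx : Diag.IsPrim (k := k) x) :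
    ∃ a : A, β a = a ⊗ₜ[k] (1 : H) + (1 : A) ⊗ₜ[k] x := by
  haveI := D.nontrivial
  let q : A →ₐ[k] A ⊗[k] A := Algebra.TensorProduct.includeLeft
  let p : A →ₐ[k] A ⊗[k] A := Algebra.TensorProduct.includeRight
  obtain ⟨w, hw, -⟩ := D.exists_unique _ p q
  -- the three points
  let i1 : A →ₐ[k] A ⊗[k] (A ⊗[k] A) := Algebra.TensorProduct.includeLeft
  let i2 : A →ₐ[k] A ⊗[k] (A ⊗[k] A) :=
    Algebra.TensorProduct.includeRight.comp Algebra.TensorProduct.includeLeft
  let i3 : A →ₐ[k] A ⊗[k] (A ⊗[k] A) :=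
    Algebra.TensorProduct.includeRight.comp Algebra.TensorProduct.includeRight
  let f12 : A ⊗[k] A →ₐ[k] A ⊗[k] (A ⊗[k] A) := Algebra.TensorProduct.lift i1 i2 fun _ _ => .all _ _
  let f13 : A ⊗[k] A →ₐ[k] A ⊗[k] (A ⊗[k] A) := Algebra.TensorProduct.lift i1 i3 fun _ _ => .all _ _
  let f23 : A ⊗[k] A →ₐ[k] A ⊗[k] (A ⊗[k] A) := Algebra.TensorProduct.lift i2 i3 fun _ _ => .all _ _
  have hf : ∀ (f : A ⊗[k] A →ₐ[k] A ⊗[k] (A ⊗[k] A)),
      tr β (f.comp p) (f.comp w) = f.comp q := fun f => by rw [← comp_tr, hw]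
  have h12 := hf f12
  have h13 := hf f13
  have h23 := hf f23
  simp only [show f12.comp p = i2 from by ext z; simp [f12, p], show f12.comp q = i1 from by ext z; simp [f12, q],
    show f13.comp p = i3 from by ext z; simp [f13, p], show f13.comp q = i1 from by ext z; simp [f13, q],
    show f23.comp p = i3 from by ext z; simp [f23, p], show f23.comp q = i2 from by ext z; simp [f23, q]]
    at h12 h13 h23
  have hco : f13.comp w = (toConv (f12.comp w) * toConv (f23.comp w)).ofConv := by
    refine (D.exists_unique _ i3 i1).unique h13 ?_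
    rw [D.tr_mul, h23, h12]
  have ht : f13 (w x) = f12 (w x) + f23 (w x) := by
    have := DFunLike.congr_fun hco x
    rwa [prim_apply_mul hx] at this
  -- a linear retraction
  obtain ⟨π, hπ⟩ : ∃ π : A →ₗ[k] k, π 1 = 1 := by
    obtain ⟨π, hπ⟩ := Module.Projective.exists_dual_eq_one k (one_ne_zero (α := A))
    exact ⟨π, hπ⟩
  let P : A ⊗[k] (A ⊗[k] A) →ₗ[k] A ⊗[k] A :=
    (TensorProduct.lid k (A ⊗[k] A)).toLinearMap ∘ₗ π.rTensor (A ⊗[k] A)
  let a₀ : A := TensorProduct.lid k A (π.rTensor A (w x))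
  have P13 : ∀ z, P (f13 z) = (1 : A) ⊗ₜ[k] TensorProduct.lid k A (π.rTensor A z) := fun z => by
    induction z with
    | zero => simp
    | tmul s t => simp [P, f13, i1, i3, tmul_smul]
    | add s t hs ht => simp only [map_add, tmul_add, hs, ht]
  have P12 : ∀ z, P (f12 z) = TensorProduct.lid k A (π.rTensor A z) ⊗ₜ[k] (1 : A) := fun z => by
    induction z with
    | zero => simp
    | tmul s t => simp [P, f12, i1, i2, smul_tmul']
    | add s t hs ht => simp only [map_add, add_tmul, hs, ht]
  have P23 : ∀ z, P (f23 z) = z := fun z => by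
    induction z with
    | zero => simp
    | tmul s t => simp [P, f23, i2, i3, hπ]
    | add s t hs ht => simp only [map_add, hs, ht]
  have h2 := congrArg P ht
  rw [map_add, P13, P12, P23] at h2
  refine ⟨-a₀, ?_⟩
  -- evaluate at the universal pair
  let uA : A →ₐ[k] A ⊗[k] H := Algebra.TensorProduct.includeLeft
  let uH : H →ₐ[k] A ⊗[k] H := Algebra.TensorProduct.includeRight
  let f : A ⊗[k] A →ₐ[k] A ⊗[k] H := Algebra.TensorProduct.lift (tr β uA uH) uA fun _ _ => .all _ _
  have hfw : f.comp w = uH := by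
    refine (D.exists_unique _ uA (tr β uA uH)).unique ?_ rfl
    have := congrArg f.comp hw
    rw [comp_tr] at this
    rwa [show f.comp p = uA from by ext z; simp [f, p], show f.comp q = tr β uA uH from by ext z; simp [f, q]] at this
  have hβ : tr β uA uH = β := by
    rw [tr, show Algebra.TensorProduct.lift uA uH (fun _ _ => .all _ _) = AlgHom.id k (A ⊗[k] H) by
      ext z <;> simp [uA, uH], AlgHom.id_comp]
  have h3 := congrArg f h2
  rw [map_add, show f (w x) = uH x from DFunLike.congr_fun hfw x] at h3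
  simp only [f, Algebra.TensorProduct.lift_tmul, map_one, one_mul, mul_one, hβ] at h3
  change uA a₀ = β a₀ + uH x at h3
  rw [map_neg, neg_tmul, show (1 : A) ⊗ₜ[k] x = uH x from rfl, show a₀ ⊗ₜ[k] (1 : H) = uA a₀ from rfl, h3]
  abel

/-- an affine function without linear part is constant -/
theorem exists_const_of_aff (D : Data dA dH β) {a : A}
    (ha : β a = a ⊗ₜ[k] (1 : H)) : ∃ c : k, a = algebraMap k A c := by
  haveI := D.nontrivial
  let q : A →ₐ[k] A ⊗[k] A := Algebra.TensorProduct.includeLeft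
  let p : A →ₐ[k] A ⊗[k] A := Algebra.TensorProduct.includeRight
  obtain ⟨w, hw, -⟩ := D.exists_unique _ p q
  have h := DFunLike.congr_fun hw a
  rw [tr_apply_aff (x := 0) _ _ (by rw [ha, tmul_zero, add_zero]), map_zero, add_zero] at h
  obtain ⟨π, hπ⟩ := Module.Projective.exists_dual_eq_one k (one_ne_zero (α := A))
  refine ⟨π a, ?_⟩
  have := congrArg (fun z => TensorProduct.lid k A (π.rTensor A z)) h
  simp only [p, q, Algebra.TensorProduct.includeRight_apply, Algebra.TensorProduct.includeLeft_apply,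
    LinearMap.rTensor_tmul, TensorProduct.lid_tmul, hπ, one_smul] at this
  rw [Algebra.algebraMap_eq_smul_one]
  exact this

end Groth.Agent.EqTors4
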