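import Groth.Agent.EqTors4.Data
import Groth.Agent.Hopf35.UniPrim
import Groth.Agent.Unip38.Unipotent
import Mathlib.RingTheory.HopfAlgebra.Quotient

/-!
In characteristic zero a torsor under a unipotent group, equivariant for a linearly reductive group,
has a fixed point.
-/

universe u

open TensorProduct WithConv
open Groth.Agent.Comod33

noncomputable section

namespace Groth.Agent.EqTors4

variable {k : Type u} [Field k] [CharZero k]
variable {R : Type u} [CommRing R] [HopfAlgebra k R]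

/-- If the group is trivial, the torsor is a point. -/
theorem exists_fixed_of_trivial {H A : Type u} [CommRing H] [HopfAlgebra k H] [CommRing A] [Algebra k A]
    {dA : A →ₐ[k] A ⊗[k] R} {dH : H →ₐ[k] H ⊗[k] R} {β : A →ₐ[k] A ⊗[k] H} (D : Data dA dH β)
    (hH : Aug.aug k H = ⊥) :
    ∃ p : A →ₐ[k] k, ∀ (B : Type u) [CommRing B] [Algebra k B] (g : R →ₐ[k] B),
      act dA ((Algebra.ofId k B).comp p) g = (Algebra.ofId k B).comp p := by
  haveI := D.nontrivial
  have hone : ∀ (B : Type u) [CommRing B] [Algebra k B] (p q : A →ₐ[k] B), q = p := by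
    intro B _ _ p q
    obtain ⟨u, hu, -⟩ := D.exists_unique B p q
    have : u = (1 : WithConv (H →ₐ[k] B)).ofConv := by
      refine AlgHom.ext fun h => ?_
      have h0 : h - algebraMap k H (CoalgebraStruct.counit (R := k) h) ∈ Aug.aug k H := by
        show Bialgebra.counitAlgHom k H _ = 0
        rw [map_sub, AlgHom.commutes]; exact sub_self _
      rw [hH, Submodule.mem_bot, sub_eq_zero] at h0
      conv_lhs => rw [h0, AlgHom.commutes]
      rw [AlgHom.convOne_apply]
    rw [← hu, this, D.tr_one]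
  have hconst : ∀ a : A, ∃ c : k, algebraMap k A c = a := by
    intro a
    have h := DFunLike.congr_fun (hone (A ⊗[k] A) Algebra.TensorProduct.includeRight
      Algebra.TensorProduct.includeLeft) a
    obtain ⟨π, hπ⟩ := Module.Projective.exists_dual_eq_one k (one_ne_zero (α := A))
    refine ⟨π a, ?_⟩
    have := congrArg (fun z => TensorProduct.lid k A (π.rTensor A z)) h
    simp only [Algebra.TensorProduct.includeRight_apply, Algebra.TensorProduct.includeLeft_apply,
      LinearMap.rTensor_tmul, TensorProduct.lid_tmul, hπ, one_smul] at this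
    rw [Algebra.algebraMap_eq_smul_one]
    exact this
  let e : k ≃ₐ[k] A := AlgEquiv.ofBijective (Algebra.ofId k A) ⟨(algebraMap k A).injective, hconst⟩
  exact ⟨e.symm.toAlgHom, fun B _ _ g => hone B _ _⟩

variable {H : Type u} [CommRing H] [HopfAlgebra k H]
  {A : Type u} [CommRing A] [Algebra k A]
  {dA : A →ₐ[k] A ⊗[k] R} {dH : H →ₐ[k] H ⊗[k] R} {β : A →ₐ[k] A ⊗[k] H}

omit [CharZero k] in
theorem act_comp_quot {X : Type u} [CommRing X] [Algebra k X] (J : Ideal X) (d : X →ₐ[k] X ⊗[k] R)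
    (h : ∀ a ∈ J, ((Algebra.TensorProduct.map (Ideal.Quotient.mkₐ k J) (AlgHom.id k R)).comp d) a = 0)
    {B : Type u} [CommRing B] [Algebra k B] (p : (X ⧸ J) →ₐ[k] B) (g : R →ₐ[k] B) :
    (act (Ideal.Quotient.liftₐ J _ h) p g).comp (Ideal.Quotient.mkₐ k J) =
      act d (p.comp (Ideal.Quotient.mkₐ k J)) g := by
  refine AlgHom.ext fun a => ?_
  simp only [act, AlgHom.comp_apply, Ideal.Quotient.mkₐ_eq_mk, Ideal.Quotient.liftₐ_apply,
    Ideal.Quotient.lift_mk]
  show Algebra.TensorProduct.lift p g _ (Algebra.TensorProduct.map (Ideal.Quotient.mkₐ k J) (AlgHom.id k R) (d a)) = _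
  generalize d a = z
  induction z with
  | zero => simp
  | tmul s t => simp
  | add s t hs ht => simp only [map_add, hs, ht]

omit [CharZero k] in
/-- A stable complement to the constants among the affine functions. -/
theorem exists_affine_complement (hLR : HopfRep.IsLinearlyReductive k R) (D : Data dA dH β) :
    ∃ W : Submodule k A, W ≤ aff β ∧ (∀ (f : R →ₗ[k] k), ∀ a ∈ W, rc f (dA a) ∈ W) ∧
      (∀ a ∈ W, a ∈ k ∙ (1 : A) → a = 0) ∧ aff β ≤ W ⊔ k ∙ (1 : A) := by
  letI cA := comodA D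
  let F : Submodule k A := aff β
  have hFs : HopfRep.IsSubcomod (k := k) (A := R) F := isSubcomod_aff D
  letI cF := ComodSub.Comod.restr cA F hFs
  have hincl : Hoch.IsComodHom R F.subtype := ComodSub.isComodHom_subtype cA F hFs
  have hd1 : dA 1 = (1 : A) ⊗ₜ[k] (1 : R) := by rw [map_one, Algebra.TensorProduct.one_def]
  have h1 : HopfRep.IsSubcomod (k := k) (A := R) (k ∙ (1 : A)) := by
    intro w hw
    obtain ⟨c, rfl⟩ := Submodule.mem_span_singleton.1 hw
    refine ⟨(⟨c • 1, hw⟩ : (k ∙ (1 : A) : Submodule k A)) ⊗ₜ[k] (1 : R), ?_⟩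
    show (c • (1 : A)) ⊗ₜ[k] (1 : R) = dA (c • 1)
    rw [map_smul, hd1, smul_tmul']
  obtain ⟨W', hW', hcompl⟩ := LinRed34.isSemisimpleComod hLR F ((k ∙ (1 : A)).comap F.subtype)
    (isSubcomod_comap h1 hincl)
  refine ⟨W'.map F.subtype, Submodule.map_subtype_le _ _, ?_, ?_, ?_⟩
  · rintro f _ ⟨y, hy, rfl⟩
    exact ⟨dact (A := R) (V := F) f y, (isSubcomod_iff W').1 hW' f y hy, IsComodHom.dact hincl f y⟩
  · rintro _ ⟨y, hy, rfl⟩ h
    have hy' : y ∈ (k ∙ (1 : A)).comap F.subtype ⊓ W' := ⟨h, hy⟩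
    rw [hcompl.inf_eq_bot, Submodule.mem_bot] at hy'
    rw [hy', map_zero]
  · intro a ha
    have hmem : (⟨a, ha⟩ : F) ∈ (k ∙ (1 : A)).comap F.subtype ⊔ W' := by
      rw [hcompl.sup_eq_top]; exact Submodule.mem_top
    obtain ⟨y, hy, z, hz, hyz⟩ := Submodule.mem_sup.1 hmem
    rw [show a = (z : A) + (y : A) by rw [add_comm]; exact (congrArg Subtype.val hyz).symm]
    exact Submodule.add_mem_sup ⟨z, hz, rfl⟩ hy

/-- One step: kill a non-zero space of primitives stably, together with affine functions lifting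
them. -/
theorem exists_step [Algebra.FiniteType k H] (hU : HopfRep.IsUnipotent k H)
    (hLR : HopfRep.IsLinearlyReductive k R) (D : Data dA dH β) (hH : Aug.aug k H ≠ ⊥) :
    ∃ (I : Ideal H) (_ : I.IsHopfIdeal k) (J : Ideal A) (dA' : A ⧸ J →ₐ[k] (A ⧸ J) ⊗[k] R)
      (dH' : H ⧸ I →ₐ[k] (H ⧸ I) ⊗[k] R) (β' : A ⧸ J →ₐ[k] (A ⧸ J) ⊗[k] (H ⧸ I)),
      I ≠ ⊥ ∧ Data dA' dH' β' ∧ ∀ (B : Type u) [CommRing B] [Algebra k B] (p : A ⧸ J →ₐ[k] B) (g : R →ₐ[k] B),
        (act dA' p g).comp (Ideal.Quotient.mkₐ k J) = act dA (p.comp (Ideal.Quotient.mkₐ k J)) g := by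
  classical
  haveI := D.nontrivial
  obtain ⟨W, hWF, hWst, hW1, hWsup⟩ := exists_affine_complement hLR D
  let b := Module.Free.chooseBasis k W
  let a : Module.Free.ChooseBasisIndex k W → A := fun i => (b i : A)
  have haF : ∀ i, a i ∈ aff β := fun i => hWF (b i).2
  choose x hx using haF
  have hxp : ∀ i, Diag.IsPrim (k := k) (x i) := fun i => isPrim_of_aff D (hx i)
  have inj1 : Function.Injective fun h : H => (1 : A) ⊗ₜ[k] h :=
    Algebra.TensorProduct.includeRight_injective (R := k) (A := A) (B := H) (algebraMap k A).injective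
  -- linear relations
  have hrel : ∀ c : Module.Free.ChooseBasisIndex k W →₀ k,
      β (Finsupp.linearCombination k a c) = Finsupp.linearCombination k a c ⊗ₜ[k] (1 : H) +
        (1 : A) ⊗ₜ[k] Finsupp.linearCombination k x c := by
    intro c
    simp only [Finsupp.linearCombination_apply, Finsupp.sum, map_sum, map_smul, sum_tmul, tmul_sum,
      ← Finset.sum_add_distrib]
    exact Finset.sum_congr rfl fun i _ => by rw [hx i, smul_add, smul_tmul', tmul_smul]
  have haW : ∀ c, Finsupp.linearCombination k a c = ((Finsupp.linearCombination k b c : W) : A) := by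
    intro c
    rw [show a = W.subtype ∘ b from rfl, ← LinearMap.map_finsupp_linearCombination]
    rfl
  have hli : LinearIndependent k x := by
    rw [linearIndependent_iff]
    intro c hc
    have h := hrel c
    rw [hc, tmul_zero, add_zero] at h
    obtain ⟨t, ht⟩ := exists_const_of_aff D h
    rw [haW] at ht
    have h0 := hW1 _ (Finsupp.linearCombination k b c).2 (Submodule.mem_span_singleton.2
      ⟨t, by rw [← Algebra.algebraMap_eq_smul_one]; exact ht.symm⟩)
    exact linearIndependent_iff.1 b.linearIndependent c (Subtype.ext h0)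
  -- some primitive is nonzero
  have hne : Ideal.span (Set.range x) ≠ ⊥ := by
    intro hbot
    obtain ⟨w, hw, hw0⟩ := Hopf35.Uni.exists_prim_ne_zero hU hH
    obtain ⟨a₀, ha₀⟩ := exists_aff D hw
    obtain ⟨z, hz, y, hy, hyz⟩ := Submodule.mem_sup.1 (hWsup (show a₀ ∈ aff β from ⟨w, ha₀⟩))
    obtain ⟨t, rfl⟩ := Submodule.mem_span_singleton.1 hy
    have hyz' : a₀ = t • (1 : A) + Finsupp.linearCombination k a (b.repr ⟨z, hz⟩) := by
      rw [haW, b.linearCombination_repr, add_comm]
      exact hyz.symm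
    have := ha₀
    rw [hyz', map_add, map_smul, map_one, hrel, Algebra.TensorProduct.one_def, add_tmul, ← smul_tmul',
      add_assoc, add_right_inj, add_right_inj] at this
    refine hw0 ((inj1 this).symm.trans ?_)
    rw [Finsupp.linearCombination_apply, Finsupp.sum]
    exact Finset.sum_eq_zero fun i _ => by
      rw [(Submodule.eq_bot_iff _).1 hbot (x i) (Ideal.subset_span ⟨i, rfl⟩), smul_zero]
  let I : Ideal H := Ideal.span (Set.range x)
  haveI hI : I.IsHopfIdeal k := isHopfIdeal_span_prims hxp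
  let J : Ideal A := Ideal.span (Set.range a)
  let mI := Ideal.Quotient.mkₐ k I
  let mJ := Ideal.Quotient.mkₐ k J
  have mIx : ∀ i, mI (x i) = 0 := fun i => Ideal.Quotient.eq_zero_iff_mem.2 (Ideal.subset_span ⟨i, rfl⟩)
  have mJa : ∀ i, mJ (a i) = 0 := fun i => Ideal.Quotient.eq_zero_iff_mem.2 (Ideal.subset_span ⟨i, rfl⟩)
  have mIc : ∀ c, mI (Finsupp.linearCombination k x c) = 0 := fun c => by
    rw [Finsupp.linearCombination_apply, Finsupp.sum, map_sum]
    exact Finset.sum_eq_zero fun i _ => by rw [map_smul, mIx, smul_zero]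
  have mJc : ∀ c, mJ (Finsupp.linearCombination k a c) = 0 := fun c => by
    rw [Finsupp.linearCombination_apply, Finsupp.sum, map_sum]
    exact Finset.sum_eq_zero fun i _ => by rw [map_smul, mJa, smul_zero]
  -- stability of the span
  have hmove : ∀ (f : R →ₗ[k] k) i, ∃ c, rc f (dA (a i)) = Finsupp.linearCombination k a c ∧
      rc f (dH (x i)) = Finsupp.linearCombination k x c := by
    intro f i
    have hm : rc f (dA (a i)) ∈ W := hWst f _ (b i).2
    refine ⟨b.repr ⟨_, hm⟩, ?_, ?_⟩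
    · rw [haW, b.linearCombination_repr]
    · have h := aff_rc D f (hx i)
      have hc : rc f (dA (a i)) = Finsupp.linearCombination k a (b.repr ⟨_, hm⟩) := by
        rw [haW, b.linearCombination_repr]
      rw [hc, hrel, add_right_inj] at h
      exact (inj1 h).symm
  have hkA : ∀ z ∈ J, ((Algebra.TensorProduct.map mJ (AlgHom.id k R)).comp dA) z = 0 := by
    intro z hz
    refine (Ideal.span_le.2 ?_ : J ≤ RingHom.ker ((Algebra.TensorProduct.map mJ (AlgHom.id k R)).comp dA)) hz
    rintro _ ⟨i, rfl⟩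
    show mJ.toLinearMap.rTensor R (dA (a i)) = 0
    refine eq_of_rc fun f => ?_
    obtain ⟨c, hc, -⟩ := hmove f i
    rw [rc_map, map_zero, hc]
    exact mJc c
  have hkH : ∀ z ∈ I, ((Algebra.TensorProduct.map mI (AlgHom.id k R)).comp dH) z = 0 := by
    intro z hz
    refine (Ideal.span_le.2 ?_ : I ≤ RingHom.ker ((Algebra.TensorProduct.map mI (AlgHom.id k R)).comp dH)) hz
    rintro _ ⟨i, rfl⟩
    show mI.toLinearMap.rTensor R (dH (x i)) = 0
    refine eq_of_rc fun f => ?_
    obtain ⟨c, -, hc⟩ := hmove f i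
    rw [rc_map, map_zero, hc]
    exact mIc c
  have hkβ : ∀ z ∈ J, ((Algebra.TensorProduct.map mJ mI).comp β) z = 0 := by
    intro z hz
    refine (Ideal.span_le.2 ?_ : J ≤ RingHom.ker ((Algebra.TensorProduct.map mJ mI).comp β)) hz
    rintro _ ⟨i, rfl⟩
    show Algebra.TensorProduct.map mJ mI (β (a i)) = 0
    rw [hx i, map_add, Algebra.TensorProduct.map_tmul, Algebra.TensorProduct.map_tmul, mJa, mIx,
      zero_tmul, tmul_zero, add_zero]
  let dA' := Ideal.Quotient.liftₐ J _ hkA
  let dH' := Ideal.Quotient.liftₐ I _ hkH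
  let β' := Ideal.Quotient.liftₐ J _ hkβ
  have eA : ∀ (B : Type u) [CommRing B] [Algebra k B] (p : A ⧸ J →ₐ[k] B) (g : R →ₐ[k] B),
      (act dA' p g).comp mJ = act dA (p.comp mJ) g := fun B _ _ p g => act_comp_quot J dA hkA p g
  have eH : ∀ (B : Type u) [CommRing B] [Algebra k B] (p : H ⧸ I →ₐ[k] B) (g : R →ₐ[k] B),
      (act dH' p g).comp mI = act dH (p.comp mI) g := fun B _ _ p g => act_comp_quot I dH hkH p g
  have eβ : ∀ (B : Type u) [CommRing B] [Algebra k B] (p : A ⧸ J →ₐ[k] B) (u : H ⧸ I →ₐ[k] B),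
      (tr β' p u).comp mJ = tr β (p.comp mJ) (u.comp mI) := by
    intro B _ _ p u
    refine AlgHom.ext fun z => ?_
    show Algebra.TensorProduct.lift p u (fun _ _ => .all _ _) (Algebra.TensorProduct.map mJ mI (β z)) =
      Algebra.TensorProduct.lift (p.comp mJ) (u.comp mI) (fun _ _ => .all _ _) (β z)
    generalize β z = w
    induction w with
    | zero => simp
    | tmul s t => simp
    | add s t hs ht => simp only [map_add, hs, ht]
  have mext : ∀ {B : Type u} [CommRing B] [Algebra k B] {p q : A ⧸ J →ₐ[k] B},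
      p.comp mJ = q.comp mJ → p = q := fun h => Ideal.Quotient.algHom_ext _ h
  have mextH : ∀ {B : Type u} [CommRing B] [Algebra k B] {p q : H ⧸ I →ₐ[k] B},
      p.comp mI = q.comp mI → p = q := fun h => Ideal.Quotient.algHom_ext _ h
  let mB : H →ₐc[k] H ⧸ I := Bialgebra.Quotient.mkBialgHom (R := k) I
  have conv : ∀ {B : Type u} [CommRing B] [Algebra k B] (u v : H ⧸ I →ₐ[k] B),
      (toConv u * toConv v).ofConv.comp mI = (toConv (u.comp mI) * toConv (v.comp mI)).ofConv :=
    fun u v => AlgHom.convMul_comp_bialgHom_distrib (toConv u) (toConv v) mB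
  have convone : ∀ {B : Type u} [CommRing B] [Algebra k B],
      ((1 : WithConv (H ⧸ I →ₐ[k] B)).ofConv).comp mI = (1 : WithConv (H →ₐ[k] B)).ofConv := by
    intro B _ _
    refine AlgHom.ext fun z => ?_
    show (1 : WithConv (H ⧸ I →ₐ[k] B)).ofConv (mB z) = _
    rw [AlgHom.convOne_apply, AlgHom.convOne_apply]
    exact congrArg _ (CoalgHomClass.counit_comp_apply mB z)
  have hkill : ∀ {B : Type u} [CommRing B] [Algebra k B] (u : H →ₐ[k] B),
      (∀ i, u (x i) = 0) → ∀ z ∈ I, u z = 0 := fun u h z hz =>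
    (Ideal.span_le.2 (by rintro _ ⟨i, rfl⟩; exact h i) : I ≤ RingHom.ker u) hz
  refine ⟨I, hI, J, dA', dH', β', hne, ?_, eA⟩
  constructor
  · intro B _ _ p g h
    exact mext (by rw [eA, eA, eA, D.actA_mul])
  · intro B _ _ p
    exact mext (by rw [eA, D.actA_one])
  · intro B _ _ u g h
    exact mextH (by rw [eH, eH, eH, D.actH_mul])
  · intro B _ _ u
    exact mextH (by rw [eH, D.actH_one])
  · intro B _ _ u v g
    apply WithConv.ofConv_injective
    apply mextH
    rw [ofConv_toConv, eH, conv, conv, eH, eH, ← D.actH_hom, ofConv_toConv]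
  · intro B _ _ p u v
    exact mext (by rw [eβ, eβ, eβ, conv, D.tr_mul])
  · intro B _ _ p
    exact mext (by rw [eβ, convone, D.tr_one])
  · intro B _ _ p u g
    exact mext (by rw [eA, eβ, eβ, eA, eH, D.tr_act])
  · intro B _ _ p q
    obtain ⟨w, hw, huniq⟩ := D.exists_unique B (p.comp mJ) (q.comp mJ)
    have hw0 : ∀ i, w (x i) = 0 := fun i => by
      have := DFunLike.congr_fun hw (a i)
      rw [tr_apply_aff _ _ (hx i)] at this
      simpa [mJa] using this
    have hcomp : (Ideal.Quotient.liftₐ I w (hkill w hw0)).comp mI = w := AlgHom.ext fun z => rfl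
    refine ⟨Ideal.Quotient.liftₐ I w (hkill w hw0), mext (by rw [eβ, hcomp, hw]), fun u hu => mextH ?_⟩
    rw [hcomp]
    exact huniq _ (show tr β (p.comp mJ) (u.comp mI) = q.comp mJ by rw [← eβ, hu])
  · obtain ⟨B, _, _, _, p, u, hpu⟩ := exists_point_prims hU hxp hli (A := A) fun i => -a i
    have hq : ∀ z ∈ J, tr β p u z = 0 := fun z hz =>
      (Ideal.span_le.2 (by
        rintro _ ⟨i, rfl⟩
        show tr β p u (a i) = 0
        rw [tr_apply_aff _ _ (hx i), hpu, map_neg, add_neg_cancel]) : J ≤ RingHom.ker (tr β p u)) hz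
    exact (Ideal.Quotient.liftₐ J (tr β p u) hq).toRingHom.domain_nontrivial

/-- The fixed point theorem, by induction on the group. -/
theorem exists_fixed (hLR : HopfRep.IsLinearlyReductive k R)
    {H₀ : Type u} [CommRing H₀] [HopfAlgebra k H₀] [Algebra.FiniteType k H₀] (hU₀ : HopfRep.IsUnipotent k H₀)
    {A₀ : Type u} [CommRing A₀] [Algebra k A₀] {dA₀ : A₀ →ₐ[k] A₀ ⊗[k] R} {dH₀ : H₀ →ₐ[k] H₀ ⊗[k] R}
    {β₀ : A₀ →ₐ[k] A₀ ⊗[k] H₀} (D₀ : Data dA₀ dH₀ β₀) :
    ∃ p : A₀ →ₐ[k] k, ∀ (B : Type u) [CommRing B] [Algebra k B] (g : R →ₐ[k] B),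
      act dA₀ ((Algebra.ofId k B).comp p) g = (Algebra.ofId k B).comp p := by
  haveI : IsNoetherianRing H₀ := Algebra.FiniteType.isNoetherianRing k H₀
  suffices h : ∀ (K : Ideal H₀) (H : Type u) [CommRing H] [HopfAlgebra k H] (π : H₀ →ₐc[k] H),
      Function.Surjective π → RingHom.ker (π : H₀ →ₐ[k] H) = K →
      ∀ (A : Type u) [CommRing A] [Algebra k A] (dA : A →ₐ[k] A ⊗[k] R) (dH : H →ₐ[k] H ⊗[k] R)
        (β : A →ₐ[k] A ⊗[k] H), Data dA dH β →
        ∃ p : A →ₐ[k] k, ∀ (B : Type u) [CommRing B] [Algebra k B] (g : R →ₐ[k] B),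
          act dA ((Algebra.ofId k B).comp p) g = (Algebra.ofId k B).comp p from
    h _ H₀ (BialgHom.id k H₀) Function.surjective_id rfl A₀ dA₀ dH₀ β₀ D₀
  intro K
  induction K using WellFoundedGT.induction with
  | _ K ih =>
    intro H _ _ π hπ hK A _ _ dA dH β D
    haveI : Algebra.FiniteType k H := Algebra.FiniteType.of_surjective (π : H₀ →ₐ[k] H) hπ
    by_cases hH : Aug.aug k H = ⊥
    · exact exists_fixed_of_trivial D hH
    obtain ⟨I, hI, J, dA', dH', β', hne, D', e⟩ :=
      exists_step (Unip38.isUnipotent_of_surjective π hπ hU₀) hLR D hH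
    let π' : H₀ →ₐc[k] H ⧸ I := (Bialgebra.Quotient.mkBialgHom (R := k) I).comp π
    have hlt : K < RingHom.ker (π' : H₀ →ₐ[k] H ⧸ I) := by
      rw [← hK]
      refine lt_of_le_of_ne (fun z hz => ?_) fun heq => hne ?_
      · show Ideal.Quotient.mk I (π z) = 0
        rw [show π z = 0 from hz, map_zero]
      · rw [eq_bot_iff]
        intro z hz
        obtain ⟨z₀, rfl⟩ := hπ z
        have : z₀ ∈ RingHom.ker (π : H₀ →ₐ[k] H) :=
          heq.ge (Ideal.Quotient.eq_zero_iff_mem.2 hz)
        exact this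
    obtain ⟨p, hp⟩ := ih _ hlt (H ⧸ I) π' (Ideal.Quotient.mk_surjective.comp hπ) rfl (A ⧸ J) dA' dH' β' D'
    refine ⟨p.comp (Ideal.Quotient.mkₐ k J), fun B _ _ g => ?_⟩
    have := congrArg (fun q : A ⧸ J →ₐ[k] B => q.comp (Ideal.Quotient.mkₐ k J)) (hp B g)
    simp only [e] at this
    simpa only [AlgHom.comp_assoc] using this

end Groth.Agent.EqTors4
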