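import Groth.Agent.EqTors4.Scheme
import Groth.Agent.GMod80.Dict
import Groth.Prelude.Def_Par
import Groth.Prelude.Def_AGF
import Mathlib.AlgebraicGeometry.Sites.Fpqc

/-!
Two homomorphisms from a linearly reductive group which agree modulo a normal unipotent subgroup
are conjugate by a point of that subgroup, in characteristic zero.
-/

universe u

open CategoryTheory CategoryTheory.Limits MonoidalCategory CartesianMonoidalCategory MonObj GrpObj AlgebraicGeometry

set_option backward.isDefEq.respectTransparency false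
set_option backward.isDefEq.respectTransparency.types false

noncomputable section

namespace Groth.Agent.EqTors4

variable {S : Scheme.{u}}

/-- an action from its effect on points -/
def actionOfPts {G X : Over S} [GrpObj G] (act : G ⊗ X ⟶ X)
    (h1 : ∀ (T : Over S) (x : T ⟶ X), lift (1 : T ⟶ G) x ≫ act = x)
    (hm : ∀ (T : Over S) (g h : T ⟶ G) (x : T ⟶ X),
      lift (g * h) x ≫ act = lift g (lift h x ≫ act) ≫ act) : AlgGrp.Action G X where
  act := act
  one_act := by
    have h := h1 (𝟙_ (Over S) ⊗ X) (snd _ _)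
    rw [leftUnitor_hom]
    refine Eq.trans ?_ h
    congr 1
  mul_act := by
    have h := hm ((G ⊗ G) ⊗ X) (fst _ _ ≫ fst G G) (fst _ _ ≫ snd G G) (snd _ _)
    rw [Hom.mul_def] at h
    refine Eq.trans (Eq.trans ?_ h) ?_
    · congr 1
      apply CartesianMonoidalCategory.hom_ext
      · simp only [whiskerRight_fst, lift_fst, ← comp_lift, lift_fst_snd, Category.comp_id]
      · simp
    · have e : (α_ G G X).hom = lift (fst _ _ ≫ fst G G) (lift (fst _ _ ≫ snd G G) (snd _ _)) := by
        apply CartesianMonoidalCategory.hom_ext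
        · simp
        · rw [lift_snd]; apply CartesianMonoidalCategory.hom_ext <;> simp
      rw [e, lift_whiskerLeft_assoc]

variable {k : Type u} [Field k] [CharZero k]
  {G U G' : Over (Spec (CommRingCat.of k))} [GrpObj G] [GrpObj U] [GrpObj G']

/-- Two homomorphisms out of a linearly reductive group agreeing modulo a normal unipotent subgroup
are conjugate by a point of it. -/
theorem exists_conj {R : Type u} [CommRing R] [HopfAlgebra k R] (ψ : GMod80.sp k R ≅ G') [IsMonHom ψ.hom]
    (hR : HopfRep.IsLinearlyReductive k R)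
    {H : Type u} [CommRing H] [HopfAlgebra k H] [Algebra.FiniteType k H] (φ : GMod80.sp k H ≅ U)
    [IsMonHom φ.hom] (hH : HopfRep.IsUnipotent k H)
    (u : U ⟶ G) [IsMonHom u] [Mono u] (hn : AlgGrp.IsNormalHom u)
    (f₁ f₂ : G' ⟶ G) [IsMonHom f₁] [IsMonHom f₂]
    (hagree : ∀ (T : Over (Spec (CommRingCat.of k))) (x : T ⟶ G'), ∃ w : T ⟶ U, x ≫ f₂ = (w ≫ u) * (x ≫ f₁)) :
    ∃ v : 𝟙_ (Over (Spec (CommRingCat.of k))) ⟶ U, f₂ = AGF.conjBy (v ≫ u) f₁ := by
  obtain ⟨cm, hcm⟩ := hn (G' ⊗ U) (fst G' U ≫ f₁) (snd G' U)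
  obtain ⟨w, hw⟩ := hagree G' (𝟙 G')
  rw [Category.id_comp, Category.id_comp] at hw
  have hcp : ∀ (T : Over (Spec (CommRingCat.of k))) (g : T ⟶ G') (p : T ⟶ U),
      (lift g p ≫ cm) ≫ u = (g ≫ f₁) * (p ≫ u) * (g ≫ f₁)⁻¹ := fun T g p => by
    rw [Category.assoc, ← hcm]
    simp [MonObj.comp_mul, GrpObj.comp_inv]
  -- the twisted action
  let dm : G' ⊗ U ⟶ U := (fst G' U ≫ w) * cm
  have hdp : ∀ (T : Over (Spec (CommRingCat.of k))) (g : T ⟶ G') (p : T ⟶ U),
      (lift g p ≫ dm) ≫ u = (g ≫ f₂) * (p ≫ u) * (g ≫ f₁)⁻¹ := fun T g p => by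
    rw [MonObj.comp_mul, MonObj.mul_comp, hcp, lift_fst_assoc, hw, MonObj.comp_mul, Category.assoc]
    group
  let c : AlgGrp.Action G' U := actionOfPts cm
    (fun T x => by
      rw [← cancel_mono u, hcp, MonObj.one_comp]
      group)
    (fun T g h x => by
      rw [← cancel_mono u, hcp, hcp, hcp, MonObj.mul_comp]
      group)
  let d : AlgGrp.Action G' U := actionOfPts dm
    (fun T x => by
      rw [← cancel_mono u, hdp, MonObj.one_comp, MonObj.one_comp]
      group)
    (fun T g h x => by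
      rw [← cancel_mono u, hdp, hdp, hdp, MonObj.mul_comp, MonObj.mul_comp]
      group)
  let bm : U ⊗ U ⟶ U := snd U U * (fst U U)⁻¹
  have hbp : ∀ (T : Over (Spec (CommRingCat.of k))) (v p : T ⟶ U), lift v p ≫ bm = p * v⁻¹ := fun T v p => by
    simp [bm, MonObj.comp_mul, GrpObj.comp_inv]
  let b : AlgGrp.Action U U := actionOfPts bm
    (fun T x => by rw [hbp]; group)
    (fun T g h x => by rw [hbp, hbp, hbp]; group)
  have hb : NonAbH1.IsTorsorFor Scheme.fpqcPrecoverage b := by
    refine ⟨?_, Presieve.singleton (𝟙 _), ?_, ?_⟩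
    · refine ⟨lift ((fst U U)⁻¹ * snd U U) (snd U U), ?_, ?_⟩
      · apply CartesianMonoidalCategory.hom_ext
        · simp only [Category.assoc, lift_fst, Category.id_comp, MonObj.comp_mul, GrpObj.comp_inv, lift_snd]
          show (bm)⁻¹ * snd U U = fst U U
          simp [bm]
        · simp
      · rw [comp_lift, show b.act = bm from rfl, hbp, lift_snd]
        apply CartesianMonoidalCategory.hom_ext
        · simp
        · simp
    · exact Scheme.zariskiPrecoverage_le_fpqcPrecoverage _ (Precoverage.mem_coverings_of_isIso _)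
    · rintro S' f ⟨⟩
      exact ⟨(η[U]).left, Over.w η[U]⟩
  obtain ⟨x, hx⟩ := exists_fixedPt ψ hR φ hH c
    (fun T g u₁ u₂ => by
      show lift g (u₁ * u₂) ≫ cm = (lift g u₁ ≫ cm) * (lift g u₂ ≫ cm)
      rw [← cancel_mono u, hcp, MonObj.mul_comp, MonObj.mul_comp, hcp, hcp]
      group)
    d b hb (fun T g v p => by
      show lift g (lift v p ≫ bm) ≫ dm = lift (lift g v ≫ cm) (lift g p ≫ dm) ≫ bm
      rw [hbp, hbp, ← cancel_mono u, hdp, MonObj.mul_comp, MonObj.mul_comp, hdp, GrpObj.inv_comp,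
        GrpObj.inv_comp, hcp]
      group)
  refine ⟨x, ?_⟩
  have h := congrArg (· ≫ u) (hx G' (𝟙 G'))
  simp only [show d.act = dm from rfl, hdp, Category.id_comp, Category.assoc] at h
  rw [AGF.conjBy]
  calc f₂ = f₂ * (toUnit G' ≫ x ≫ u) * f₁⁻¹ * f₁ * (toUnit G' ≫ x ≫ u)⁻¹ := by group
    _ = _ := by rw [h]

theorem connectedSpace_of_geomFibre {k : Type u} [Field k] (s : ↥(Spec (CommRingCat.of k)))
    (U : Over (Spec (CommRingCat.of k))) (h : ConnectedSpace (Red.geomFibre s U).left) :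
    ConnectedSpace U.left := by
  let f := pullback.fst U.hom (Red.geomPt s)
  haveI : ConnectedSpace ↥(pullback U.hom (Red.geomPt s)) := h
  haveI : Surjective (Red.geomPt s) :=
    ⟨fun z => ⟨default, @Subsingleton.elim _ (inferInstanceAs (Subsingleton (PrimeSpectrum k))) _ _⟩⟩
  haveI : Surjective f := MorphismProperty.pullback_fst _ _ ‹_›
  exact (Scheme.Hom.surjective f).connectedSpace f.continuous

/-- the form for a reductive source and the unipotent radical -/
theorem exists_conj_of_agree (G : Over (Spec (CommRingCat.of k))) [GrpObj G] [IsAffine G.left]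
    [LocallyOfFiniteType G.hom]
    (U : Over (Spec (CommRingCat.of k))) [GrpObj U] (u : U ⟶ G) (hU : Par.IsUnipotentRadical u)
    (G' : Over (Spec (CommRingCat.of k))) [GrpObj G'] (hG' : Red.IsReductive G')
    (f₁ f₂ : G' ⟶ G) [IsMonHom f₁] [IsMonHom f₂]
    (hagree : ∀ (T : Over (Spec (CommRingCat.of k))) (x : T ⟶ G'), ∃ w : T ⟶ U, x ≫ f₂ = (w ≫ u) * (x ≫ f₁)) :
    ∃ v : 𝟙_ (Over (Spec (CommRingCat.of k))) ⟶ U, f₂ = AGF.conjBy (v ≫ u) f₁ := by
  obtain ⟨hu, hcl, hn, hsm, -, hgeo, -⟩ := hU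
  haveI := hu
  haveI := hcl
  haveI := hsm
  haveI : IsAffine U.left := isAffine_of_isAffineHom u.left
  haveI : Mono u.left := inferInstance
  haveI : Mono u := Over.mono_of_mono_left u
  obtain ⟨R, _, _, ψ, hψ, -, hR⟩ := GIT36.AffQuot.exists_coord_linRed G' hG'
  haveI := hψ
  obtain ⟨H, _, _, φ, hφ⟩ := GMod80.exists_coord U
  haveI := hφ
  haveI : Algebra.FiniteType k H := GMod80.finiteType φ
  obtain ⟨s⟩ : Nonempty ↥(Spec (CommRingCat.of k)) := inferInstanceAs (Nonempty (PrimeSpectrum k))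
  obtain ⟨hconn, hno⟩ := hgeo s
  haveI : ConnectedSpace U.left := connectedSpace_of_geomFibre s U hconn
  exact exists_conj ψ hR φ (isUnipotent_coord φ s hno) u hn f₁ f₂ hagree

end Groth.Agent.EqTors4
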