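import Groth.Agent.EqTors4.RadLR
import Groth.Agent.EqTors4.Twist
import Groth.Agent.GIT36.LinRedChar0.Geom
import Groth.Agent.Unip38.Extension
import Groth.Agent.Unip38.Infinitesimal

/-!
A complement of the unipotent radical is linearly reductive, in characteristic zero.
-/

universe u

open CategoryTheory CategoryTheory.Limits MonoidalCategory CartesianMonoidalCategory MonObj GrpObj AlgebraicGeometry
open WithConv

set_option backward.isDefEq.respectTransparency false
set_option backward.isDefEq.respectTransparency.types false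

noncomputable section

namespace Groth.Agent.EqTors4.Levi

section Cat

variable {S : Scheme.{u}} {G U L : Over S} [GrpObj G] [GrpObj U] [GrpObj L] (u : U ⟶ G) (l : L ⟶ G)
  [IsIso ((l ⊗ₘ u) ≫ μ[G])]

/-- the projection to the complement -/
def proj : G ⟶ L := inv ((l ⊗ₘ u) ≫ μ[G]) ≫ fst L U

/-- the projection to the normal factor -/
def proj' : G ⟶ U := inv ((l ⊗ₘ u) ≫ μ[G]) ≫ snd L U

omit [IsIso ((l ⊗ₘ u) ≫ μ[G])] in
theorem lift_mu {T : Over S} (a : T ⟶ L) (b : T ⟶ U) :
    lift a b ≫ (l ⊗ₘ u) ≫ μ[G] = (a ≫ l) * (b ≫ u) := by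
  rw [Hom.mul_def, lift_map_assoc]

theorem decomp {T : Over S} (x : T ⟶ G) :
    (x ≫ proj u l ≫ l) * (x ≫ proj' u l ≫ u) = x := by
  have h := lift_mu u l (x ≫ proj u l) (x ≫ proj' u l)
  rw [Category.assoc, Category.assoc] at h
  rw [← h, show lift (x ≫ proj u l) (x ≫ proj' u l) = x ≫ inv ((l ⊗ₘ u) ≫ μ[G]) by
    apply CartesianMonoidalCategory.hom_ext <;> simp [proj, proj'], Category.assoc, IsIso.inv_hom_id,
    Category.comp_id]

theorem proj_mul' {T : Over S} (a : T ⟶ L) (b : T ⟶ U) : ((a ≫ l) * (b ≫ u)) ≫ proj u l = a := by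
  rw [← lift_mu u l a b, proj, Category.assoc, IsIso.hom_inv_id_assoc, lift_fst]

variable [IsMonHom u] [IsMonHom l]

theorem proj_u {T : Over S} (b : T ⟶ U) : (b ≫ u) ≫ proj u l = 1 := by
  have h := proj_mul' u l (1 : T ⟶ L) b
  rwa [MonObj.one_comp, _root_.one_mul] at h

theorem proj_l : l ≫ proj u l = 𝟙 L := by
  have h := proj_mul' u l (𝟙 L) (1 : L ⟶ U)
  rwa [MonObj.one_comp, _root_.mul_one, Category.id_comp] at h

theorem proj_mul (hn : AlgGrp.IsNormalHom u) {T : Over S} (x y : T ⟶ G) :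
    (x * y) ≫ proj u l = (x ≫ proj u l) * (y ≫ proj u l) := by
  set a := x ≫ proj u l with ha
  set b := x ≫ proj' u l with hb
  set a' := y ≫ proj u l with ha'
  set b' := y ≫ proj' u l with hb'
  obtain ⟨n, hn'⟩ := hn T (a' ≫ l)⁻¹ b
  rw [_root_.inv_inv] at hn'
  have hx : (a ≫ l) * (b ≫ u) = x := by simpa [ha, hb] using decomp u l x
  have hy : (a' ≫ l) * (b' ≫ u) = y := by simpa [ha', hb'] using decomp u l y
  have e : x * y = ((a * a') ≫ l) * ((n * b') ≫ u) := by
    rw [MonObj.mul_comp, MonObj.mul_comp, ← hn', ← hx, ← hy]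
    group
  rw [e, proj_mul']

theorem isMonHom_proj (hn : AlgGrp.IsNormalHom u) : IsMonHom (proj u l) where
  one_hom := by
    have h1 : (1 : 𝟙_ (Over S) ⟶ G) ≫ proj u l = 1 := by
      have h := proj_mul' u l (1 : 𝟙_ (Over S) ⟶ L) (1 : 𝟙_ (Over S) ⟶ U)
      rwa [MonObj.one_comp, MonObj.one_comp, _root_.one_mul] at h
    simpa [Hom.one_def] using h1
  mul_hom := by
    have h := proj_mul u l hn (fst G G) (snd G G)
    simpa [Hom.mul_def, ← lift_map, ← comp_lift] using h

theorem factors_of_proj {T : Over S} (x : T ⟶ G) (hx : x ≫ proj u l = 1) :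
    ∃ w : T ⟶ U, w ≫ u = x := by
  refine ⟨x ≫ proj' u l, ?_⟩
  have h := decomp u l x
  rw [← Category.assoc x (proj u l), hx, MonObj.one_comp, _root_.one_mul] at h
  rw [Category.assoc]
  exact h

omit [GrpObj U] [IsMonHom u] in
theorem isClosedImmersion_of_retract [IsSeparated G.hom] (q : G ⟶ L) (hq : l ≫ q = 𝟙 L) :
    IsClosedImmersion l.left := by
  let eι := equalizer.ι (𝟙 G) (q ≫ l)
  have hι : eι ≫ q ≫ l = eι := by
    have h := equalizer.condition (𝟙 G) (q ≫ l)
    rw [Category.comp_id] at h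
    exact h.symm
  let e : L ≅ equalizer (𝟙 G) (q ≫ l) :=
    { hom := equalizer.lift l (by rw [Category.comp_id, ← Category.assoc, hq, Category.id_comp])
      inv := eι ≫ q
      hom_inv_id := by rw [equalizer.lift_ι_assoc, hq]
      inv_hom_id := by
        apply equalizer.hom_ext
        rw [Category.assoc, equalizer.lift_ι, Category.id_comp, Category.assoc]
        exact hι }
  have hl : l = e.hom ≫ eι := (equalizer.lift_ι l _).symm
  haveI : IsIso e.hom.left := ((Over.forget _).mapIso e).isIso_hom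
  haveI : IsClosedImmersion eι.left := inferInstanceAs (IsClosedImmersion (equalizer.ι (𝟙 G) (q ≫ l)).left)
  rw [hl, Over.comp_left]
  infer_instance

end Cat

section Hopf

variable {k : Type u} [Field k]

/-- maps out of a quotient bialgebra -/
def liftQ {R C : Type u} [CommRing R] [HopfAlgebra k R] [CommRing C] [HopfAlgebra k C] (I : Ideal R)
    [I.IsHopfIdeal k] (f : R →ₐc[k] C) (h : ∀ a ∈ I, f a = 0) : R ⧸ I →ₐc[k] C :=
  .ofAlgHom (Ideal.Quotient.liftₐ I (f : R →ₐ[k] C) h)
    (Ideal.Quotient.algHom_ext k (AlgHom.ext fun a => by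
      show CoalgebraStruct.counit (R := k) (f a) = CoalgebraStruct.counit (R := k) a
      exact CoalgHomClass.counit_comp_apply f a))
    (Ideal.Quotient.algHom_ext k (AlgHom.ext fun a => by
      show Algebra.TensorProduct.map (Ideal.Quotient.liftₐ I (f : R →ₐ[k] C) h)
          (Ideal.Quotient.liftₐ I (f : R →ₐ[k] C) h)
          (Algebra.TensorProduct.map (Ideal.Quotient.mkₐ k I) (Ideal.Quotient.mkₐ k I)
            (CoalgebraStruct.comul (R := k) a)) = CoalgebraStruct.comul (R := k) (f a)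
      rw [← CoalgHomClass.map_comp_comul_apply f a]
      generalize CoalgebraStruct.comul (R := k) a = t
      induction t with
      | zero => simp
      | add p q hp hq => simp only [map_add, hp, hq]
      | tmul p q => simp))

theorem liftQ_mk {R C : Type u} [CommRing R] [HopfAlgebra k R] [CommRing C] [HopfAlgebra k C] (I : Ideal R)
    [I.IsHopfIdeal k] (f : R →ₐc[k] C) (h : ∀ a ∈ I, f a = 0) (a : R) :
    liftQ I f h (Ideal.Quotient.mk I a) = f a := rfl

theorem pull_comp {A R C : Type u} [CommRing A] [HopfAlgebra k A] [CommRing R] [HopfAlgebra k R]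
    [CommRing C] [HopfAlgebra k C] {G L H : Over (Spec (CommRingCat.of k))} [GrpObj G] [GrpObj L] [GrpObj H]
    (ψ : GMod80.sp k A ≅ G) [IsMonHom ψ.hom] (ψL : GMod80.sp k R ≅ L) [IsMonHom ψL.hom]
    (ψH : GMod80.sp k C ≅ H) [IsMonHom ψH.hom] (i : H ⟶ G) (q : G ⟶ L) :
    GMod80.pull ψL ψH (i ≫ q) = (GMod80.pull ψ ψH i).comp (GMod80.pull ψL ψ q) := by
  have h1 := GMod80.e_comp ψL ψH (i ≫ q) (toConv (AlgHom.id k C))
  rw [← Category.assoc, GMod80.e_comp ψ ψH i, GMod80.e_comp ψL ψ q] at h1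
  have h2 := congrArg WithConv.ofConv ((GMod80.e ψL C).injective h1)
  simpa using h2.symm

theorem pull_one {A C : Type u} [CommRing A] [HopfAlgebra k A] [CommRing C] [HopfAlgebra k C]
    {G H : Over (Spec (CommRingCat.of k))} [GrpObj G] [GrpObj H]
    (ψ : GMod80.sp k A ≅ G) [IsMonHom ψ.hom] (ψH : GMod80.sp k C ≅ H) [IsMonHom ψH.hom] :
    GMod80.pull ψ ψH (1 : H ⟶ G) = (Algebra.ofId k C).comp (Bialgebra.counitAlgHom k A) := by
  have h1 := GMod80.e_comp ψ ψH (1 : H ⟶ G) (toConv (AlgHom.id k C))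
  rw [MonObj.comp_one, ← map_one (GMod80.e ψ C)] at h1
  have h2 := congrArg WithConv.ofConv ((GMod80.e ψ C).injective h1)
  simp only [ofConv_toConv, AlgHom.id_comp] at h2
  exact h2.symm

theorem pull_id {A : Type u} [CommRing A] [HopfAlgebra k A]
    {G : Over (Spec (CommRingCat.of k))} [GrpObj G] (ψ : GMod80.sp k A ≅ G) [IsMonHom ψ.hom] :
    GMod80.pull ψ ψ (𝟙 G) = AlgHom.id k A := by
  rw [GMod80.pull, Category.comp_id, MulEquiv.symm_apply_apply, ofConv_toConv]

theorem geom_of_unipotent [CharZero k] {Q : Type u} [CommRing Q] [HopfAlgebra k Q] [Algebra.FiniteType k Q]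
    (hQ : HopfRep.IsUnipotent k Q) (s : ↥(Spec (CommRingCat.of k))) :
    ConnectedSpace (Red.geomFibre s (GMod80.sp k Q)).left ∧
      Red.HasNoSubtorus (AlgebraicClosure ((Spec (CommRingCat.of k)).residueField s))
        (Red.geomFibre s (GMod80.sp k Q)) := by
  obtain ⟨f, hf⟩ : ∃ f, Spec.map f = Red.geomPt s := ⟨Spec.preimage _, Spec.map_preimage _⟩
  let K := AlgebraicClosure ((Spec (CommRingCat.of k)).residueField s)
  letI : Algebra k K := f.hom.toAlgebra
  haveI : CharZero K := charZero_of_injective_algebraMap (algebraMap k K).injective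
  show ConnectedSpace (Red.bc (Red.geomPt s) (GMod80.sp k Q)).left ∧
    Red.HasNoSubtorus K (Red.bc (Red.geomPt s) (GMod80.sp k Q))
  rw [← hf]
  have hK : HopfRep.IsUnipotent K (TensorProduct k K Q) := Comod33.isUnipotent_baseChange hQ K
  haveI := GIT36.LinRedChar0.isMonHom_bcIso k K Q
  exact ⟨GIT36.LinRedChar0.connectedSpace_left (GIT36.LinRedChar0.bcIso k K Q)
      (GIT36.LinRedChar0.idem_of_unipotent hK),
    GIT36.LinRedChar0.hasNoSubtorus_of_unipotent hK (GIT36.LinRedChar0.bcIso k K Q)⟩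

variable [CharZero k]
variable {G U L : Over (Spec (CommRingCat.of k))} [GrpObj G] [GrpObj U] [GrpObj L] [IsAffine G.left]
  [LocallyOfFiniteType G.hom]

/-- a complement of the unipotent radical has linearly reductive coordinates -/
theorem exists_coord_linRed (u : U ⟶ G) (hU : Par.IsUnipotentRadical u) (l : L ⟶ G) [IsMonHom l]
    (h : IsIso ((l ⊗ₘ u) ≫ μ[G])) :
    ∃ (R : Type u) (_ : CommRing R) (_ : HopfAlgebra k R) (_ : Algebra.FiniteType k R) (ψ : GMod80.sp k R ≅ L),
      IsMonHom ψ.hom ∧ HopfRep.IsLinearlyReductive k R := by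
  obtain ⟨hu, hcl, hn, hsm, -, hgeo, hmax⟩ := hU
  haveI := hu
  haveI := hcl
  haveI := hsm
  haveI : IsSeparated G.hom := inferInstance
  haveI hq := isMonHom_proj u l hn
  haveI : IsClosedImmersion l.left := isClosedImmersion_of_retract l (proj u l) (proj_l u l)
  haveI : IsAffine L.left := isAffine_of_isAffineHom l.left
  haveI : LocallyOfFiniteType L.hom := by rw [← Over.w l]; infer_instance
  haveI : IsAffine U.left := isAffine_of_isAffineHom u.left
  obtain ⟨A, _, _, ψ, hψ⟩ := GMod80.exists_coord G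
  obtain ⟨R, _, _, ψL, hψL⟩ := GMod80.exists_coord L
  obtain ⟨H, _, _, φ, hφ⟩ := GMod80.exists_coord U
  haveI : Algebra.FiniteType k A := GMod80.finiteType ψ
  haveI : Algebra.FiniteType k R := GMod80.finiteType ψL
  refine ⟨R, _, _, inferInstance, ψL, hψL, RadLR.isLinearlyReductive_of_hrad fun I hI hIn hunip => ?_⟩
  haveI := hI
  have hRI : HopfRep.IsUnipotent k (R ⧸ I) := hunip
  obtain ⟨s⟩ : Nonempty ↥(Spec (CommRingCat.of k)) := inferInstanceAs (Nonempty (PrimeSpectrum k))
  obtain ⟨hconn, hno⟩ := hgeo s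
  haveI : ConnectedSpace U.left := connectedSpace_of_geomFibre s U hconn
  have hH : HopfRep.IsUnipotent k H := isUnipotent_coord φ s hno
  let P : R →ₐc[k] A := GMod80.pullBialg ψL ψ (proj u l)
  let ρ : A →ₐc[k] R := GMod80.pullBialg ψ ψL l
  let ν : A →ₐc[k] H := GMod80.pullBialg ψ φ u
  have hρP : ∀ r, ρ (P r) = r := fun r => by
    have h1 := pull_comp ψ ψL ψL l (proj u l)
    rw [proj_l, pull_id] at h1
    exact (congrArg (fun f : R →ₐ[k] R => f r) h1).symm
  have hνP : ∀ r, ν (P r) = algebraMap k H (Bialgebra.counitAlgHom k R r) := fun r => by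
    have h0 : u ≫ proj u l = 1 := by simpa using proj_u u l (𝟙 U)
    have h1 := pull_comp ψ ψL φ u (proj u l)
    rw [h0, pull_one] at h1
    exact (congrArg (fun f : R →ₐ[k] H => f r) h1).symm
  let J : Ideal A := Ideal.map (P : R →+* A) I
  haveI : J.IsHopfIdeal k := by
    have h1 := Unip38.isHopfIdeal_map_ker (Bialgebra.Quotient.mkBialgHom (R := k) I) Ideal.Quotient.mk_surjective P
    rwa [show RingHom.ker ((Bialgebra.Quotient.mkBialgHom (R := k) I : R →ₐc[k] R ⧸ I) : R →ₐ[k] R ⧸ I) = I from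
      Ideal.Quotient.mkₐ_ker k I] at h1
  have hJn : SGA3.IsNormalHopfIdeal k A J := by
    intro B _ _ g f hf a ha
    suffices hle : J ≤ RingHom.ker (Dyn.conv3 k A g f (g.comp (HopfAlgebra.antipodeAlgHom k A))) from hle ha
    refine Ideal.map_le_iff_le_comap.2 fun r hr => ?_
    show Dyn.conv3 k A g f (g.comp (HopfAlgebra.antipodeAlgHom k A)) (P r) = 0
    rw [← WithConv.ofConv_toConv (Dyn.conv3 k A _ _ _), SGA3a.NormalHopf.toConv_conv3,
      ← WithConv.ofConv_toConv (g.comp (HopfAlgebra.antipodeAlgHom k A)), ← SGA3a.NormalHopf.inv_ofConv]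
    have key : ∀ x : WithConv (A →ₐ[k] B), GMod80.e ψ B x ≫ proj u l =
        GMod80.e ψL B (toConv (x.ofConv.comp (P : R →ₐ[k] A))) := fun x => GMod80.e_comp ψL ψ (proj u l) x
    have e1 := key (toConv g * toConv f * (toConv g)⁻¹)
    rw [map_mul, map_mul, map_inv, MonObj.mul_comp, MonObj.mul_comp, GrpObj.inv_comp, key, key, ← map_inv,
      ← map_mul, ← map_mul] at e1
    have e2 := congrArg (fun q : WithConv (R →ₐ[k] B) => q.ofConv r) ((GMod80.e ψL B).injective e1)
    refine e2.symm.trans ?_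
    have h3 := hIn B (g.comp (P : R →ₐ[k] A)) (f.comp (P : R →ₐ[k] A))
      (fun a ha => hf _ (Ideal.mem_map_of_mem _ ha)) r hr
    rw [← WithConv.ofConv_toConv (Dyn.conv3 k R _ _ _), SGA3a.NormalHopf.toConv_conv3,
      ← WithConv.ofConv_toConv ((g.comp (P : R →ₐ[k] A)).comp (HopfAlgebra.antipodeAlgHom k R)),
      ← SGA3a.NormalHopf.inv_ofConv] at h3
    exact h3
  let ψbar : R ⧸ I →ₐc[k] A ⧸ J := liftQ I ((Bialgebra.Quotient.mkBialgHom (R := k) J).comp P)
    fun a ha => Ideal.Quotient.eq_zero_iff_mem.2 (Ideal.mem_map_of_mem _ ha)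
  have hψbar : Function.Injective ψbar := by
    refine (injective_iff_map_eq_zero _).2 fun x hx => ?_
    obtain ⟨r, rfl⟩ := Ideal.Quotient.mk_surjective x
    rw [liftQ_mk] at hx
    have h1 : P r ∈ J := Ideal.Quotient.eq_zero_iff_mem.1 hx
    have h2 : J ≤ Ideal.comap (ρ : A →+* R) I := Ideal.map_le_iff_le_comap.2 fun a ha => by
      show ρ (P a) ∈ I
      rw [hρP]
      exact ha
    have h3 : ρ (P r) ∈ I := h2 h1
    rw [hρP] at h3
    exact Ideal.Quotient.eq_zero_iff_mem.2 h3
  let J' : Ideal (A ⧸ J) := Ideal.map (ψbar : R ⧸ I →+* A ⧸ J) (RingHom.ker (Bialgebra.counitAlgHom k (R ⧸ I)))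
  haveI : J'.IsHopfIdeal k := Unip38.isHopfIdeal_map_aug ψbar
  haveI : Algebra.FiniteType k (A ⧸ J) :=
    Algebra.FiniteType.of_surjective (Ideal.Quotient.mkₐ k J) (Ideal.Quotient.mkₐ_surjective k J)
  let νJ : A ⧸ J →ₐc[k] H := liftQ J ν fun a ha => by
    have h1 : J ≤ RingHom.ker (ν : A →+* H) := Ideal.map_le_iff_le_comap.2 fun r hr => by
      show ν (P r) = 0
      rw [hνP, show Bialgebra.counitAlgHom k R r = 0 from
        Submodule.IsCoideal.counit_eq_zero (I := I.restrictScalars k) (x := r) hr, map_zero]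
    exact h1 ha
  have hJ' : ∀ x ∈ J', νJ x = 0 := by
    have h1 : J' ≤ RingHom.ker (νJ : A ⧸ J →+* H) := Ideal.map_le_iff_le_comap.2 fun x hx => by
      obtain ⟨r, rfl⟩ := Ideal.Quotient.mk_surjective x
      show ν (P r) = 0
      rw [hνP, show Bialgebra.counitAlgHom k R r = 0 from hx, map_zero]
    exact fun x hx => h1 hx
  have hN : HopfRep.IsUnipotent k ((A ⧸ J) ⧸ J') := by
    refine Comod33.MultQuot.isUnipotent_of_injective (liftQ J' νJ hJ') ?_ hH
    refine (injective_iff_map_eq_zero _).2 fun x hx => ?_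
    obtain ⟨y, rfl⟩ := Ideal.Quotient.mk_surjective x
    obtain ⟨a, rfl⟩ := Ideal.Quotient.mk_surjective y
    rw [liftQ_mk, liftQ_mk] at hx
    let f : A →ₐ[k] (A ⧸ J) ⧸ J' := (Ideal.Quotient.mkₐ k J').comp (Ideal.Quotient.mkₐ k J)
    have hf : GMod80.e ψ _ (toConv f) ≫ proj u l = 1 := by
      rw [GMod80.e_comp ψL ψ (proj u l), ← map_one (GMod80.e ψL ((A ⧸ J) ⧸ J'))]
      congr 1
      refine ofConv_injective (AlgHom.ext fun r => ?_)
      show f (P r) = algebraMap k _ (CoalgebraStruct.counit (R := k) r)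
      have h1 : Ideal.Quotient.mk J' (ψbar (Ideal.Quotient.mk I
          (r - algebraMap k R (CoalgebraStruct.counit (R := k) r)))) = 0 :=
        Ideal.Quotient.eq_zero_iff_mem.2 (Ideal.mem_map_of_mem (ψbar : R ⧸ I →+* A ⧸ J)
          (show Ideal.Quotient.mk I (r - algebraMap k R (CoalgebraStruct.counit (R := k) r)) ∈
              RingHom.ker (Bialgebra.counitAlgHom k (R ⧸ I)) from RingHom.mem_ker.2
            (show CoalgebraStruct.counit (R := k) (r - algebraMap k R (CoalgebraStruct.counit (R := k) r)) = 0 by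
              simp)))
      rw [liftQ_mk] at h1
      have h2 : f (P (r - algebraMap k R (CoalgebraStruct.counit (R := k) r))) = 0 := h1
      rw [map_sub, map_sub, AlgHomClass.commutes, AlgHom.commutes, sub_eq_zero] at h2
      exact h2
    obtain ⟨w, hw⟩ := factors_of_proj u l _ hf
    obtain ⟨w', rfl⟩ := (GMod80.e φ _).surjective w
    rw [GMod80.e_comp ψ φ u] at hw
    have h4 := congrArg (fun q : WithConv (A →ₐ[k] (A ⧸ J) ⧸ J') => q.ofConv a) ((GMod80.e ψ _).injective hw)
    refine h4.symm.trans ?_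
    show w'.ofConv (ν a) = 0
    rw [hx, map_zero]
  have hAJ : HopfRep.IsUnipotent k (A ⧸ J) := Unip38.isUnipotent_of_extension ψbar hψbar J' rfl hRI hN
  let U' := GMod80.sp k (A ⧸ J)
  let i : U' ⟶ G := GMod80.spHom (Bialgebra.Quotient.mkBialgHom (R := k) J) ≫ ψ.hom
  have hicl : IsClosedImmersion i.left := by
    haveI : IsClosedImmersion (GMod80.spHom (Bialgebra.Quotient.mkBialgHom (R := k) J)).left :=
      IsClosedImmersion.spec_of_surjective _ (Ideal.Quotient.mkₐ_surjective k J)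
    haveI : IsIso ψ.hom.left := ((Over.forget _).mapIso ψ).isIso_hom
    rw [Over.comp_left]
    infer_instance
  haveI : IsMonHom (Iso.refl U').hom := inferInstanceAs (IsMonHom (𝟙 U'))
  haveI : LocallyOfFiniteType U'.hom := GIT36.LinRedChar0.locallyOfFiniteType_hom (Iso.refl U')
  haveI : IsAffine U'.left := GIT36.LinRedChar0.isAffine_left (Iso.refl U')
  haveI : QuasiCompact U'.hom := inferInstance
  obtain ⟨f, hfi⟩ := hmax U' i hicl (GIT36.LinRedChar0.isNormalHom_of_isNormalHopfIdeal ψ J hJn)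
    (Cartier57.smooth U') inferInstance (geom_of_unipotent hAJ)
  have h5 : GMod80.e ψ (A ⧸ J) (toConv (Ideal.Quotient.mkₐ k J)) ≫ proj u l = 1 := by
    show i ≫ proj u l = 1
    rw [← hfi]
    exact proj_u u l f
  rw [GMod80.e_comp ψL ψ (proj u l), ← map_one (GMod80.e ψL (A ⧸ J))] at h5
  refine le_antisymm (fun a ha => Submodule.IsCoideal.counit_eq_zero (I := I.restrictScalars k) (x := a) ha)
    fun r hr => ?_
  have h6 := congrArg (fun q : WithConv (R →ₐ[k] A ⧸ J) => q.ofConv r) ((GMod80.e ψL _).injective h5)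
  have h7 : Ideal.Quotient.mk J (P r) = algebraMap k _ (Bialgebra.counitAlgHom k R r) := h6
  rw [RingHom.mem_ker.1 hr, map_zero] at h7
  have h8 : ψbar (Ideal.Quotient.mk I r) = 0 := h7
  exact Ideal.Quotient.eq_zero_iff_mem.1 ((injective_iff_map_eq_zero ψbar).1 hψbar _ h8)

end Hopf

end Groth.Agent.EqTors4.Levi
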