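import Groth.Agent.EqTors4.MostowStep
import Groth.Agent.EqTors4.Levi

/-!
Existence of a complement to the unipotent radical in characteristic zero.
-/

set_option autoImplicit false
set_option linter.style.haveILetI false

universe u

open CategoryTheory CategoryTheory.Limits MonoidalCategory CartesianMonoidalCategory MonObj GrpObj AlgebraicGeometry
open scoped TensorProduct
open WithConv TensorProduct Groth.Agent.Comod33
open Groth.Agent.GIT36.LinRedChar0 (IsMinSub ssIdeal kills_ssIdeal_iff isNormal_ssIdeal)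

set_option backward.isDefEq.respectTransparency false
set_option backward.isDefEq.respectTransparency.types false

noncomputable section

namespace Groth.Agent.EqTors4.Mostow

variable {k : Type u} [Field k] {A : Type u} [CommRing A] [HopfAlgebra k A]

theorem kills_mul (I : Ideal A) [I.IsHopfIdeal k] {R : Type u} [CommRing R] [Algebra k R] {f g : A →ₐ[k] R}
    (hf : ∀ a ∈ I, f a = 0) (hg : ∀ a ∈ I, g a = 0) :
    ∀ a ∈ I, (toConv f * toConv g).ofConv a = 0 := by
  intro a ha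
  let π := Bialgebra.Quotient.mkBialgHom (R := k) I
  let f' := Ideal.Quotient.liftₐ I f hf
  let g' := Ideal.Quotient.liftₐ I g hg
  have e := AlgHom.convMul_comp_bialgHom_distrib (toConv f') (toConv g') π
  have ef : f'.comp (π : A →ₐ[k] A ⧸ I) = f := Ideal.Quotient.liftₐ_comp I f hf
  have eg : g'.comp (π : A →ₐ[k] A ⧸ I) = g := Ideal.Quotient.liftₐ_comp I g hg
  simp only [ofConv_toConv, ef, eg] at e
  have h2 := congrArg (fun q : A →ₐ[k] R => q a) e
  refine h2.symm.trans ?_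
  show (toConv f' * toConv g').ofConv (Ideal.Quotient.mk I a) = 0
  rw [Ideal.Quotient.eq_zero_iff_mem.2 ha, map_zero]

theorem isIso_mult {S : Scheme.{u}} {G U L T : Over S} [GrpObj G] [GrpObj U] [GrpObj L] (u : U ⟶ G) (l : L ⟶ G)
    (a : G ⟶ L) (b : G ⟶ U) (hdec : (a ≫ l) * (b ≫ u) = 𝟙 G) (p : T ⟶ L ⊗ U) [Epi p]
    (key : ∀ (a a' : T ⟶ L) (b b' : T ⟶ U), (a ≫ l) * (b ≫ u) = (a' ≫ l) * (b' ≫ u) → a = a' ∧ b = b') :
    IsIso ((l ⊗ₘ u) ≫ μ[G]) := by
  refine ⟨CartesianMonoidalCategory.lift a b, ?_, ?_⟩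
  · rw [← cancel_epi p, Category.comp_id]
    have hp : ((p ≫ fst L U) ≫ l) * ((p ≫ snd L U) ≫ u) = p ≫ (l ⊗ₘ u) ≫ μ[G] := by
      rw [← Levi.lift_mu u l, show CartesianMonoidalCategory.lift (p ≫ fst L U) (p ≫ snd L U) = p from
        CartesianMonoidalCategory.hom_ext _ _ (lift_fst _ _) (lift_snd _ _)]
    obtain ⟨x, hx⟩ : ∃ x, x = p ≫ (l ⊗ₘ u) ≫ μ[G] := ⟨_, rfl⟩
    have hxd : ((x ≫ a) ≫ l) * ((x ≫ b) ≫ u) = x := by
      rw [Category.assoc, Category.assoc, ← MonObj.comp_mul, hdec, Category.comp_id]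
    rw [← hx] at hp
    obtain ⟨e1, e2⟩ := key _ _ _ _ (hxd.trans hp.symm)
    rw [show p ≫ ((l ⊗ₘ u) ≫ μ[G]) ≫ CartesianMonoidalCategory.lift a b =
      x ≫ CartesianMonoidalCategory.lift a b by rw [hx]; simp only [Category.assoc], comp_lift]
    exact CartesianMonoidalCategory.hom_ext _ _ ((lift_fst _ _).trans e1) ((lift_snd _ _).trans e2)
  · rw [Levi.lift_mu, hdec]

variable [CharZero k] [Algebra.FiniteType k A]

/-- a complement to the kernel of the simple representations -/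
theorem exists_levi_hopf :
    ∃ J : Ideal A, J.IsHopfIdeal k ∧
      (∃ n h : A →ₐ[k] A, (∀ a ∈ ssIdeal k A, n a = 0) ∧ (∀ a ∈ J, h a = 0) ∧
        toConv (AlgHom.id k A) = toConv n * toConv h) ∧
      ∀ (R : Type u) [CommRing R] [Algebra k R] (g : A →ₐ[k] R),
        (∀ a ∈ J, g a = 0) → (∀ a ∈ ssIdeal k A, g a = 0) → toConv g = 1 := by
  classical
  haveI : IsNoetherianRing A := Algebra.FiniteType.isNoetherianRing k A
  let P : Set (Ideal A) := {J | J.IsHopfIdeal k ∧ ∃ n h : A →ₐ[k] A, (∀ a ∈ ssIdeal k A, n a = 0) ∧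
    (∀ a ∈ J, h a = 0) ∧ toConv (AlgHom.id k A) = toConv n * toConv h}
  obtain ⟨J, hJP, hmax⟩ := set_has_maximal_iff_noetherian.2 (inferInstance : IsNoetherian A A) P ⟨⊥, by
    refine ⟨?_, (1 : WithConv (A →ₐ[k] A)).ofConv, AlgHom.id k A, fun a ha => ?_, fun a ha => ?_, ?_⟩
    · refine { counit_eq_zero := ?_, map_mkQ_comul_eq_zero := ?_, antipode_mem := ?_ }
      · intro x hx
        rw [show x = 0 from hx, map_zero]
      · intro x hx
        rw [show x = 0 from hx, map_zero, map_zero]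
      · intro x hx
        rw [show x = 0 from hx, map_zero]
        exact zero_mem _
    · rw [AlgHom.convOne_apply, Submodule.IsCoideal.counit_eq_zero (I := (ssIdeal k A).restrictScalars k) (x := a) ha,
        map_zero]
    · exact ha
    · rw [toConv_ofConv, _root_.one_mul]⟩
  obtain ⟨hJ, n₁, h₁, hn₁, hh₁, hid₁⟩ := hJP
  haveI := hJ
  set I := ssIdeal k A with hI
  let π := Bialgebra.Quotient.mkBialgHom (R := k) J
  let q : A →ₐ[k] A ⧸ J := Ideal.Quotient.mkₐ k J
  haveI : Algebra.FiniteType k (A ⧸ J) :=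
    Algebra.FiniteType.of_surjective q (Ideal.Quotient.mkₐ_surjective k J)
  let M : Ideal (A ⧸ J) := Ideal.map (π : A →+* A ⧸ J) I
  haveI : M.IsHopfIdeal k := by
    have h1 := Unip38.isHopfIdeal_map_ker (Bialgebra.Quotient.mkBialgHom (R := k) I) Ideal.Quotient.mk_surjective π
    rwa [show RingHom.ker ((Bialgebra.Quotient.mkBialgHom (R := k) I : A →ₐc[k] A ⧸ I) : A →ₐ[k] A ⧸ I) = I from
      Ideal.Quotient.mkₐ_ker k I] at h1
  have hMu : HopfRep.IsUnipotent k ((A ⧸ J) ⧸ M) := by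
    let ρ := (Bialgebra.Quotient.mkBialgHom (R := k) M).comp π
    refine Unip38.isUnipotent_of_surjective (liftQ I ρ fun a ha =>
      Ideal.Quotient.eq_zero_iff_mem.2 (Ideal.mem_map_of_mem _ ha)) (fun y => ?_) RadLR.isUnipotent_ssIdeal
    obtain ⟨y, rfl⟩ := Ideal.Quotient.mk_surjective y
    obtain ⟨a, rfl⟩ := Ideal.Quotient.mk_surjective y
    exact ⟨Ideal.Quotient.mk I a, rfl⟩
  have hle₁ : ssIdeal k (A ⧸ J) ≤ M := ssIdeal_le M (isNormal_map π I isNormal_ssIdeal) hMu
  -- simple representations stay simple on the subgroup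
  let hbar : A ⧸ J →ₐ[k] A := Ideal.Quotient.liftₐ J h₁ hh₁
  have hle₂ : ∀ a ∈ I, Ideal.Quotient.mkₐ k (ssIdeal k (A ⧸ J)) (q a) = 0 := by
    refine (kills_ssIdeal_iff ((Ideal.Quotient.mkₐ k (ssIdeal k (A ⧸ J))).comp q)).2 fun W hW w hw => ?_
    have htrivn : ∀ v ∈ W, LinearMap.lTensor A n₁.toLinearMap ((HopfRep.Comod.regular k A).coact v) =
        v ⊗ₜ[k] (1 : A) := (kills_ssIdeal_iff n₁).1 hn₁ W hW
    have hdact : ∀ f : A →ₗ[k] k, ∀ v ∈ W, dact (A := A) (V := A) f v =
        dact (A := A) (V := A) ((f ∘ₗ hbar.toLinearMap) ∘ₗ q.toLinearMap) v := by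
      intro f v hv
      have e1 : (f ∘ₗ hbar.toLinearMap) ∘ₗ q.toLinearMap = f ∘ₗ h₁.toLinearMap := rfl
      rw [e1, dact_apply, dact_apply, ← rc_lTensor f h₁.toLinearMap]
      show rc f (CoalgebraStruct.comul (R := k) v) = rc f (h₁.toLinearMap.lTensor A (CoalgebraStruct.comul (R := k) v))
      refine congrArg (rc f) ?_
      have e2 : (AlgHom.id k A).toLinearMap = (LinearMap.mul' k A ∘ₗ TensorProduct.map n₁.toLinearMap h₁.toLinearMap) ∘ₗ
          CoalgebraStruct.comul (R := k) := by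
        refine Eq.trans ?_ (GMod80.mul'_map_comul (toConv n₁) (toConv h₁)).symm
        rw [← hid₁]
      conv_lhs => rw [show CoalgebraStruct.comul (R := k) v =
        (AlgHom.id k A).toLinearMap.lTensor A (CoalgebraStruct.comul (R := k) v) from
          (LinearMap.congr_fun (LinearMap.lTensor_id A A) _).symm]
      rw [e2, LinearMap.lTensor_comp, LinearMap.comp_apply, ← Coalgebra.coassoc_apply]
      obtain ⟨y, hy⟩ := hW.1 v hv
      rw [show CoalgebraStruct.comul (R := k) v = W.subtype.rTensor A y from hy.symm]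
      clear hy
      induction y with
      | zero => simp
      | add a b ha hb => simp only [map_add, ha, hb]
      | tmul x e =>
        rw [LinearMap.rTensor_tmul, LinearMap.lTensor_tmul, Submodule.subtype_apply, LinearMap.rTensor_tmul]
        have e3 : ∀ t : A ⊗[k] A, (LinearMap.mul' k A ∘ₗ TensorProduct.map n₁.toLinearMap h₁.toLinearMap).lTensor A
            (TensorProduct.assoc k A A A (t ⊗ₜ[k] e)) =
              (LinearMap.mulRight k (h₁ e)).lTensor A (n₁.toLinearMap.lTensor A t) := fun t => by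
          induction t with
          | zero => simp
          | add a b ha hb => simp only [add_tmul, map_add, ha, hb]
          | tmul a b => simp
        rw [e3, show n₁.toLinearMap.lTensor A (CoalgebraStruct.comul (R := k) (x : A)) = (x : A) ⊗ₜ[k] (1 : A) from
          htrivn x x.2]
        simp
    letI cB : HopfRep.Comod k (A ⧸ J) A := push (π : A →ₗc[k] A ⧸ J) (HopfRep.Comod.regular k A)
    have hdB : ∀ (g : A ⧸ J →ₗ[k] k) (v : A),
        @dact k _ (A ⧸ J) _ _ A _ _ _ cB g v = dact (A := A) (V := A) (g ∘ₗ q.toLinearMap) v :=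
      fun g v => dact_push (π : A →ₗc[k] A ⧸ J) (HopfRep.Comod.regular k A) g v
    have hWB : @HopfRep.IsSubcomod k (A ⧸ J) _ _ _ _ A _ _ cB W :=
      isSubcomod_push (π : A →ₗc[k] A ⧸ J) (HopfRep.Comod.regular k A) hW.1
    have hminB : ∀ E : Submodule k A, E ≤ W → @HopfRep.IsSubcomod k (A ⧸ J) _ _ _ _ A _ _ cB E → E = ⊥ ∨ E = W := by
      intro E hE hEs
      refine hW.2.2.2 E hE (@isSubcomod_iff k _ A _ _ A _ _ _ _ (HopfRep.Comod.regular k A) E |>.2 fun f e he => ?_)
      rw [hdact f e (hE he), ← hdB]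
      exact (@isSubcomod_iff k _ (A ⧸ J) _ _ A _ _ _ _ cB E).1 hEs _ e he
    refine eq_of_rc fun g => ?_
    rw [rc_tmul]
    show rc g (((Ideal.Quotient.mkₐ k (ssIdeal k (A ⧸ J))).comp q).toLinearMap.lTensor A _) = _
    rw [rc_lTensor]
    show dact (A := A) (V := A) (g ∘ₗ ((Ideal.Quotient.mkₐ k (ssIdeal k (A ⧸ J))).comp q).toLinearMap) w = _
    have h0 := @RadLR.dact_minSub k _ (A ⧸ J) _ _ A _ _ cB W hWB hW.2.2.1 hW.2.1 hminB
      (g - g 1 • CoalgebraStruct.counit) (by simp [Bialgebra.counit_one]) w hw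
    rw [hdB] at h0
    have e4 : ((g - g 1 • CoalgebraStruct.counit) ∘ₗ (Ideal.Quotient.mkₐ k (ssIdeal k (A ⧸ J))).toLinearMap) ∘ₗ
        q.toLinearMap = g ∘ₗ ((Ideal.Quotient.mkₐ k (ssIdeal k (A ⧸ J))).comp q).toLinearMap -
          g 1 • CoalgebraStruct.counit := LinearMap.ext fun a => rfl
    rw [e4] at h0
    rw [← sub_add_cancel (g ∘ₗ ((Ideal.Quotient.mkₐ k (ssIdeal k (A ⧸ J))).comp q).toLinearMap)
      (g 1 • CoalgebraStruct.counit), dact_add, LinearMap.add_apply, h0, zero_add, dact_smul, LinearMap.smul_apply,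
      dact_counit]
  -- the kernel is trivial on the subgroup
  have hss : ssIdeal k (A ⧸ J) = RingHom.ker (Bialgebra.counitAlgHom k (A ⧸ J)) := by
    by_contra hne
    obtain ⟨J₂, hJ₂, hJ₂h, n₂, h₂, hn₂, hh₂, hid₂⟩ := exists_supplement hne
    haveI := hJ₂h
    let ρ₂ : A →ₐc[k] (A ⧸ J) ⧸ J₂ := (Bialgebra.Quotient.mkBialgHom (R := k) J₂).comp π
    let J' : Ideal A := RingHom.ker (ρ₂ : A →ₐ[k] (A ⧸ J) ⧸ J₂)
    have hJ' : J'.IsHopfIdeal k := IdComp.isHopfIdeal_ker _ fun y => by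
      obtain ⟨y, rfl⟩ := Ideal.Quotient.mk_surjective y
      obtain ⟨a, rfl⟩ := Ideal.Quotient.mk_surjective y
      exact ⟨a, rfl⟩
    have hlt : J < J' := by
      refine lt_of_le_of_ne (fun a ha => ?_) fun heq => hJ₂ ?_
      · show Ideal.Quotient.mk J₂ (Ideal.Quotient.mk J a) = 0
        rw [Ideal.Quotient.eq_zero_iff_mem.2 ha, map_zero]
      · rw [Submodule.eq_bot_iff]
        intro x hx
        obtain ⟨a, rfl⟩ := Ideal.Quotient.mk_surjective x
        have : a ∈ J' := Ideal.Quotient.eq_zero_iff_mem.2 hx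
        rw [← heq] at this
        exact Ideal.Quotient.eq_zero_iff_mem.2 this
    refine hmax J' ⟨hJ', (toConv n₁ * toConv ((hbar.comp n₂).comp q)).ofConv, (hbar.comp h₂).comp q,
      fun a ha => kills_mul I hn₁ (fun a ha => ?_) a ha, fun a ha => ?_, ?_⟩ hlt
    · show hbar (n₂ (q a)) = 0
      rw [hn₂ _ (Ideal.Quotient.eq_zero_iff_mem.1 (hle₂ a ha)), map_zero]
    · show hbar (h₂ (q a)) = 0
      rw [hh₂ (q a) (Ideal.Quotient.eq_zero_iff_mem.1 (show Ideal.Quotient.mk J₂ (q a) = 0 from ha)), map_zero]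
    · have e := AlgHom.convMul_comp_bialgHom_distrib (toConv n₂) (toConv h₂) π
      simp only [ofConv_toConv] at e
      rw [← hid₂, ofConv_toConv, AlgHom.id_comp] at e
      have e2 : h₁ = (toConv ((hbar.comp n₂).comp q) * toConv ((hbar.comp h₂).comp q)).ofConv := by
        have h3 := congrArg (fun r : A →ₐ[k] A ⧸ J => hbar.comp r) e
        refine (Ideal.Quotient.liftₐ_comp J h₁ hh₁).symm.trans (h3.trans ?_)
        exact SGA3a.NormalHopf.comp_conv hbar (n₂.comp q) (h₂.comp q)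
      rw [hid₁, e2, toConv_ofConv, toConv_ofConv, _root_.mul_assoc]
  refine ⟨J, hJ, ⟨n₁, h₁, hn₁, hh₁, hid₁⟩, fun R _ _ g hgJ hgI => ofConv_injective (AlgHom.ext fun a => ?_)⟩
  let g' := Ideal.Quotient.liftₐ J g hgJ
  have hM : M ≤ RingHom.ker g' := Ideal.map_le_iff_le_comap.2 fun x hx => hgI x hx
  have h1 : g' (q a - algebraMap k _ (CoalgebraStruct.counit (R := k) a)) = 0 := hM (hle₁ (by
    rw [hss]
    show Bialgebra.counitAlgHom k (A ⧸ J) (q a - algebraMap k _ (CoalgebraStruct.counit (R := k) a)) = 0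
    rw [map_sub, AlgHom.commutes]
    exact sub_self _))
  rw [map_sub, AlgHom.commutes, sub_eq_zero] at h1
  rw [ofConv_toConv, AlgHom.convOne_apply]
  exact h1

variable {G U : Over (Spec (CommRingCat.of k))} [GrpObj G] [GrpObj U] [IsAffine G.left]
  [LocallyOfFiniteType G.hom]

omit [Algebra.FiniteType k A] in
set_option maxHeartbeats 1000000 in
set_option synthInstance.maxHeartbeats 400000 in
/-- Mostow: the unipotent radical has a complement -/
theorem exists_levi (u : U ⟶ G) (hU : Par.IsUnipotentRadical u) :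
    ∃ (L : Over (Spec (CommRingCat.of k))) (_ : GrpObj L) (l : L ⟶ G), IsMonHom l ∧ IsClosedImmersion l.left ∧
      IsIso ((l ⊗ₘ u) ≫ μ[G]) := by
  obtain ⟨hu, hcl, hn, hsm, -, hgeo, hmax⟩ := hU
  haveI := hu
  haveI := hcl
  haveI := hsm
  haveI : IsAffine U.left := isAffine_of_isAffineHom u.left
  obtain ⟨A, _, _, ψ, hψ⟩ := GMod80.exists_coord G
  obtain ⟨H, _, _, φ, hφ⟩ := GMod80.exists_coord U
  haveI : Algebra.FiniteType k A := GMod80.finiteType ψ
  haveI : Algebra.FiniteType k H := GMod80.finiteType φ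
  obtain ⟨s⟩ : Nonempty ↥(Spec (CommRingCat.of k)) := inferInstanceAs (Nonempty (PrimeSpectrum k))
  obtain ⟨hconn, hno⟩ := hgeo s
  haveI : ConnectedSpace U.left := connectedSpace_of_geomFibre s U hconn
  have hH : HopfRep.IsUnipotent k H := isUnipotent_coord φ s hno
  set I := ssIdeal k A with hI
  let ν : A →ₐc[k] H := GMod80.pullBialg ψ φ u
  have hν : Function.Surjective ν := GMod80.pull_surjective ψ φ u
  -- the radical is the kernel of the simple representations
  have hνI : ∀ a ∈ I, ν a = 0 := by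
    let K := RingHom.ker (ν : A →ₐ[k] H)
    haveI : K.IsHopfIdeal k := IdComp.isHopfIdeal_ker ν hν
    have hKn : SGA3.IsNormalHopfIdeal k A K := by
      intro R _ _ g h hh a ha
      have hker : RingHom.ker (ν : A →ₐ[k] H).toRingHom ≤ RingHom.ker h.toRingHom := fun x hx => hh x hx
      let h' := AlgHom.liftOfSurjective (ν : A →ₐ[k] H) hν h hker
      have hh' : h'.comp (ν : A →ₐ[k] H) = h :=
        AlgHom.ext fun x => AlgHom.liftOfSurjective_apply (ν : A →ₐ[k] H) hν h hker x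
      obtain ⟨n', hn'⟩ := hn (VecGrp.pt k R) (GMod80.e ψ R (toConv g)) (GMod80.e φ R (toConv h'))
      obtain ⟨f', rfl⟩ := (GMod80.e φ R).surjective n'
      rw [GMod80.e_comp ψ, GMod80.e_comp ψ, ← map_inv (GMod80.e ψ R), ← map_mul, ← map_mul, ofConv_toConv] at hn'
      have h2 : toConv g * toConv h * (toConv g)⁻¹ = toConv (f'.ofConv.comp (ν : A →ₐ[k] H)) := by
        rw [← hh']
        exact (GMod80.e ψ R).injective hn'
      have h3 : Dyn.conv3 k A g h (g.comp (HopfAlgebra.antipodeAlgHom k A)) = f'.ofConv.comp (ν : A →ₐ[k] H) := by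
        have h4 := congrArg WithConv.ofConv h2
        rw [← WithConv.ofConv_toConv (Dyn.conv3 k A _ _ _), SGA3a.NormalHopf.toConv_conv3,
          ← SGA3a.NormalHopf.inv_ofConv]
        exact h4
      rw [h3, AlgHom.comp_apply, show (ν : A →ₐ[k] H) a = 0 from ha, map_zero]
    have hK : HopfRep.IsUnipotent k (A ⧸ K) := by
      refine Comod33.MultQuot.isUnipotent_of_injective (liftQ K ν fun a ha => ha) ?_ hH
      refine (injective_iff_map_eq_zero _).2 fun x hx => ?_
      obtain ⟨a, rfl⟩ := Ideal.Quotient.mk_surjective x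
      exact Ideal.Quotient.eq_zero_iff_mem.2 hx
    exact fun a ha => ssIdeal_le K hKn hK ha
  haveI : Algebra.FiniteType k (A ⧸ I) :=
    Algebra.FiniteType.of_surjective (Ideal.Quotient.mkₐ k I) (Ideal.Quotient.mkₐ_surjective k I)
  let N := GMod80.sp k (A ⧸ I)
  let iN : N ⟶ G := GMod80.spHom (Bialgebra.Quotient.mkBialgHom (R := k) I) ≫ ψ.hom
  obtain ⟨fN, hfN⟩ : ∃ f, f ≫ u = iN := by
    haveI : IsClosedImmersion (GMod80.spHom (Bialgebra.Quotient.mkBialgHom (R := k) I)).left :=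
      IsClosedImmersion.spec_of_surjective _ (Ideal.Quotient.mkₐ_surjective k I)
    haveI : IsIso ψ.hom.left := ((Over.forget _).mapIso ψ).isIso_hom
    have hicl : IsClosedImmersion iN.left := by rw [Over.comp_left]; infer_instance
    haveI : IsMonHom (Iso.refl N).hom := inferInstanceAs (IsMonHom (𝟙 N))
    haveI : LocallyOfFiniteType N.hom := GIT36.LinRedChar0.locallyOfFiniteType_hom (Iso.refl N)
    haveI : IsAffine N.left := GIT36.LinRedChar0.isAffine_left (Iso.refl N)
    exact hmax N iN hicl (GIT36.LinRedChar0.isNormalHom_of_isNormalHopfIdeal ψ I isNormal_ssIdeal)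
      (Cartier57.smooth N) inferInstance (Levi.geom_of_unipotent RadLR.isUnipotent_ssIdeal)
  obtain ⟨J, hJ, ⟨n, h, hnI, hhJ, hid⟩, htriv⟩ := exists_levi_hopf (k := k) (A := A)
  haveI := hJ
  let B := A ⧸ J
  let L := GMod80.sp k B
  let l : L ⟶ G := GMod80.spHom (Bialgebra.Quotient.mkBialgHom (R := k) J) ≫ ψ.hom
  have hlcl : IsClosedImmersion l.left := by
    haveI : IsClosedImmersion (GMod80.spHom (Bialgebra.Quotient.mkBialgHom (R := k) J)).left :=
      IsClosedImmersion.spec_of_surjective _ (Ideal.Quotient.mkₐ_surjective k J)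
    haveI : IsIso ψ.hom.left := ((Over.forget _).mapIso ψ).isIso_hom
    rw [Over.comp_left]
    infer_instance
  haveI : IsMonHom (Iso.refl L).hom := inferInstanceAs (IsMonHom (𝟙 L))
  let ψL : GMod80.sp k B ≅ L := Iso.refl L
  have hl : ∀ (R : Type u) [CommRing R] [Algebra k R] (f : WithConv (B →ₐ[k] R)),
      GMod80.e ψL R f ≫ l = GMod80.e ψ R (toConv (f.ofConv.comp (Ideal.Quotient.mkₐ k J))) := by
    intro R _ _ f
    have h1 : GMod80.e ψL R f = VecGrp.ptMap f.ofConv := by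
      conv_lhs => rw [show f = toConv (f.ofConv.comp (toConv (AlgHom.id k B)).ofConv) from rfl]
      rw [← GMod80.e_natural, GMod80.e_id]
      exact Category.comp_id _
    rw [h1, show l = GMod80.e ψ B (toConv (Ideal.Quotient.mkₐ k J)) from rfl, GMod80.e_natural, ofConv_toConv]
  refine ⟨L, inferInstance, l, inferInstance, hlcl, ?_⟩
  -- the inverse
  let h' : A ⧸ J →ₐ[k] A := Ideal.Quotient.liftₐ J h hhJ
  let n₀ : WithConv (A →ₐ[k] A) := (toConv h)⁻¹ * toConv n * toConv h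
  have hn₀ : ∀ a ∈ I, n₀.ofConv a = 0 := SGA3a.NormalHopf.kills_conj' I isNormal_ssIdeal (toConv h) hnI
  let n' : A ⧸ I →ₐ[k] A := Ideal.Quotient.liftₐ I n₀.ofConv hn₀
  let a₀ : GMod80.sp k A ⟶ L := GMod80.e ψL A (toConv h')
  let b₀ : GMod80.sp k A ⟶ U := VecGrp.ptMap n' ≫ fN
  have hb₀ : b₀ ≫ u = GMod80.e ψ A n₀ := by
    rw [Category.assoc, hfN, show iN = GMod80.e ψ (A ⧸ I) (toConv (Ideal.Quotient.mkₐ k I)) from rfl,
      GMod80.e_natural, ofConv_toConv]
    congr 1
  have hdec : (a₀ ≫ l) * (b₀ ≫ u) = ψ.hom := by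
    rw [hl, hb₀]
    refine (map_mul (GMod80.e ψ A) _ _).symm.trans ?_
    rw [← GMod80.e_id ψ, ofConv_toConv, hid]
    congr 1
    rw [show toConv (h'.comp (Ideal.Quotient.mkₐ k J)) = toConv h from
      congrArg toConv (Ideal.Quotient.liftₐ_comp J h hhJ)]
    show toConv h * ((toConv h)⁻¹ * toConv n * toConv h) = _
    group
  haveI : IsIso (GMod80.pairIso φ B) := GIT36.LinRedChar0.isIso_pairIso φ B
  let R := H ⊗[k] B
  have key : ∀ (a a' : VecGrp.pt k R ⟶ L) (b b' : VecGrp.pt k R ⟶ U),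
      (a ≫ l) * (b ≫ u) = (a' ≫ l) * (b' ≫ u) → a = a' ∧ b = b' := by
    intro a a' b b' he
    obtain ⟨fa, hfa⟩ := (GMod80.e ψL R).surjective (a'⁻¹ * a)
    obtain ⟨fb, hfb⟩ := (GMod80.e φ R).surjective (b' * b⁻¹)
    have h1 : (a'⁻¹ * a) ≫ l = (b' * b⁻¹) ≫ u := by
      rw [MonObj.mul_comp, MonObj.mul_comp, GrpObj.inv_comp, GrpObj.inv_comp]
      rw [← mul_inv_eq_iff_eq_mul] at he
      calc (a' ≫ l)⁻¹ * (a ≫ l) = (a' ≫ l)⁻¹ * ((a ≫ l) * (b ≫ u) * (b' ≫ u)⁻¹) * ((b' ≫ u) * (b ≫ u)⁻¹) := by group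
        _ = _ := by rw [he]; group
    have h2 : GMod80.e ψ R (toConv (fa.ofConv.comp (Ideal.Quotient.mkₐ k J))) =
        GMod80.e ψ R (toConv (fb.ofConv.comp (ν : A →ₐ[k] H))) := by
      rw [← hl, hfa, h1, ← hfb, GMod80.e_comp ψ φ u]
      rfl
    have h3 := (GMod80.e ψ R).injective h2
    have h4 := htriv R (fa.ofConv.comp (Ideal.Quotient.mkₐ k J)) (fun a ha => by
        rw [AlgHom.comp_apply, show Ideal.Quotient.mkₐ k J a = 0 from Ideal.Quotient.eq_zero_iff_mem.2 ha, map_zero])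
      (fun a ha => by
        have h5 := congrArg (fun r : WithConv (A →ₐ[k] R) => r.ofConv a) h3
        refine h5.trans ?_
        show fb.ofConv (ν a) = 0
        rw [hνI a ha, map_zero])
    have h6 : (a'⁻¹ * a) ≫ l = 1 := by rw [← hfa, hl, h4, map_one]
    haveI : Mono l.left := inferInstance
    haveI : Mono l := Over.mono_of_mono_left l
    haveI : Mono u.left := inferInstance
    haveI : Mono u := Over.mono_of_mono_left u
    constructor
    · refine ((inv_mul_eq_one (a := a')).1 ?_).symm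
      rw [← cancel_mono l, h6, MonObj.one_comp]
    · refine (mul_inv_eq_one.1 ?_).symm
      rw [← cancel_mono u, ← h1, h6, MonObj.one_comp]
  exact isIso_mult u l (ψ.inv ≫ a₀) (ψ.inv ≫ b₀)
    (by rw [Category.assoc, Category.assoc, ← MonObj.comp_mul, hdec, Iso.inv_hom_id])
    (GMod80.pairIso φ B ≫ (β_ U L).hom) key

end Groth.Agent.EqTors4.Mostow
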