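import Groth.Agent.GIT36.LinRedChar0.Inf
import Groth.Agent.Unip34.LieSep
import Groth.Agent.Comod33.Socle
import Mathlib.RingTheory.PowerSeries.Derivative
import Mathlib.RingTheory.HopfAlgebra.TensorProduct

/-!
One parameter subgroups of a unipotent group in characteristic zero, over any field.
-/

set_option autoImplicit false
set_option linter.style.haveILetI false

universe u

open TensorProduct WithConv Groth.Agent.Comod33
open Groth.Agent.GIT36.LinRedChar0 (lieAlg fn isEps_fn lie_def lie_mul lie_one counit_lie)
open scoped Polynomial PowerSeries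

set_option backward.isDefEq.respectTransparency false
set_option backward.isDefEq.respectTransparency.types false

noncomputable section

namespace Groth.Agent.EqTors4.Mostow

variable {k : Type u} [Field k] [CharZero k] {Q : Type u} [CommRing Q] [HopfAlgebra k Q]

/-- the Lie algebra separates primitive elements, over any field of characteristic zero -/
theorem eq_zero_of_prim_of_lieAlg [Algebra.FiniteType k Q] {p : Q} (hp : Diag.IsPrim (k := k) p)
    (h : ∀ D : lieAlg k Q, fn D p = 0) : p = 0 := by
  set m := RingHom.ker (Bialgebra.counitAlgHom k Q) with hm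
  let K := AlgebraicClosure k
  haveI : CharZero K := charZero_of_injective_algebraMap (algebraMap k K).injective
  have hmem : p ∈ m ^ 2 := by
    let U : Submodule k Q := (m ^ 2).restrictScalars k ⊔ Submodule.span k {1}
    have hpU : p ∈ U := by
      by_contra hpU
      obtain ⟨φ, hφp, hφU⟩ := Submodule.exists_dual_map_eq_bot_of_notMem hpU inferInstance
      have hφU' : ∀ x ∈ U, φ x = 0 := fun x hx => by
        have := Submodule.mem_map_of_mem (f := φ) hx
        rwa [hφU, Submodule.mem_bot] at this
      refine hφp (h ⟨toConv φ, fun a b => ?_⟩)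
      show φ (a * b) = Bialgebra.counitAlgHom k Q a * φ b + Bialgebra.counitAlgHom k Q b * φ a
      let ε := Bialgebra.counitAlgHom k Q
      have he : (a - algebraMap k Q (ε a)) * (b - algebraMap k Q (ε b)) ∈ m ^ 2 := by
        rw [pow_two]
        exact Ideal.mul_mem_mul (by simp [hm, ε, RingHom.mem_ker]) (by simp [hm, ε, RingHom.mem_ker])
      have h1 := hφU' _ (Submodule.mem_sup_left he)
      have h2 : φ 1 = 0 := hφU' _ (Submodule.mem_sup_right (Submodule.mem_span_singleton_self _))
      have e : (a - algebraMap k Q (ε a)) * (b - algebraMap k Q (ε b)) =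
          a * b - ε a • b - ε b • a + (ε a * ε b) • (1 : Q) := by
        simp only [Algebra.smul_def, map_mul]; ring
      rw [e, map_add, map_sub, map_sub, map_smul, map_smul, map_smul, h2, smul_eq_mul, smul_eq_mul, smul_zero,
        add_zero] at h1
      linear_combination h1
    obtain ⟨x, hx, y, hy, hxy⟩ := Submodule.mem_sup.1 hpU
    obtain ⟨c, rfl⟩ := Submodule.mem_span_singleton.1 hy
    have hx0 : Bialgebra.counitAlgHom k Q x = 0 := Ideal.pow_le_self two_ne_zero hx
    have := congrArg (Bialgebra.counitAlgHom k Q) hxy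
    rw [map_add, hx0, map_smul, map_one, Unip34.counit_prim hp, zero_add, smul_eq_mul, mul_one] at this
    rw [this, zero_smul, add_zero] at hxy
    exact hxy ▸ hx
  have hpK : Diag.IsPrim (k := K) ((1 : K) ⊗ₜ[k] p) := by
    show CoalgebraStruct.comul (R := K) ((1 : K) ⊗ₜ[k] p) = _
    rw [show CoalgebraStruct.comul (R := K) ((1 : K) ⊗ₜ[k] p) =
      AlgebraTensorModule.tensorTensorTensorComm k K k K K K Q Q
        (((1 : K) ⊗ₜ[K] (1 : K)) ⊗ₜ[k] CoalgebraStruct.comul (R := k) p) from rfl,
      show CoalgebraStruct.comul (R := k) p = _ from hp, tmul_add, map_add]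
    rfl
  have h2 : ((1 : K) ⊗ₜ[k] p) ∈ RingHom.ker (Bialgebra.counitAlgHom K (K ⊗[k] Q)) ^ 2 := by
    have hle : m.map (Algebra.TensorProduct.includeRight : Q →ₐ[k] K ⊗[k] Q) ≤
        RingHom.ker (Bialgebra.counitAlgHom K (K ⊗[k] Q)) := by
      refine Ideal.map_le_iff_le_comap.2 fun a ha => ?_
      show CoalgebraStruct.counit (R := K) ((1 : K) ⊗ₜ[k] a) = 0
      have ha' : CoalgebraStruct.counit (R := k) a = 0 := ha
      simp [ha']
    refine Ideal.pow_right_mono hle 2 ?_
    rw [← Ideal.map_pow]
    exact Ideal.mem_map_of_mem _ hmem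
  have h0 := Unip34.eq_zero_of_prim_mem_sq hpK h2
  refine (Algebra.TensorProduct.includeRight_injective (algebraMap k K).injective) ?_
  rw [map_zero]
  exact h0

variable (D : lieAlg k Q)

/-- the Taylor series of an invariant derivation -/
def taylor (a : Q) : PowerSeries k :=
  PowerSeries.mk fun n => (n.factorial : k)⁻¹ *
    Bialgebra.counitAlgHom k Q ((fun x : Q => ⁅D, x⁆)^[n] a)

theorem taylor_coeff_succ (a : Q) (n : ℕ) :
    PowerSeries.coeff (n + 1) (taylor D a) * (n + 1) = PowerSeries.coeff n (taylor D ⁅D, a⁆) := by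
  rw [taylor, taylor, PowerSeries.coeff_mk, PowerSeries.coeff_mk, Function.iterate_succ_apply,
    Nat.factorial_succ, Nat.cast_mul, mul_inv, Nat.cast_succ]
  field_simp

theorem taylor_coeff_zero (a : Q) : PowerSeries.coeff 0 (taylor D a) = Bialgebra.counitAlgHom k Q a := by
  simp [taylor]

theorem deriv_taylor (a : Q) : d⁄dX k (taylor D a) = taylor D ⁅D, a⁆ :=
  PowerSeries.ext fun n => by rw [PowerSeries.coeff_derivative, taylor_coeff_succ]

theorem taylor_add (a b : Q) : taylor D (a + b) = taylor D a + taylor D b := by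
  refine PowerSeries.ext fun n => ?_
  induction n generalizing a b with
  | zero => rw [map_add, taylor_coeff_zero, taylor_coeff_zero, taylor_coeff_zero, map_add]
  | succ n ih =>
    have h := ih ⁅D, a⁆ ⁅D, b⁆
    rw [show ⁅D, a⁆ + ⁅D, b⁆ = ⁅D, a + b⁆ from (map_add (dact (fn D) : Q →ₗ[k] Q) a b).symm, map_add, ← taylor_coeff_succ, ← taylor_coeff_succ, ← taylor_coeff_succ, ← add_mul] at h
    rw [map_add]
    exact mul_right_cancel₀ (Nat.cast_add_one_ne_zero n) h

theorem taylor_mul (a b : Q) : taylor D (a * b) = taylor D a * taylor D b := by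
  refine PowerSeries.ext fun n => ?_
  induction n generalizing a b with
  | zero =>
    simp only [PowerSeries.coeff_zero_eq_constantCoeff_apply, map_mul]
    simp only [← PowerSeries.coeff_zero_eq_constantCoeff_apply, taylor_coeff_zero, map_mul]
  | succ n ih =>
    have h1 := ih a ⁅D, b⁆
    have h2 := ih ⁅D, a⁆ b
    refine mul_right_cancel₀ (Nat.cast_add_one_ne_zero n) ?_
    rw [taylor_coeff_succ, lie_mul, taylor_add, map_add, h1, h2, ← PowerSeries.coeff_derivative,
      Derivation.leibniz, map_add, deriv_taylor, deriv_taylor, smul_eq_mul, smul_eq_mul,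
      mul_comm (taylor D b)]

theorem taylor_algebraMap (c : k) : taylor D (algebraMap k Q c) = algebraMap k (PowerSeries k) c := by
  have hlie : ⁅D, algebraMap k Q c⁆ = 0 := by
    rw [Algebra.algebraMap_eq_smul_one, lie_def, map_smul, ← lie_def, lie_one, smul_zero]
  refine PowerSeries.ext fun n => ?_
  rw [PowerSeries.algebraMap_apply, Algebra.algebraMap_self, RingHom.id_apply, PowerSeries.coeff_C]
  cases n with
  | zero => rw [taylor_coeff_zero, AlgHom.commutes, if_pos rfl]; rfl
  | succ n =>
    rw [if_neg n.succ_ne_zero]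
    refine (mul_eq_zero.1 ?_).resolve_right (Nat.cast_add_one_ne_zero n)
    rw [taylor_coeff_succ, hlie]
    have h := taylor_add D 0 0
    rw [add_zero, left_eq_add] at h
    rw [h, map_zero]

/-- the Taylor series as a map of algebras -/
def taylorHom : Q →ₐ[k] PowerSeries k where
  toFun := taylor D
  map_one' := by
    have h := taylor_algebraMap D (1 : k)
    rwa [map_one, map_one] at h
  map_mul' := taylor_mul D
  map_zero' := by
    have h := taylor_algebraMap D (0 : k)
    rwa [map_zero, map_zero] at h
  map_add' := taylor_add D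
  commutes' := taylor_algebraMap D

theorem taylor_bound (hU : HopfRep.IsUnipotent k Q) (a : Q) :
    ∃ N, ∀ n, N ≤ n → PowerSeries.coeff n (taylor D a) = 0 := by
  have hex : a ∈ ⨆ i, soc k Q Q i := by rw [iSup_soc_eq_top hU]; trivial
  obtain ⟨N, hN⟩ := (Submodule.mem_iSup_of_directed _ (soc_mono.directed_le)).1 hex
  refine ⟨N, ?_⟩
  induction N generalizing a with
  | zero =>
    intro n _
    rw [(Submodule.mem_bot k).1 hN, show taylor D 0 = 0 from (taylorHom D).map_zero, map_zero]
  | succ N ih =>
    intro n hn
    obtain ⟨n, rfl⟩ := Nat.exists_eq_succ_of_ne_zero (Nat.pos_iff_ne_zero.1 (lt_of_lt_of_le N.succ_pos hn))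
    have hD := mem_soc_succ_iff.1 hN (fn D) (isEps_fn D).map_one
    refine (mul_eq_zero.1 ?_).resolve_right (Nat.cast_add_one_ne_zero n)
    rw [taylor_coeff_succ]
    exact ih _ (Submodule.mem_iSup_of_mem _ hD) hD n (Nat.le_of_succ_le_succ hn)

/-- the one parameter subgroup -/
def expPt (hU : HopfRep.IsUnipotent k Q) {R : Type u} [CommRing R] [Algebra k R] (t : R) : Q →ₐ[k] R :=
  let e : k[X] →ₐ[k] PowerSeries k := Polynomial.coeToPowerSeries.algHom k
  have hinj : Function.Injective e := fun x y h => Polynomial.coe_injective k (by simpa [e] using h)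
  have hr : ∀ a, taylorHom D a ∈ e.range := fun a => by
    obtain ⟨N, hN⟩ := taylor_bound D hU a
    refine ⟨PowerSeries.trunc N (taylor D a), PowerSeries.ext fun n => ?_⟩
    show PowerSeries.coeff n (e (PowerSeries.trunc N (taylor D a))) = PowerSeries.coeff n (taylor D a)
    rw [show e (PowerSeries.trunc N (taylor D a)) = ((PowerSeries.trunc N (taylor D a) : k[X]) : PowerSeries k)
      by simp [e], Polynomial.coeff_coe, PowerSeries.coeff_trunc]
    split_ifs with h
    · rfl
    · exact (hN n (not_lt.1 h)).symm
  ((Polynomial.aeval t).comp ((AlgEquiv.ofInjective e hinj).symm : e.range →ₐ[k] k[X])).comp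
    ((taylorHom D).codRestrict e.range hr)

theorem expPt_prim (hU : HopfRep.IsUnipotent k Q) {R : Type u} [CommRing R] [Algebra k R] (t : R) {p : Q}
    (hp : Diag.IsPrim (k := k) p) : expPt D hU t p = fn D p • t := by
  have hDp : ⁅D, p⁆ = algebraMap k Q (fn D p) := by
    rw [lie_def, dact_apply]
    show rc (fn D) (CoalgebraStruct.comul (R := k) p) = _
    rw [show CoalgebraStruct.comul (R := k) p = _ from hp, map_add, rc_tmul, rc_tmul, (isEps_fn D).map_one,
      zero_smul, zero_add, Algebra.algebraMap_eq_smul_one]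
  have htaylor : taylor D p = ((Polynomial.C (fn D p) * Polynomial.X : k[X]) : PowerSeries k) := by
    refine PowerSeries.ext fun n => ?_
    rw [Polynomial.coeff_coe]
    cases n with
    | zero =>
      rw [taylor_coeff_zero, Unip34.counit_prim hp]
      simp
    | succ n =>
      refine mul_right_cancel₀ (Nat.cast_add_one_ne_zero n) ?_
      rw [taylor_coeff_succ, hDp, taylor_algebraMap, PowerSeries.algebraMap_apply, Algebra.algebraMap_self,
        RingHom.id_apply, PowerSeries.coeff_C]
      cases n <;> simp
  dsimp only [expPt]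
  rw [AlgHom.comp_apply, AlgHom.comp_apply]
  refine (congrArg (Polynomial.aeval t) ?_).trans (show Polynomial.aeval t (Polynomial.C (fn D p) * Polynomial.X) =
    fn D p • t by simp [Algebra.smul_def])
  refine (AlgEquiv.symm_apply_eq _).2 (Subtype.ext ?_)
  refine htaylor.trans ?_
  simp

end Groth.Agent.EqTors4.Mostow
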