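import Groth.Agent.EqTors4.RadLR
import Groth.Agent.LinRed34.Basic
import Groth.Agent.SGA3a.NormalHopf
import Groth.Agent.SGA3a.HopfFG
import Groth.Agent.Unip38.Extension
import Groth.Agent.Unip38.Infinitesimal
import Groth.Agent.Unip38.Unipotent
import Groth.Agent.S7968

/-!
The quotient by the unipotent radical in characteristic zero, in Hopf algebra form.
-/

set_option autoImplicit false
set_option linter.style.haveILetI false

universe u

open TensorProduct WithConv Groth.Agent.Comod33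
open Groth.Agent.GIT36.LinRedChar0 (IsMinSub ssCoef ssIdeal kills_ssIdeal_iff isNormal_ssIdeal)
open Groth.Agent.SGA3a.NormalHopf (coinv mem_coinv_iff)

set_option backward.isDefEq.respectTransparency false
set_option backward.isDefEq.respectTransparency.types false

noncomputable section

namespace Groth.Agent.EqTors4.Mostow

variable {k : Type u} [Field k] {B : Type u} [CommRing B] [HopfAlgebra k B]

/-- maps out of a quotient bialgebra -/
def liftQ {R C : Type u} [CommRing R] [HopfAlgebra k R] [CommRing C] [HopfAlgebra k C] (I : Ideal R)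
    [I.IsHopfIdeal k] (f : R →ₐc[k] C) (h : ∀ a ∈ I, f a = 0) : R ⧸ I →ₐc[k] C :=
  .ofAlgHom (Ideal.Quotient.liftₐ I (f : R →ₐ[k] C) h)
    (Ideal.Quotient.algHom_ext k (AlgHom.ext fun a => by
      show CoalgebraStruct.counit (R := k) (f a) = CoalgebraStruct.counit (R := k) a
      exact CoalgHomClass.counit_comp_apply f a))
    (Ideal.Quotient.algHom_ext k (AlgHom.ext fun a => by
      show Algebra.TensorProduct.map (Ideal.Quotient.liftₐ I (f : R →ₐ[k] C) h)
          (Ideal.Quotient.liftₐ I (f : R →ₐ[k] C) h)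
          (Algebra.TensorProduct.map (Ideal.Quotient.mkₐ k I) (Ideal.Quotient.mkₐ k I)
            (CoalgebraStruct.comul (R := k) a)) = CoalgebraStruct.comul (R := k) (f a)
      rw [← CoalgHomClass.map_comp_comul_apply f a]
      generalize CoalgebraStruct.comul (R := k) a = t
      induction t with
      | zero => simp
      | add p q hp hq => simp only [map_add, hp, hq]
      | tmul p q => simp))

theorem liftQ_mk {R C : Type u} [CommRing R] [HopfAlgebra k R] [CommRing C] [HopfAlgebra k C] (I : Ideal R)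
    [I.IsHopfIdeal k] (f : R →ₐc[k] C) (h : ∀ a ∈ I, f a = 0) (a : R) :
    liftQ I f h (Ideal.Quotient.mk I a) = f a := rfl

/-- the image of a normal Hopf ideal in a quotient is normal -/
theorem isNormal_map {A : Type u} [CommRing A] [HopfAlgebra k A] (π : A →ₐc[k] B) (I : Ideal A)
    (hI : SGA3.IsNormalHopfIdeal k A I) :
    SGA3.IsNormalHopfIdeal k B (Ideal.map (π : A →+* B) I) := by
  intro R _ _ g f hf a ha
  suffices hle : Ideal.map (π : A →+* B) I ≤
      RingHom.ker (Dyn.conv3 k B g f (g.comp (HopfAlgebra.antipodeAlgHom k B))) from hle ha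
  refine Ideal.map_le_iff_le_comap.2 fun r hr => ?_
  show Dyn.conv3 k B g f (g.comp (HopfAlgebra.antipodeAlgHom k B)) (π r) = 0
  have h3 := hI R (g.comp (π : A →ₐ[k] B)) (f.comp (π : A →ₐ[k] B))
    (fun a ha => hf _ (Ideal.mem_map_of_mem _ ha)) r hr
  refine Eq.trans ?_ h3
  rw [← WithConv.ofConv_toConv (Dyn.conv3 k B _ _ _), SGA3a.NormalHopf.toConv_conv3,
    ← WithConv.ofConv_toConv (Dyn.conv3 k A _ _ _), SGA3a.NormalHopf.toConv_conv3]
  rw [show (g.comp (π : A →ₐ[k] B)).comp (HopfAlgebra.antipodeAlgHom k A) =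
      (g.comp (HopfAlgebra.antipodeAlgHom k B)).comp (π : A →ₐ[k] B) from AlgHom.ext fun x => by
    show g (π (HopfAlgebraStruct.antipode (R := k) x)) = g (HopfAlgebraStruct.antipode (R := k) (π x))
    rw [Unip38.bialgHom_antipode]]
  have d := AlgHom.convMul_comp_bialgHom_distrib
    (toConv g * toConv f) (toConv (g.comp (HopfAlgebra.antipodeAlgHom k B))) π
  have d' := AlgHom.convMul_comp_bialgHom_distrib (toConv g) (toConv f) π
  refine (congrArg (fun q : A →ₐ[k] R => q r) d).trans ?_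
  rw [d']

variable [Algebra.FiniteType k B]

/-- every normal unipotent subgroup lies in the kernel of the simple representations -/
theorem ssIdeal_le (I : Ideal B) [I.IsHopfIdeal k] (hI : SGA3.IsNormalHopfIdeal k B I)
    (hQ : HopfRep.IsUnipotent k (B ⧸ I)) : ssIdeal k B ≤ I := by
  let π := Bialgebra.Quotient.mkBialgHom (R := k) I
  let p := (Ideal.Quotient.mkₐ k I).toLinearMap
  let W : Submodule k B :=
    LinearMap.ker (p.lTensor B ∘ₗ CoalgebraStruct.comul (R := k) (A := B) -
      (TensorProduct.mk k B (B ⧸ I)).flip 1)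
  have hmemW : ∀ v : B, v ∈ W ↔ p.lTensor B (CoalgebraStruct.comul (R := k) v) = v ⊗ₜ[k] (1 : B ⧸ I) :=
    fun v => by
    simp only [W, LinearMap.mem_ker, LinearMap.sub_apply, sub_eq_zero]
    rfl
  have hWsub : HopfRep.IsSubcomod (k := k) (A := B) W :=
    S7968.result k B I hI B W fun v => hmemW v
  intro a ha
  have hk := (kills_ssIdeal_iff (Ideal.Quotient.mkₐ k I)).2 fun M hM w hw => ?_
  · exact Ideal.Quotient.eq_zero_iff_mem.1 (hk a ha)
  rcases hM.2.2.2 (M ⊓ W) inf_le_left (isSubcomod_inf hM.1 hWsub) with h0 | h0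
  · exfalso
    let cM := ComodSub.Comod.restr (HopfRep.Comod.regular k B) M hM.1
    have hι : Hoch.IsComodHom B M.subtype := ComodSub.isComodHom_subtype (HopfRep.Comod.regular k B) M hM.1
    have hι' := isComodHom_push (π : B →ₗc[k] B ⧸ I) cM (HopfRep.Comod.regular k B) hι
    haveI : Module.Finite k M := hM.2.2.1
    haveI : Nontrivial M := Submodule.nontrivial_iff_ne_bot.2 hM.2.1
    obtain ⟨x, hx, hx0⟩ := @exists_fixed_of_isUnipotent k _ (B ⧸ I) _ _ hQ M _ _
      (push (π : B →ₗc[k] B ⧸ I) cM) _ _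
    have hxW : (x : B) ∈ W := by
      refine (hmemW _).2 ((LinearMap.congr_fun hι' x).trans ?_)
      show M.subtype.rTensor (B ⧸ I) ((push (π : B →ₗc[k] B ⧸ I) cM).coact x) = _
      rw [show (push (π : B →ₗc[k] B ⧸ I) cM).coact x = x ⊗ₜ[k] (1 : B ⧸ I) from hx]
      rfl
    have : (x : B) ∈ M ⊓ W := ⟨x.2, hxW⟩
    rw [h0, Submodule.mem_bot] at this
    exact hx0 (Subtype.ext this)
  · exact (hmemW w).1 (h0.ge hw).2

theorem isSubHopf_coinv_ss : SGA3.IsHopfSubalgebra k B (coinv (k := k) (ssIdeal k B)) :=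
  SGA3a.NormalHopf.isSubHopf_coinv isNormal_ssIdeal

theorem finiteType_coinv : Algebra.FiniteType k (coinv (k := k) (ssIdeal k B)) := by
  classical
  haveI : IsNoetherianRing B := Algebra.FiniteType.isNoetherianRing k B
  set C := coinv (k := k) (ssIdeal k B) with hC
  have hsub : SGA3.IsHopfSubalgebra k B C := isSubHopf_coinv_ss
  letI := SubHopf.hopfAlgebra hsub
  obtain ⟨t, ht, hspan⟩ := Submodule.fg_span_iff_fg_span_finset_subset
    {a : B | a ∈ C ∧ CoalgebraStruct.counit (R := k) (A := B) a = 0} |>.1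
    (IsNoetherian.noetherian (R := B) (M := B) _)
  obtain ⟨B₀, hs, hfg, hc, hS⟩ := SGA3a.exists_fg_hopfSubalgebra (k := k)
    (t.attach.image fun x : {x : B // x ∈ t} => (⟨(x : B), (ht x.2).1⟩ : C))
  let B₁ : Subalgebra k B := B₀.map C.val
  have hB₁ : SGA3.IsHopfSubalgebra k B B₁ := by
    constructor
    · rintro _ ⟨c, hc0, rfl⟩
      obtain ⟨z, hz⟩ := hc c hc0
      let ι : B₀ →ₗ[k] B₁ := (C.val.toLinearMap ∘ₗ B₀.val.toLinearMap).codRestrict B₁.toSubmodule
        fun x => ⟨x, x.2, rfl⟩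
      refine ⟨TensorProduct.map ι ι z, ?_⟩
      show _ = CoalgebraStruct.comul (R := k) (c : B)
      rw [← SubHopf.val₂_comul hsub c, show SubHopf.comul hsub c = CoalgebraStruct.comul (R := k) c from rfl,
        ← hz]
      clear hz
      induction z with
      | zero => simp
      | add p q hp hq => simp only [map_add, hp, hq]
      | tmul p q => rfl
    · rintro _ ⟨c, hc0, rfl⟩
      exact ⟨_, hS c hc0, rfl⟩
  have hle : B₁ ≤ C := by
    rintro _ ⟨c, -, rfl⟩
    exact c.2
  have haug : SGA3.augIdealSpan k B B₁ = ssIdeal k B := by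
    rw [SGA3a.NormalHopf.eq_augIdealSpan_coinv (I := ssIdeal k B) isNormal_ssIdeal, ← hC]
    refine le_antisymm (Ideal.span_mono fun a ha => ⟨hle ha.1, ha.2⟩) ?_
    rw [SGA3.augIdealSpan, SGA3.augIdealSpan, Ideal.span, hspan]
    refine Submodule.span_mono fun x hx => ⟨⟨⟨x, (ht hx).1⟩, hs ?_, rfl⟩, (ht hx).2⟩
    exact Finset.mem_coe.2 (Finset.mem_image.2 ⟨⟨x, hx⟩, Finset.mem_attach _ _, rfl⟩)
  have heq := SGA3a.NormalHopf.eq_coinv_augIdealSpan hB₁
  rw [haug] at heq
  rw [← hC] at heq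
  rw [← heq]
  exact B₁.fg_iff_finiteType.1 (hfg.map _)

/-- the quotient by the kernel of the simple representations is linearly reductive -/
theorem isLinearlyReductive_coinv [CharZero k] :
    letI := SubHopf.hopfAlgebra (isSubHopf_coinv_ss (k := k) (B := B))
    HopfRep.IsLinearlyReductive k (coinv (k := k) (ssIdeal k B)) := by
  set I := ssIdeal k B with hI
  set C := coinv (k := k) I with hC
  have hsub : SGA3.IsHopfSubalgebra k B C := isSubHopf_coinv_ss
  letI := SubHopf.hopfAlgebra hsub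
  haveI : Algebra.FiniteType k C := finiteType_coinv
  refine RadLR.isLinearlyReductive_of_hrad fun I₀ h₀ hn₀ hu₀ => ?_
  haveI := h₀
  have hu : HopfRep.IsUnipotent k (C ⧸ I₀) := hu₀
  let P : C →ₐc[k] B := SubHopf.incl hsub
  haveI : Module.FaithfullyFlat C B := HopfFlat.faithfullyFlat_of_isSubHopf hsub
  let J : Ideal B := Ideal.map (P : C →+* B) I₀
  have hcomap : J.comap (P : C →+* B) = I₀ := Ideal.comap_map_eq_self_of_faithfullyFlat (B := B) I₀
  haveI : J.IsHopfIdeal k := by
    have h1 := Unip38.isHopfIdeal_map_ker (Bialgebra.Quotient.mkBialgHom (R := k) I₀) Ideal.Quotient.mk_surjective P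
    rwa [show RingHom.ker ((Bialgebra.Quotient.mkBialgHom (R := k) I₀ : C →ₐc[k] C ⧸ I₀) : C →ₐ[k] C ⧸ I₀) = I₀ from
      Ideal.Quotient.mkₐ_ker k I₀] at h1
  have hJn : SGA3.IsNormalHopfIdeal k B J := isNormal_map P I₀ hn₀
  let ψ : C ⧸ I₀ →ₐc[k] B ⧸ J := liftQ I₀ ((Bialgebra.Quotient.mkBialgHom (R := k) J).comp P)
    fun a ha => Ideal.Quotient.eq_zero_iff_mem.2 (Ideal.mem_map_of_mem _ ha)
  have hψ : Function.Injective ψ := by
    refine (injective_iff_map_eq_zero _).2 fun x hx => ?_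
    obtain ⟨r, rfl⟩ := Ideal.Quotient.mk_surjective x
    rw [liftQ_mk] at hx
    have h1 : P r ∈ J := Ideal.Quotient.eq_zero_iff_mem.1 hx
    exact Ideal.Quotient.eq_zero_iff_mem.2 (hcomap ▸ h1)
  let J' : Ideal (B ⧸ J) := Ideal.map (ψ : C ⧸ I₀ →+* B ⧸ J) (RingHom.ker (Bialgebra.counitAlgHom k (C ⧸ I₀)))
  haveI : J'.IsHopfIdeal k := Unip38.isHopfIdeal_map_aug ψ
  have hN : HopfRep.IsUnipotent k ((B ⧸ J) ⧸ J') := by
    let π := (Bialgebra.Quotient.mkBialgHom (R := k) J').comp (Bialgebra.Quotient.mkBialgHom (R := k) J)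
    have hπ : ∀ a ∈ I, π a = 0 := by
      have hle : I ≤ RingHom.ker (π : B →+* (B ⧸ J) ⧸ J') := by
        refine (SGA3a.NormalHopf.eq_augIdealSpan_coinv (I := I) isNormal_ssIdeal).le.trans (Ideal.span_le.2 ?_)
        rintro a ⟨ha, ha0⟩
        show Ideal.Quotient.mk J' (Ideal.Quotient.mk J a) = 0
        refine Ideal.Quotient.eq_zero_iff_mem.2 ?_
        have h1 : (Ideal.Quotient.mk I₀ (⟨a, ha⟩ : C)) ∈ RingHom.ker (Bialgebra.counitAlgHom k (C ⧸ I₀)) :=
          RingHom.mem_ker.2 ha0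
        exact Ideal.mem_map_of_mem (ψ : C ⧸ I₀ →+* B ⧸ J) h1
      exact fun a ha => hle ha
    refine Unip38.isUnipotent_of_surjective (liftQ I π hπ) (fun y => ?_) RadLR.isUnipotent_ssIdeal
    obtain ⟨y, rfl⟩ := Ideal.Quotient.mk_surjective y
    obtain ⟨a, rfl⟩ := Ideal.Quotient.mk_surjective y
    exact ⟨Ideal.Quotient.mk I a, rfl⟩
  haveI : Algebra.FiniteType k (B ⧸ J) :=
    Algebra.FiniteType.of_surjective (Ideal.Quotient.mkₐ k J) (Ideal.Quotient.mkₐ_surjective k J)
  have hle := ssIdeal_le J hJn (Unip38.isUnipotent_of_extension ψ hψ J' rfl hu hN)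
  refine le_antisymm (fun a ha => Submodule.IsCoideal.counit_eq_zero (I := I₀.restrictScalars k) (x := a) ha)
    fun c hc => ?_
  rw [← hcomap]
  refine hle ?_
  rw [SGA3a.NormalHopf.eq_augIdealSpan_coinv (I := ssIdeal k B) isNormal_ssIdeal]
  exact Ideal.subset_span ⟨c.2, (show CoalgebraStruct.counit (R := k) (c : B) = 0 from hc)⟩

/-- complements inside the functions on the reductive quotient -/
theorem exists_compl_coinv [CharZero k] (X : Submodule k B)
    (hX : HopfRep.IsSubcomod (k := k) (A := B) X) (hle : X ≤ (coinv (k := k) (ssIdeal k B)).toSubmodule) :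
    ∃ Y : Submodule k B, HopfRep.IsSubcomod (k := k) (A := B) Y ∧
      Y ≤ (coinv (k := k) (ssIdeal k B)).toSubmodule ∧ X ⊔ Y = (coinv (k := k) (ssIdeal k B)).toSubmodule ∧
      Disjoint X Y := by
  set C := coinv (k := k) (ssIdeal k B) with hC
  have hsub : SGA3.IsHopfSubalgebra k B C := isSubHopf_coinv_ss
  letI := SubHopf.hopfAlgebra hsub
  have hss := LinRed34.isSemisimpleComod (isLinearlyReductive_coinv (k := k) (B := B)) C
  have key : ∀ (f : B →ₗ[k] k) (c : C),
      ((dact (f ∘ₗ C.val.toLinearMap) c : C) : B) = dact f (c : B) := by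
    intro f c
    show C.val (rc _ (CoalgebraStruct.comul (R := k) c)) = rc f (CoalgebraStruct.comul (R := k) (c : B))
    rw [← SubHopf.val₂_comul hsub c, show SubHopf.comul hsub c = CoalgebraStruct.comul (R := k) c from rfl]
    generalize CoalgebraStruct.comul (R := k) c = z
    induction z with
    | zero => simp
    | add p q hp hq => simp only [map_add, hp, hq]
    | tmul p q => simp
  obtain ⟨Y, hY, hc⟩ := hss (X.comap C.val.toLinearMap) ((isSubcomod_iff _).2 fun f c hc => by
    obtain ⟨g, hg⟩ := C.val.toLinearMap.exists_leftInverse_of_injective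
      (LinearMap.ker_eq_bot.2 Subtype.val_injective)
    show ((dact f c : C) : B) ∈ X
    have e : f = (f ∘ₗ g) ∘ₗ C.val.toLinearMap := by rw [LinearMap.comp_assoc, hg, LinearMap.comp_id]
    rw [e, key]
    exact (isSubcomod_iff X).1 hX _ _ hc)
  refine ⟨Y.map C.val.toLinearMap, (isSubcomod_iff _).2 ?_, ?_, ?_, ?_⟩
  · rintro f _ ⟨c, hc', rfl⟩
    exact ⟨_, (isSubcomod_iff Y).1 hY _ _ hc', key f c⟩
  · rintro _ ⟨c, -, rfl⟩
    exact c.2
  · refine le_antisymm (sup_le hle (by rintro _ ⟨c, -, rfl⟩; exact c.2)) fun x hx => ?_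
    obtain ⟨a, ha, b, hb, hab⟩ := Submodule.mem_sup.1
      (hc.sup_eq_top ▸ Submodule.mem_top (x := (⟨x, hx⟩ : C)))
    exact Submodule.mem_sup.2 ⟨(a : B), ha, (b : B), ⟨b, hb, rfl⟩, congrArg Subtype.val hab⟩
  · rw [Submodule.disjoint_def]
    rintro _ hx ⟨c, hc', rfl⟩
    rw [show c = 0 from Submodule.disjoint_def.1 hc.disjoint c hx hc', map_zero]

end Groth.Agent.EqTors4.Mostow
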