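import Groth.Agent.EqTors4.MostowQuot
import Groth.Agent.EqTors4.MostowExp
import Groth.Agent.Comod33.MatrixRep

/-!
A group with nontrivial unipotent radical has a proper subgroup supplementary to it, in characteristic zero.
-/

set_option autoImplicit false
set_option linter.style.haveILetI false

universe u

open TensorProduct WithConv Groth.Agent.Comod33
open Groth.Agent.GIT36.LinRedChar0 (ssIdeal isNormal_ssIdeal lieAlg fn isEps_fn)
open Groth.Agent.SGA3a.NormalHopf (coinv mem_coinv_iff)

set_option backward.isDefEq.respectTransparency false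
set_option backward.isDefEq.respectTransparency.types false

noncomputable section

namespace Groth.Agent.EqTors4.Mostow

variable {k : Type u} [Field k] {B : Type u} [CommRing B] [HopfAlgebra k B]

theorem mk_of_mem_coinv {c : B} (hc : c ∈ coinv (k := k) (ssIdeal k B)) :
    Ideal.Quotient.mkₐ k (ssIdeal k B) c = algebraMap k _ (CoalgebraStruct.counit (R := k) c) := by
  have h : c - algebraMap k B (CoalgebraStruct.counit (R := k) c) ∈ ssIdeal k B :=
    SGA3a.NormalHopf.augIdealSpan_coinv_le (Ideal.subset_span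
      ⟨sub_mem hc (Subalgebra.algebraMap_mem _ _), by simp⟩)
  rw [← AlgHom.commutes (Ideal.Quotient.mkₐ k (ssIdeal k B))]
  exact Ideal.Quotient.eq.2 h

variable [Algebra.FiniteType k B]

theorem isSubcomod_coinv :
    HopfRep.IsSubcomod (k := k) (A := B) (coinv (k := k) (ssIdeal k B)).toSubmodule := fun c hc => by
  obtain ⟨z, hz⟩ := (isSubHopf_coinv_ss (k := k) (B := B)).1 c hc
  refine ⟨LinearMap.lTensor _ (coinv (k := k) (ssIdeal k B)).val.toLinearMap z, ?_⟩
  refine Eq.trans ?_ hz
  rw [← LinearMap.comp_apply, LinearMap.rTensor_comp_lTensor]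
  rfl

theorem cf_mem_coinv (φ : B →ₗ[k] k) {c : B} (hc : c ∈ coinv (k := k) (ssIdeal k B)) :
    cf (A := B) φ c ∈ coinv (k := k) (ssIdeal k B) := by
  obtain ⟨z, hz⟩ := (isSubHopf_coinv_ss (k := k) (B := B)).1 c hc
  rw [cf_apply]
  show lc φ (CoalgebraStruct.comul (R := k) c) ∈ _
  rw [← hz]
  clear hz
  induction z with
  | zero => simp
  | add p q hp hq => simp only [map_add]; exact add_mem hp hq
  | tmul p q => simpa using Subalgebra.smul_mem _ q.2 _

/-- a function which is invariant modulo the functions on the reductive quotient -/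
theorem exists_cocycle [CharZero k]
    (hne : ssIdeal k B ≠ RingHom.ker (Bialgebra.counitAlgHom k B)) :
    ∃ f : B, f ∉ coinv (k := k) (ssIdeal k B) ∧
      CoalgebraStruct.comul (R := k) f - f ⊗ₜ[k] (1 : B) ∈
        LinearMap.range ((coinv (k := k) (ssIdeal k B)).toSubmodule.subtype.rTensor B) := by
  classical
  set I := ssIdeal k B with hI
  set C := coinv (k := k) I with hC
  have hsub : SGA3.IsHopfSubalgebra k B C := isSubHopf_coinv_ss
  let Cs := C.toSubmodule
  let M := LinearMap.range (Cs.subtype.rTensor B)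
  have hCs : HopfRep.IsSubcomod (k := k) (A := B) Cs := isSubcomod_coinv
  letI cW := ComodSub.Comod.quot (HopfRep.Comod.regular k B) Cs hCs
  have hπ : Hoch.IsComodHom B Cs.mkQ := ComodSub.isComodHom_mkQ (HopfRep.Comod.regular k B) Cs hCs
  have hCtop : Cs ≠ ⊤ := by
    intro h
    refine hne (le_antisymm (fun a ha => Submodule.IsCoideal.counit_eq_zero (I := I.restrictScalars k) (x := a) ha)
      fun a ha => ?_)
    have haC : a ∈ C := (h.ge Submodule.mem_top : a ∈ Cs)
    have := mk_of_mem_coinv haC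
    rw [show CoalgebraStruct.counit (R := k) a = 0 from ha, map_zero] at this
    exact Ideal.Quotient.eq_zero_iff_mem.1 this
  -- an invariant class
  obtain ⟨v, hv⟩ : ∃ v : B ⧸ Cs, v ≠ 0 := by
    haveI := Submodule.Quotient.nontrivial_iff.2 hCtop
    exact exists_ne 0
  obtain ⟨U, hUf, hvU, hU⟩ := exists_finite_subcomod_mem (k := k) (A := B) v
  let cU := ComodSub.Comod.restr cW U hU
  have hιU : Hoch.IsComodHom B U.subtype := ComodSub.isComodHom_subtype cW U hU
  haveI : Nontrivial U := ⟨⟨⟨v, hvU⟩, 0, fun e => hv (congrArg Subtype.val e)⟩⟩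
  let π := Bialgebra.Quotient.mkBialgHom (R := k) I
  obtain ⟨x₀, hx₀, hx₀0⟩ := @exists_fixed_of_isUnipotent k _ (B ⧸ I) _ _ RadLR.isUnipotent_ssIdeal U _ _
    (push (π : B →ₗc[k] B ⧸ I) cU) _ _
  let a₀ : B ⧸ Cs := (x₀ : B ⧸ Cs)
  have ha₀0 : a₀ ≠ 0 := fun e => hx₀0 (Subtype.ext e)
  have hfix : (Ideal.Quotient.mkₐ k I).toLinearMap.lTensor _ (HopfRep.Comod.coact (k := k) (A := B) a₀) =
      a₀ ⊗ₜ[k] (1 : B ⧸ I) := by
    have hι' := isComodHom_push (π : B →ₗc[k] B ⧸ I) cU cW hιU
    refine (LinearMap.congr_fun hι' x₀).trans ?_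
    show U.subtype.rTensor (B ⧸ I) ((push (π : B →ₗc[k] B ⧸ I) cU).coact x₀) = _
    rw [show (push (π : B →ₗc[k] B ⧸ I) cU).coact x₀ = x₀ ⊗ₜ[k] (1 : B ⧸ I) from hx₀]
    rfl
  have hcoef₀ : ∀ φ : B ⧸ Cs →ₗ[k] k, cf (A := B) φ a₀ ∈ C := by
    intro φ
    rw [hC, mem_coinv_iff]
    show Algebra.TensorProduct.map (AlgHom.id k B) (Ideal.Quotient.mkₐ k I)
      (CoalgebraStruct.comul (R := k) (cf (A := B) φ a₀)) = _
    rw [comul_cf]
    refine Eq.trans ?_ (congrArg ((cf (A := B) φ).rTensor (B ⧸ I)) hfix)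
    generalize HopfRep.Comod.coact (k := k) (A := B) a₀ = t
    induction t with
    | zero => simp
    | add p q hp hq => simp only [map_add, hp, hq]
    | tmul p q => simp
  -- a matrix for the subrepresentation it generates
  let U₀ := gen (k := k) (A := B) a₀
  have hU₀ : HopfRep.IsSubcomod (k := k) (A := B) U₀ := isSubcomod_gen a₀
  haveI : Module.Finite k U₀ := finite_gen a₀
  letI cU₀ := ComodSub.Comod.restr cW U₀ hU₀
  have hι₀ : Hoch.IsComodHom B U₀.subtype := ComodSub.isComodHom_subtype cW U₀ hU₀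
  let b := Module.finBasis k U₀
  let δ := Mat.mc (A := B) b
  have hrep := Mat.isRep_mc (A := B) b
  have hδC : ∀ i j, δ i j ∈ C := by
    intro i j
    obtain ⟨φ, hφ⟩ : ∃ φ : B ⧸ Cs →ₗ[k] k, φ ∘ₗ U₀.subtype = b.coord i := by
      obtain ⟨g, hg⟩ := U₀.subtype.exists_leftInverse_of_injective U₀.ker_subtype
      exact ⟨b.coord i ∘ₗ g, by rw [LinearMap.comp_assoc, hg, LinearMap.comp_id]⟩
    obtain ⟨g, hg⟩ : ∃ g : B →ₗ[k] k, dact g a₀ = (b j : B ⧸ Cs) := (b j).2
    show cf (A := B) (b.coord i) (b j) ∈ C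
    rw [← hφ, ← cf_comp hι₀, show U₀.subtype (b j) = dact g a₀ from hg.symm,
      IsComodHom.dact (isComodHom_cf φ)]
    exact (isSubcomod_iff Cs).1 hCs g _ (hcoef₀ φ)
  choose a ha using fun j => Cs.mkQ_surjective (b j : B ⧸ Cs)
  have hz : ∀ j, CoalgebraStruct.comul (R := k) (a j) - ∑ l, a l ⊗ₜ[k] δ l j ∈ M := by
    intro j
    have hex := rTensor_exact B (LinearMap.exact_subtype_mkQ Cs) Cs.mkQ_surjective
    refine (hex _).1 ?_
    rw [map_sub, sub_eq_zero, map_sum]
    have h1 := LinearMap.congr_fun hπ (a j)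
    simp only [LinearMap.comp_apply] at h1
    refine h1.symm.trans ?_
    rw [ha j]
    have h2 : HopfRep.Comod.coact (k := k) (A := B) (b j : B ⧸ Cs) =
        U₀.subtype.rTensor B (cU₀.coact (b j)) := LinearMap.congr_fun hι₀ (b j)
    rw [h2, Mat.coact_basis b j, map_sum]
    refine Finset.sum_congr rfl fun l _ => ?_
    rw [LinearMap.rTensor_tmul, LinearMap.rTensor_tmul, ha l]
    rfl
  let S := HopfAlgebra.antipodeAlgHom k B
  have hSr : ∀ i j, ∑ l, δ i l * S (δ l j) = if i = j then 1 else 0 := by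
    intro i j
    have h := HopfAlgebra.mul_antipode_lTensor_comul_apply (R := k) (δ i j)
    rw [hrep.comul, hrep.counit] at h
    simp only [map_sum, LinearMap.lTensor_tmul, LinearMap.mul'_apply] at h
    refine h.trans ?_
    split_ifs <;> simp
  have hSl : ∀ i j, ∑ l, S (δ i l) * δ l j = if i = j then 1 else 0 := by
    intro i j
    have h := HopfAlgebra.mul_antipode_rTensor_comul_apply (R := k) (δ i j)
    rw [hrep.comul, hrep.counit] at h
    simp only [map_sum, LinearMap.rTensor_tmul, LinearMap.mul'_apply] at h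
    refine h.trans ?_
    split_ifs <;> simp
  have hSΔ : ∀ j m, CoalgebraStruct.comul (R := k) (S (δ j m)) = ∑ r, S (δ r m) ⊗ₜ[k] S (δ j r) := by
    intro j m
    show CoalgebraStruct.comul (R := k) (HopfAlgebraStruct.antipode (R := k) (δ j m)) = _
    rw [Hopf35.comul_antipode, hrep.comul]
    simp [S, δ]
  have hMmul : ∀ x ∈ M, ∀ c : B, c ∈ C → x * CoalgebraStruct.comul (R := k) c ∈ M := by
    rintro _ ⟨y, rfl⟩ c hc
    obtain ⟨w, hw⟩ := hsub.1 c hc
    rw [← hw]
    clear hw
    induction y with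
    | zero => simp
    | add p q hp hq => rw [map_add, add_mul]; exact M.add_mem hp hq
    | tmul p q =>
      induction w with
      | zero => simp
      | add r s hr hs => rw [map_add, mul_add]; exact M.add_mem hr hs
      | tmul r s =>
        exact ⟨⟨(p : B) * r, C.mul_mem p.2 r.2⟩ ⊗ₜ[k] (q * (s : B)), by simp⟩
  let f : Fin (Module.finrank k U₀) → B := fun m => ∑ j, a j * S (δ j m)
  have hf : ∀ m, CoalgebraStruct.comul (R := k) (f m) - f m ⊗ₜ[k] (1 : B) ∈ M := by
    intro m
    have e : f m ⊗ₜ[k] (1 : B) = ∑ j, (∑ l, a l ⊗ₜ[k] δ l j) * CoalgebraStruct.comul (R := k) (S (δ j m)) := by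
      simp only [hSΔ, Finset.sum_mul, Finset.mul_sum, Algebra.TensorProduct.tmul_mul_tmul]
      rw [Finset.sum_comm, sum_tmul]
      refine Finset.sum_congr rfl fun l _ => ?_
      rw [Finset.sum_comm]
      simp only [← tmul_sum, hSr]
      simp only [TensorProduct.tmul_ite, Finset.sum_ite_eq', Finset.mem_univ, if_true]
    rw [e, show f m = ∑ j, a j * S (δ j m) from rfl, map_sum, ← Finset.sum_sub_distrib]
    refine M.sum_mem fun j _ => ?_
    rw [Bialgebra.comul_mul, ← sub_mul]
    exact hMmul _ (hz j) _ (hsub.2 _ (hδC j m))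
  by_contra hcon
  have hall : ∀ m, f m ∈ C := fun m => by
    by_contra hm
    exact hcon ⟨f m, hm, hf m⟩
  have hb0 : ∀ l, b l = 0 := by
    intro l
    have h : a l = ∑ m, f m * δ m l := by
      simp only [f, Finset.sum_mul, _root_.mul_assoc]
      rw [Finset.sum_comm]
      simp only [← Finset.mul_sum, hSl, mul_ite, _root_.mul_one, mul_zero, Finset.sum_ite_eq', Finset.mem_univ,
        if_true]
    have haC : a l ∈ Cs := by
      rw [h]
      exact sum_mem fun m _ => C.mul_mem (hall m) (hδC m l)
    refine Subtype.ext ?_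
    rw [← ha l]
    exact (Submodule.Quotient.mk_eq_zero Cs).2 haC
  have h0 : (⟨a₀, mem_gen a₀⟩ : U₀) = 0 := by
    rw [← b.sum_repr ⟨a₀, mem_gen a₀⟩]
    simp [hb0]
  exact ha₀0 (congrArg Subtype.val h0)

/-- a proper subgroup supplementary to the unipotent radical -/
theorem exists_supplement [CharZero k]
    (hne : ssIdeal k B ≠ RingHom.ker (Bialgebra.counitAlgHom k B)) :
    ∃ J : Ideal B, J ≠ ⊥ ∧ J.IsHopfIdeal k ∧ ∃ n h : B →ₐ[k] B, (∀ a ∈ ssIdeal k B, n a = 0) ∧
      (∀ a ∈ J, h a = 0) ∧ toConv (AlgHom.id k B) = toConv n * toConv h := by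
  classical
  set I := ssIdeal k B with hI
  set C := coinv (k := k) I with hC
  let q := Ideal.Quotient.mkₐ k I
  let Cs := C.toSubmodule
  obtain ⟨f, hfC, z₀, hz₀⟩ := exists_cocycle hne
  set z := CoalgebraStruct.comul (R := k) f - f ⊗ₜ[k] (1 : B) with hz
  let F : (B →ₗ[k] k) → B := fun φ => lc φ z
  have hF : ∀ φ, F φ = cf (A := B) φ f - algebraMap k B (φ f) := fun φ => by
    show lc φ z = _
    rw [hz, map_sub, lc_tmul, Algebra.algebraMap_eq_smul_one]
    rfl
  have hFε : ∀ φ, CoalgebraStruct.counit (R := k) (F φ) = 0 := fun φ => by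
    rw [hF, map_sub, counit_cf, Bialgebra.counit_algebraMap, sub_self]
  have hFΔ : ∀ φ, CoalgebraStruct.comul (R := k) (F φ) =
      F φ ⊗ₜ[k] (1 : B) + (cf (A := B) φ).rTensor B z := fun φ => by
    rw [hF, map_sub, comul_cf, hz, map_sub, LinearMap.rTensor_tmul, Bialgebra.comul_algebraMap, sub_tmul,
      Algebra.TensorProduct.algebraMap_apply]
    rw [show HopfRep.Comod.coact (k := k) (A := B) f = CoalgebraStruct.comul (R := k) f from rfl]
    abel
  -- translations by the radical
  let T : (B ⧸ I →ₗ[k] k) → B := fun g => rc (g ∘ₗ q.toLinearMap) z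
  have hTlc : ∀ (g : B ⧸ I →ₗ[k] k) (φ : B →ₗ[k] k), φ (T g) = g (q (F φ)) := by
    intro g φ
    show φ (rc (g ∘ₗ q.toLinearMap) z) = g (q (lc φ z))
    generalize z = t
    induction t with
    | zero => simp
    | add p q hp hq => simp only [map_add, hp, hq]
    | tmul p q => simp [mul_comm]
  let X : Submodule k B := Submodule.span k (Set.range T)
  have hXC : X ≤ Cs := Submodule.span_le.2 (by
    rintro _ ⟨g, rfl⟩
    exact rc_mem_of_mem_range _ ⟨z₀, hz₀⟩)
  haveI : Module.Finite k X := by
    haveI := finite_gen (k := k) (A := B) f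
    refine Submodule.finiteDimensional_of_le (S₂ := gen (k := k) (A := B) f ⊔ Submodule.span k {f}) ?_
    refine Submodule.span_le.2 ?_
    rintro _ ⟨g, rfl⟩
    show rc (g ∘ₗ q.toLinearMap) z ∈ _
    rw [hz, map_sub, rc_tmul]
    exact Submodule.sub_mem _ (Submodule.mem_sup_left (dact_mem_gen _ f))
      (Submodule.mem_sup_right (Submodule.smul_mem _ _ (Submodule.mem_span_singleton_self f)))
  have hXsub : HopfRep.IsSubcomod (k := k) (A := B) X := by
    suffices key : ∀ φ : B →ₗ[k] k, (∀ x ∈ X, φ x = 0) → ∀ x ∈ X, cf (A := B) φ x = 0 by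
      intro x hx
      refine (rTensor_exact B (LinearMap.exact_subtype_mkQ X) X.mkQ_surjective _).1 (eq_of_lc fun ψ => ?_)
      rw [lc_rTensor, map_zero]
      exact key (ψ ∘ₗ X.mkQ) (fun y hy => by
        rw [LinearMap.comp_apply, Submodule.mkQ_apply, (Submodule.Quotient.mk_eq_zero X).2 hy, map_zero]) x hx
    intro φ hφ
    have hqF : q (F φ) = 0 := (Module.forall_dual_apply_eq_zero_iff k _).1 fun g =>
      (hTlc g φ).symm.trans (hφ _ (Submodule.subset_span ⟨g, rfl⟩))
    let R := B ⊗[k] (B ⧸ I)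
    let g₁ : B →ₐ[k] R := Algebra.TensorProduct.includeLeft
    let n₁ : B →ₐ[k] R := (Algebra.TensorProduct.includeRight).comp q
    let G := toConv g₁
    let N := toConv n₁
    have hn₁ : SGA3a.NormalHopf.Kills I n₁ := fun a ha => by
      show Algebra.TensorProduct.includeRight (q a) = 0
      rw [show q a = 0 from Ideal.Quotient.eq_zero_iff_mem.2 ha, map_zero]
    let P : WithConv (B →ₐ[k] R) → WithConv (B →ₐ[k] R) → R := fun a b =>
      LinearMap.mul' k R (TensorProduct.map (a.ofConv.toLinearMap ∘ₗ cf (A := B) φ) b.ofConv.toLinearMap z)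
    have hmul : ∀ a b, (a * b).ofConv (F φ) = a.ofConv (F φ) + P a b := by
      intro a b
      rw [AlgHom.convMul_apply, hFΔ, map_add, Algebra.TensorProduct.lift_tmul, map_one, _root_.mul_one]
      congr 1
      show _ = LinearMap.mul' k R (TensorProduct.map (a.ofConv.toLinearMap ∘ₗ cf (A := B) φ) b.ofConv.toLinearMap z)
      generalize z = t
      induction t with
      | zero => simp
      | add p q hp hq => simp only [map_add, hp, hq]
      | tmul p q => simp
    have hP : P (G * N) G⁻¹ = P G G⁻¹ := by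
      show LinearMap.mul' k R (TensorProduct.map _ _ z) = LinearMap.mul' k R (TensorProduct.map _ _ z)
      rw [← hz₀]
      clear hz₀
      induction z₀ with
      | zero => simp
      | add p q hp hq => simp only [map_add, hp, hq]
      | tmul p q =>
        simp only [LinearMap.rTensor_tmul, Submodule.subtype_apply, TensorProduct.map_tmul, LinearMap.comp_apply,
          LinearMap.mul'_apply, AlgHom.toLinearMap_apply]
        rw [show (G * N).ofConv (cf (A := B) φ (p : B)) = G.ofConv (cf (A := B) φ (p : B)) from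
          cf_mem_coinv φ p.2 R g₁ n₁ hn₁]
    have hconj : (G * N * G⁻¹).ofConv (F φ) = 0 :=
      SGA3a.NormalHopf.kills_conj I isNormal_ssIdeal G hn₁ _ (Ideal.Quotient.eq_zero_iff_mem.1 hqF)
    have hone : (G * G⁻¹).ofConv (F φ) = 0 := by
      rw [show G * G⁻¹ = 1 from _root_.mul_inv_cancel G, AlgHom.convOne_apply, hFε, map_zero]
    rw [hmul, hP, hmul] at hconj
    rw [hmul] at hone
    have hPN : P G N = 0 := by linear_combination hconj - hone
    have hzero : TensorProduct.map (cf (A := B) φ) q.toLinearMap z = 0 := by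
      refine Eq.trans ?_ hPN
      show _ = LinearMap.mul' k R (TensorProduct.map _ _ z)
      generalize z = t
      induction t with
      | zero => simp
      | add p q hp hq => simp only [map_add, hp, hq]
      | tmul a e =>
        show (cf (A := B) φ a) ⊗ₜ[k] q e = (cf (A := B) φ a ⊗ₜ[k] (1 : B ⧸ I)) * ((1 : B) ⊗ₜ[k] q e)
        rw [Algebra.TensorProduct.tmul_mul_tmul, _root_.mul_one, _root_.one_mul]
    intro x hx
    induction hx using Submodule.span_induction with
    | mem y hy =>
      obtain ⟨g, rfl⟩ := hy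
      have h2 := congrArg (rc (V := B) g) hzero
      rw [map_zero] at h2
      refine Eq.trans ?_ h2
      show cf (A := B) φ (rc (g ∘ₗ q.toLinearMap) z) = _
      generalize z = t
      induction t with
      | zero => simp
      | add p q hp hq => simp only [map_add, hp, hq]
      | tmul p q => simp
    | zero => simp
    | add a b _ _ ha hb => rw [map_add, ha, hb, add_zero]
    | smul c a _ ha => rw [map_smul, ha, smul_zero]
  -- a complement
  obtain ⟨Y, hY, hYC, hXY, hdisj⟩ := exists_compl_coinv X hXsub hXC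
  obtain ⟨L, hL⟩ := (X.subtype.coprod Y.subtype).exists_leftInverse_of_injective (by
    rw [LinearMap.ker_coprod_of_disjoint_range _ _ (by
      rwa [Submodule.range_subtype, Submodule.range_subtype]), Submodule.ker_subtype, Submodule.ker_subtype,
      Submodule.prod_bot])
  let P₀ : B →ₗ[k] X := LinearMap.fst k X Y ∘ₗ L
  have hP₀X : ∀ x : X, P₀ x = x := fun x => by
    have h := LinearMap.congr_fun hL (x, 0)
    simp only [LinearMap.comp_apply, LinearMap.coprod_apply, Submodule.subtype_apply, ZeroMemClass.coe_zero,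
      add_zero, LinearMap.id_apply] at h
    show (L x).1 = x
    rw [h]
  have hP₀Y : ∀ y : Y, P₀ y = 0 := fun y => by
    have h := LinearMap.congr_fun hL (0, y)
    simp only [LinearMap.comp_apply, LinearMap.coprod_apply, Submodule.subtype_apply, ZeroMemClass.coe_zero,
      zero_add, LinearMap.id_apply] at h
    show (L y).1 = 0
    rw [h]
  let b := Module.finBasis k X
  let φ : Fin (Module.finrank k X) → (B →ₗ[k] k) := fun i => b.coord i ∘ₗ P₀
  let G : Fin (Module.finrank k X) → B := fun i => F (φ i)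
  let c : Fin (Module.finrank k X) → Fin (Module.finrank k X) → B := fun i l => cf (A := B) (φ i) (b l : B)
  have hc : ∀ i l, c i l ∈ C := fun i l => cf_mem_coinv _ (hXC (b l).2)
  have hcε : ∀ i l, CoalgebraStruct.counit (R := k) (c i l) = if i = l then 1 else 0 := by
    intro i l
    show CoalgebraStruct.counit (R := k) (cf (A := B) (φ i) (b l : B)) = _
    rw [counit_cf]
    show b.coord i (P₀ (b l : B)) = _
    rw [hP₀X, Module.Basis.coord_apply, b.repr_self, Finsupp.single_apply]
    simp only [eq_comm]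
  have hGΔ : ∀ i, CoalgebraStruct.comul (R := k) (G i) = G i ⊗ₜ[k] (1 : B) + ∑ l, c i l ⊗ₜ[k] G l := by
    intro i
    show CoalgebraStruct.comul (R := k) (F (φ i)) = _
    rw [hFΔ]
    refine congrArg₂ (· + ·) rfl ?_
    show (cf (A := B) (φ i)).rTensor B z = ∑ l, c i l ⊗ₜ[k] lc (φ l) z
    rw [← hz₀]
    clear hz₀
    induction z₀ with
    | zero => simp
    | add p q hp hq => simp only [map_add, tmul_add, Finset.sum_add_distrib, hp, hq]
    | tmul p e =>
      rw [LinearMap.rTensor_tmul, LinearMap.rTensor_tmul, Submodule.subtype_apply]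
      simp only [lc_tmul, tmul_smul, TensorProduct.smul_tmul']
      rw [← sum_tmul]
      refine congrArg (· ⊗ₜ[k] e) ?_
      obtain ⟨x, hx, y, hy, hxy⟩ := Submodule.mem_sup.1 (hXY.ge p.2)
      have hφP : cf (A := B) (φ i) (p : B) = cf (A := B) (φ i) x := by
        rw [← hxy, map_add]
        refine add_eq_left.2 ?_
        obtain ⟨w, hw⟩ := hY y hy
        rw [cf_apply, ← hw, lc_rTensor, show φ i ∘ₗ Y.subtype = 0 from LinearMap.ext fun y' => by
          show b.coord i (P₀ (y' : B)) = 0
          rw [hP₀Y, map_zero]]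
        simp [lc]
      rw [hφP]
      have hxb : x = ∑ l, φ l (p : B) • (b l : B) := by
        have h1 : ∀ l, φ l (p : B) = b.repr ⟨x, hx⟩ l := fun l => by
          show b.coord l (P₀ (p : B)) = _
          rw [← hxy, map_add, show P₀ x = ⟨x, hx⟩ from hP₀X ⟨x, hx⟩, show P₀ y = 0 from hP₀Y ⟨y, hy⟩, add_zero]
          rfl
        simp only [h1]
        refine (congrArg Subtype.val (b.sum_repr ⟨x, hx⟩)).symm.trans ?_
        rw [Submodule.coe_sum]
        rfl
      conv_lhs => rw [hxb, map_sum]
      exact Finset.sum_congr rfl fun l _ => map_smul _ _ _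
  -- the Lie algebra reaches all translations
  let p : Fin (Module.finrank k X) → B ⧸ I := fun i => q (G i)
  have hprim : ∀ i, Diag.IsPrim (k := k) (p i) := by
    intro i
    show CoalgebraStruct.comul (R := k) (Ideal.Quotient.mk I (G i)) = _
    rw [Bialgebra.Quotient.comul_mk, hGΔ, map_add, map_sum, TensorProduct.map_tmul]
    refine congrArg₂ (· + ·) rfl ?_
    refine (Finset.sum_congr rfl fun l _ => (show _ = (if i = l then (1 : B ⧸ I) else 0) ⊗ₜ[k] q (G l) from ?_)).trans ?_
    · rw [TensorProduct.map_tmul]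
      refine congrArg₂ (· ⊗ₜ[k] ·) ((mk_of_mem_coinv (hc i l)).trans ?_) rfl
      rw [hcε]
      split_ifs <;> simp
    · simp [p, q, TensorProduct.ite_tmul]
  haveI : Algebra.FiniteType k (B ⧸ I) :=
    Algebra.FiniteType.of_surjective (Ideal.Quotient.mkₐ k I) (Ideal.Quotient.mkₐ_surjective k I)
  let E : lieAlg k (B ⧸ I) →ₗ[k] (Fin (Module.finrank k X) → k) :=
    { toFun := fun D i => fn D (p i), map_add' := fun _ _ => rfl, map_smul' := fun _ _ => rfl }
  have hE : LinearMap.range E = ⊤ := by
    by_contra hne'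
    obtain ⟨ψ, hψ, hψE⟩ := Submodule.exists_le_ker_of_lt_top _ (lt_top_iff_ne_top.2 hne')
    refine hψ (LinearMap.pi_ext' fun j => LinearMap.ext_ring ?_)
    show ψ (Pi.single j 1) = 0
    set lam : Fin (Module.finrank k X) → k := fun i => ψ (Pi.single i 1) with hlam
    have hψv : ∀ v, ψ v = ∑ i, v i * lam i := fun v => by
      conv_lhs => rw [pi_eq_sum_univ' v]
      simp [hlam]
    have hs : ∑ i, lam i • p i = 0 := by
      refine eq_zero_of_prim_of_lieAlg (k := k) ?_ fun D => ?_
      · show CoalgebraStruct.comul (R := k) _ = _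
        simp only [map_sum, map_smul, sum_tmul, tmul_sum, TensorProduct.tmul_smul, ← TensorProduct.smul_tmul',
          ← Finset.sum_add_distrib, ← smul_add]
        exact Finset.sum_congr rfl fun i _ => congrArg (lam i • ·) (hprim i)
      · rw [map_sum]
        have h : ψ (E D) = 0 := hψE ⟨D, rfl⟩
        rw [hψv] at h
        refine Eq.trans (Finset.sum_congr rfl fun i _ => ?_) h
        rw [map_smul, smul_eq_mul, mul_comm]
        rfl
    have hX0 : ∀ x ∈ X, (∑ i, lam i • φ i) x = 0 := by
      intro x hx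
      induction hx using Submodule.span_induction with
      | mem y hy =>
        obtain ⟨g, rfl⟩ := hy
        rw [LinearMap.sum_apply, Finset.sum_congr rfl fun i _ =>
          (show (lam i • φ i) (T g) = lam i • g (q (F (φ i))) by rw [LinearMap.smul_apply, hTlc])]
        rw [show ∑ i, lam i • g (q (F (φ i))) = g (∑ i, lam i • p i) by simp [map_sum, map_smul, p, G], hs,
          map_zero]
      | zero => simp
      | add a b _ _ ha hb => rw [map_add, ha, hb, add_zero]
      | smul c a _ ha => rw [map_smul, ha, smul_zero]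
    have h1 := hX0 _ (b j).2
    simp only [LinearMap.sum_apply, LinearMap.smul_apply, smul_eq_mul, φ, LinearMap.comp_apply, hP₀X,
      Module.Basis.coord_apply, Module.Basis.repr_self, Finsupp.single_apply] at h1
    simpa using h1
  choose D hD using fun j => LinearMap.range_eq_top.1 hE (Pi.single j 1)
  have hU : HopfRep.IsUnipotent k (B ⧸ I) := RadLR.isUnipotent_ssIdeal
  -- the exponential
  have hlist : ∀ L : List (Fin (Module.finrank k X)), ∃ n : WithConv (B ⧸ I →ₐ[k] B), ∀ s, Diag.IsPrim (k := k) s →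
      n.ofConv s = (L.map fun j => fn (D j) s • G j).sum := by
    intro L
    induction L with
    | nil =>
      refine ⟨1, fun s hs => ?_⟩
      rw [AlgHom.convOne_apply, show CoalgebraStruct.counit (R := k) s = 0 from Diag.counit_prim hs, map_zero]
      rfl
    | cons j L ih =>
      obtain ⟨n, hn⟩ := ih
      refine ⟨toConv (expPt (D j) hU (G j)) * n, fun s hs => ?_⟩
      rw [AlgHom.convMul_apply, show CoalgebraStruct.comul (R := k) s = _ from hs, map_add,
        Algebra.TensorProduct.lift_tmul, Algebra.TensorProduct.lift_tmul, map_one, map_one, _root_.mul_one,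
        _root_.one_mul, ofConv_toConv, expPt_prim (D j) hU (G j) hs, hn s hs, List.map_cons, List.sum_cons]
  obtain ⟨n₀, hn₀⟩ := hlist Finset.univ.toList
  have hnp : ∀ i, n₀.ofConv (p i) = G i := by
    intro i
    rw [hn₀ _ (hprim i), Finset.sum_map_toList]
    have hDi : ∀ j, fn (D j) (p i) = if i = j then 1 else 0 := fun j => by
      have h := congrFun (hD j) i
      rw [Pi.single_apply] at h
      exact h
    simp [hDi]
  let n : B →ₐ[k] B := n₀.ofConv.comp q
  let h : B →ₐ[k] B := ((toConv n)⁻¹ * toConv (AlgHom.id k B)).ofConv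
  let J : Ideal B := Ideal.span (Set.range G)
  have hS : ∀ i, HopfAlgebraStruct.antipode (R := k) (G i) + ∑ l, HopfAlgebraStruct.antipode (R := k) (c i l) * G l = 0 := by
    intro i
    have h := HopfAlgebra.mul_antipode_rTensor_comul_apply (R := k) (G i)
    rw [hGΔ, show CoalgebraStruct.counit (R := k) (G i) = 0 from hFε _, map_zero] at h
    simpa using h
  have hq : ∀ (i : _) (l : _), q (HopfAlgebraStruct.antipode (R := k) (c i l)) = if i = l then 1 else 0 := by
    intro i l
    rw [mk_of_mem_coinv ((isSubHopf_coinv_ss (k := k) (B := B)).2 _ (hc i l))]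
    rw [HopfAlgebra.counit_antipode, hcε]
    split_ifs <;> simp
  have hinv : ∀ a, ((toConv n)⁻¹).ofConv a = n₀.ofConv (q (HopfAlgebraStruct.antipode (R := k) a)) := fun a => by
    rw [SGA3a.NormalHopf.inv_ofConv]
    rfl
  refine ⟨J, ?_, ?_, n, h, fun a ha => ?_, fun a ha => ?_, ?_⟩
  · intro hJ
    have hX0 : X ≠ ⊥ := by
      intro hX
      refine hfC ?_
      rw [mem_coinv_iff]
      have hz0 : q.toLinearMap.lTensor B z = 0 := eq_of_rc fun g => by
        rw [rc_lTensor, map_zero]
        exact (Submodule.mem_bot k).1 (hX ▸ Submodule.subset_span ⟨g, rfl⟩)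
      rw [hz, map_sub, sub_eq_zero, LinearMap.lTensor_tmul, AlgHom.toLinearMap_apply, map_one] at hz0
      exact hz0
    haveI : Nontrivial X := Submodule.nontrivial_iff_ne_bot.2 hX0
    let j : Fin (Module.finrank k X) := ⟨0, Module.finrank_pos⟩
    have hGj : G j = 0 := by
      have : G j ∈ J := Ideal.subset_span ⟨j, rfl⟩
      rwa [hJ, Ideal.mem_bot] at this
    have h1 := congrFun (hD j) j
    rw [show E (D j) j = fn (D j) (q (G j)) from rfl, hGj, map_zero, map_zero, Pi.single_eq_same] at h1
    exact zero_ne_one h1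
  · refine IdComp.isHopfIdeal_span _ ?_ ?_ ?_
    · rintro _ ⟨i, rfl⟩
      exact hFε _
    · rintro _ ⟨i, rfl⟩
      show Algebra.TensorProduct.map _ _ (CoalgebraStruct.comul (R := k) (G i)) = 0
      have h0 : ∀ l, Ideal.Quotient.mkₐ k (Ideal.span (Set.range G)) (G l) = 0 := fun l =>
        Ideal.Quotient.eq_zero_iff_mem.2 (Ideal.subset_span ⟨l, rfl⟩)
      simp only [hGΔ, map_add, map_sum, Algebra.TensorProduct.map_tmul, h0, zero_tmul, tmul_zero,
        Finset.sum_const_zero, add_zero]
    · rintro _ ⟨i, rfl⟩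
      show HopfAlgebraStruct.antipode (R := k) (G i) ∈ Ideal.span (Set.range G)
      rw [eq_neg_of_add_eq_zero_left (hS i)]
      exact Submodule.neg_mem _ (Submodule.sum_mem _ fun l _ => Ideal.mul_mem_left _ _ (Ideal.subset_span ⟨l, rfl⟩))
  · show n₀.ofConv (q a) = 0
    rw [show q a = 0 from Ideal.Quotient.eq_zero_iff_mem.2 ha, map_zero]
  · have hle : J ≤ RingHom.ker h := by
      refine Ideal.span_le.2 ?_
      rintro _ ⟨i, rfl⟩
      show h (G i) = 0
      have hqS : q (HopfAlgebraStruct.antipode (R := k) (G i)) = - p i := by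
        rw [eq_neg_iff_add_eq_zero]
        have h1 := congrArg q (hS i)
        simp only [map_add, map_sum, map_mul, hq, map_zero, ite_mul, _root_.one_mul, zero_mul, Finset.sum_ite_eq,
          Finset.mem_univ, if_true] at h1
        exact h1
      show ((toConv n)⁻¹ * toConv (AlgHom.id k B)).ofConv (G i) = 0
      rw [AlgHom.convMul_apply, hGΔ]
      simp only [map_add, map_sum, Algebra.TensorProduct.lift_tmul, AlgHom.id_apply, hinv, hqS,
        map_neg, hnp, hq, apply_ite n₀.ofConv, map_one, map_zero, ite_mul, _root_.one_mul, zero_mul,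
        _root_.mul_one, Finset.sum_ite_eq, Finset.mem_univ, if_true, neg_add_cancel]
    exact hle ha
  · show _ = toConv n * ((toConv n)⁻¹ * toConv (AlgHom.id k B))
    group

end Groth.Agent.EqTors4.Mostow
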