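import Groth.Agent.Comod33.PrimGen
import Groth.Agent.Comod33.HopfFlat
import Groth.Agent.Comod33.IdentityComp
import Groth.Agent.Comod33.Units
import Groth.Agent.Comod33.UnipotentBC
import Groth.Agent.Comod33.CartierReduced
import Groth.Agent.GIT36.LinRedChar0.UnipSub

/-!
Independent primitive functions of a unipotent group in characteristic zero: they take prescribed
values, faithfully flatly.
-/

universe u

open TensorProduct WithConv
open Groth.Agent.Comod33

noncomputable section

namespace Groth.Agent.EqTors4

variable {k : Type u} [Field k] {H : Type u} [CommRing H] [HopfAlgebra k H]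

theorem counit_prim {x : H} (hx : Diag.IsPrim (k := k) x) :
    CoalgebraStruct.counit (R := k) x = 0 := Diag.counit_prim hx

theorem antipode_prim {x : H} (hx : Diag.IsPrim (k := k) x) :
    HopfAlgebraStruct.antipode (R := k) x = -x := by
  have h := HopfAlgebra.mul_antipode_rTensor_comul_apply (R := k) x
  rw [show CoalgebraStruct.comul (R := k) x = _ from hx, map_add, map_add, LinearMap.rTensor_tmul,
    LinearMap.rTensor_tmul, counit_prim hx, map_zero, LinearMap.mul'_apply, LinearMap.mul'_apply,
    mul_one, HopfAlgebra.antipode_one, one_mul] at h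
  exact eq_neg_of_add_eq_zero_left h

theorem isHopfIdeal_span_prims {ι : Type*} {x : ι → H} (hx : ∀ i, Diag.IsPrim (k := k) (x i)) :
    (Ideal.span (Set.range x)).IsHopfIdeal k := by
  refine IdComp.isHopfIdeal_span _ ?_ ?_ ?_
  · rintro _ ⟨i, rfl⟩; exact counit_prim (hx i)
  · rintro _ ⟨i, rfl⟩
    rw [show CoalgebraStruct.comul (R := k) (x i) = _ from hx i, map_add,
      Algebra.TensorProduct.map_tmul, Algebra.TensorProduct.map_tmul, Ideal.Quotient.mkₐ_eq_mk,
      Ideal.Quotient.eq_zero_iff_mem.2 (Ideal.subset_span (Set.mem_range_self i)), zero_tmul, tmul_zero, add_zero]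
  · rintro _ ⟨i, rfl⟩
    rw [antipode_prim (hx i)]
    exact Submodule.neg_mem _ (Ideal.subset_span ⟨i, rfl⟩)

theorem isSubHopf_adjoin_prims {ι : Type*} {x : ι → H} (hx : ∀ i, Diag.IsPrim (k := k) (x i)) :
    SubHopf.IsSubHopf (Algebra.adjoin k (Set.range x)) := by
  set B := Algebra.adjoin k (Set.range x)
  have hxB : ∀ i, x i ∈ B := fun i => Algebra.subset_adjoin ⟨i, rfl⟩
  refine ⟨?_, ?_⟩
  · intro b hb
    have : B ≤ ((Algebra.TensorProduct.map B.val B.val).range).comap (Bialgebra.comulAlgHom k H) := by
      refine Algebra.adjoin_le ?_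
      rintro _ ⟨i, rfl⟩
      exact ⟨⟨x i, hxB i⟩ ⊗ₜ 1 + 1 ⊗ₜ ⟨x i, hxB i⟩, by
        show Algebra.TensorProduct.map B.val B.val _ = CoalgebraStruct.comul (R := k) (x i)
        rw [show CoalgebraStruct.comul (R := k) (x i) = _ from hx i]; simp⟩
    obtain ⟨z, hz⟩ := this hb
    exact ⟨z, hz⟩
  · intro b hb
    have : B ≤ B.comap (HopfAlgebra.antipodeAlgHom k H) := by
      refine Algebra.adjoin_le ?_
      rintro _ ⟨i, rfl⟩
      show HopfAlgebraStruct.antipode (R := k) (x i) ∈ B
      rw [antipode_prim (hx i)]
      exact B.neg_mem (hxB i)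
    exact this hb

variable [CharZero k] [Algebra.FiniteType k H]

/-- A unipotent group in characteristic zero is integral. -/
theorem isDomain_of_isUnipotent (hU : HopfRep.IsUnipotent k H) : IsDomain H := by
  let K := AlgebraicClosure k
  haveI : CharZero K := charZero_of_injective_algebraMap (algebraMap k K).injective
  have hU' := isUnipotent_baseChange hU K
  haveI : IsReduced (K ⊗[k] H) := Aug.isReduced_of_charZero (k := K)
  haveI : IsDomain (K ⊗[k] H) := Units.isDomain K fun e he =>
    GIT36.LinRedChar0.idem_of_unipotent hU' e he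
  exact Function.Injective.isDomain (Algebra.TensorProduct.includeRight : H →ₐ[k] K ⊗[k] H).toRingHom
    (Algebra.TensorProduct.includeRight_injective (R := k) (algebraMap k K).injective)

/-- linearly independent primitives of a unipotent group are algebraically independent -/
theorem algebraicIndependent_prims (hU : HopfRep.IsUnipotent k H) {ι : Type*} {x : ι → H}
    (hx : ∀ i, Diag.IsPrim (k := k) (x i)) (hli : LinearIndependent k x) :
    AlgebraicIndependent k x := by
  classical
  haveI := isDomain_of_isUnipotent hU
  haveI : IsNoetherianRing H := Algebra.FiniteType.isNoetherianRing k H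
  rw [algebraicIndependent_iff]
  intro p hp
  obtain ⟨s, q, rfl⟩ := MvPolynomial.exists_finset_rename p
  let e := s.equivFin
  have h := PrimGen.algebraicIndependent (k := k) (x := fun i : Fin s.card => x (e.symm i).1)
    (fun i => hx _) (hli.comp _ (Subtype.val_injective.comp e.symm.injective))
  have h2 : MvPolynomial.rename e q = 0 := algebraicIndependent_iff.1 h _ (by
    rw [MvPolynomial.aeval_rename]
    rw [MvPolynomial.aeval_rename] at hp
    convert hp using 3
    funext i
    simp)
  have h3 : q = 0 := MvPolynomial.rename_injective e e.injective (by rw [h2, map_zero])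
  rw [h3, map_zero]

/-- Independent primitive functions take any values, after a nonzero extension. -/
theorem exists_point_prims (hU : HopfRep.IsUnipotent k H) {ι : Type*} {x : ι → H}
    (hx : ∀ i, Diag.IsPrim (k := k) (x i)) (hli : LinearIndependent k x)
    {A : Type u} [CommRing A] [Algebra k A] [Nontrivial A] (c : ι → A) :
    ∃ (B : Type u) (_ : CommRing B) (_ : Algebra k B) (_ : Nontrivial B) (p : A →ₐ[k] B) (u : H →ₐ[k] B),
      ∀ i, u (x i) = p (c i) := by
  have hai := algebraicIndependent_prims hU hx hli
  let S := Algebra.adjoin k (Set.range x)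
  haveI : Module.FaithfullyFlat S H := HopfFlat.faithfullyFlat_of_isSubHopf (isSubHopf_adjoin_prims hx)
  let e : S →ₐ[k] A := (MvPolynomial.aeval c).comp hai.aevalEquiv.symm.toAlgHom
  letI : Algebra S A := e.toRingHom.toAlgebra
  haveI : IsScalarTower k S A := IsScalarTower.of_algHom e
  haveI : Nontrivial (A ⊗[S] H) := Module.FaithfullyFlat.rTensor_nontrivial S H A
  refine ⟨A ⊗[S] H, inferInstance, inferInstance, inferInstance,
    (Algebra.TensorProduct.includeLeft : A →ₐ[S] A ⊗[S] H).restrictScalars k,
    (Algebra.TensorProduct.includeRight : H →ₐ[S] A ⊗[S] H).restrictScalars k, fun i => ?_⟩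
  let s : S := ⟨x i, Algebra.subset_adjoin ⟨i, rfl⟩⟩
  have he : e s = c i := by
    have : hai.aevalEquiv.symm s = MvPolynomial.X i := by
      apply hai.aevalEquiv.injective
      rw [AlgEquiv.apply_symm_apply]
      exact Subtype.ext (by simp [s])
    show MvPolynomial.aeval c (hai.aevalEquiv.symm s) = c i
    rw [this, MvPolynomial.aeval_X]
  show (1 : A) ⊗ₜ[S] (x i) = c i ⊗ₜ[S] (1 : H)
  rw [show x i = s • (1 : H) by rw [Algebra.smul_def, mul_one]; rfl, ← smul_tmul,
    show s • (1 : A) = c i by rw [Algebra.smul_def, mul_one]; exact he]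

end Groth.Agent.EqTors4
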