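import Groth.Agent.RedPts82.Extension
import Groth.Agent.AlgGrp79.Homogeneous
import Groth.Agent.Unr55.DescProps
import Groth.Agent.SpFP87.Reduced
import Groth.Agent.S0353

/-!
Quotients by a subgroup, decomposed along a normal subgroup.
-/

set_option autoImplicit false

universe u

open CategoryTheory CategoryTheory.Limits MonoidalCategory CartesianMonoidalCategory MonObj GrpObj AlgebraicGeometry
open Groth.Agent.RedPts82

noncomputable section

namespace Groth.Agent.EqTors4.QuotExt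

variable {S : Scheme.{u}} {G G' G₀ G₀' G₁ G₁' Q Qa Qb : Over S}
  [GrpObj G] [GrpObj G'] [GrpObj G₀] [GrpObj G₀'] [GrpObj G₁] [GrpObj G₁']
  {i' : G' ⟶ G} [IsMonHom i'] {i₀ : G₀ ⟶ G} [IsMonHom i₀] {j : G₀' ⟶ G₀} {j' : G₀' ⟶ G'}
  {q₁ : G ⟶ G₁} [IsMonHom q₁] {i₁' : G₁' ⟶ G₁} {p : G' ⟶ G₁'}
  {qa : G₀ ⟶ Qa} {qb : G₁ ⟶ Qb} {q : G ⟶ Q}

/-- the quotient by a subgroup is, locally on the smaller quotient, the quotient of the normal piece -/
theorem exists_isPullback (hn : AlgGrp.IsNormalHom i₀) (hq₁ : RedSub.IsQuotient i₀ q₁)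
    (hj : IsPullback j j' i₀ i') (hp : p ≫ i₁' = i' ≫ q₁) (hpc : Cov p)
    (hqa : RedSub.IsQuotient j qa) (hqb : RedSub.IsQuotient i₁' qb) (hq : RedSub.IsQuotient i' q) :
    ∃ (Φ : G ⊗ Qa ⟶ Q) (π : Q ⟶ Qb), q ≫ π = q₁ ≫ qb ∧ IsPullback (fst G Qa) Φ (q₁ ≫ qb) π := by
  obtain ⟨π, hπ, -⟩ := desc_quotient hq (q₁ ≫ qb) fun X g h => by
    rw [← Category.assoc, ← Category.assoc, MonObj.mul_comp, Category.assoc h i' q₁, ← hp,
      ← Category.assoc h p i₁', comp_mul_right hqb]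
  have hca : Cov (G ◁ qa) := (cov_of_isQuotient hqa).whiskerLeft G
  obtain ⟨Φ, hΦ, -⟩ := hca.desc ((fst G G₀ * (snd G G₀ ≫ i₀)) ≫ q) fun W a b hab => by
    have h1 : a ≫ fst G G₀ = b ≫ fst G G₀ := by simpa using congrArg (· ≫ fst G Qa) hab
    have h2 : (a ≫ snd G G₀) ≫ qa = (b ≫ snd G G₀) ≫ qa := by simpa using congrArg (· ≫ snd G Qa) hab
    obtain ⟨k, hk⟩ := exists_eq_mul_of_comp_eq hqa h2
    rw [← Category.assoc, ← Category.assoc, MonObj.comp_mul, MonObj.comp_mul, ← Category.assoc a,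
      ← Category.assoc b, h1, hk, MonObj.mul_comp _ _ i₀, Category.assoc k j i₀, hj.w,
      ← Category.assoc k j' i', ← _root_.mul_assoc, comp_mul_right hq]
  have formula : ∀ (T : Over S) (g : T ⟶ G) (n : T ⟶ G₀),
      lift g (n ≫ qa) ≫ Φ = (g * (n ≫ i₀)) ≫ q := fun T g n => by
    rw [← lift_whiskerLeft g n qa, Category.assoc, hΦ, ← Category.assoc, MonObj.comp_mul, lift_fst,
      ← Category.assoc, lift_snd]
  have hw : fst G Qa ≫ q₁ ≫ qb = Φ ≫ π := by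
    haveI := hca.epi
    rw [← cancel_epi (G ◁ qa), ← Category.assoc (G ◁ qa) Φ, hΦ, Category.assoc, hπ, whiskerLeft_fst_assoc,
      ← Category.assoc _ q₁ qb, ← Category.assoc _ q₁ qb, comp_mul_right hq₁]
  -- the pair determines the point
  have huniq : ∀ (T : Over S) (w w' : T ⟶ G ⊗ Qa), w ≫ fst G Qa = w' ≫ fst G Qa → w ≫ Φ = w' ≫ Φ → w = w' := by
    intro T w w' h1 h2
    obtain ⟨T₁, π₁, n₁, hπ₁, hn₁⟩ := exists_lift_cover (cov_of_isQuotient hqa) (w ≫ snd G Qa)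
    obtain ⟨T₂, π₂, n₂, hπ₂, hn₂⟩ := exists_lift_cover (cov_of_isQuotient hqa) (π₁ ≫ w' ≫ snd G Qa)
    haveI := (hπ₂.comp hπ₁).epi
    rw [← cancel_epi (π₂ ≫ π₁)]
    set g := (π₂ ≫ π₁) ≫ w ≫ fst G Qa with hg
    have e1 : (π₂ ≫ π₁) ≫ w = lift g ((π₂ ≫ n₁) ≫ qa) := by
      apply CartesianMonoidalCategory.hom_ext <;> simp [hg, hn₁]
    have e2 : (π₂ ≫ π₁) ≫ w' = lift g (n₂ ≫ qa) := by
      apply CartesianMonoidalCategory.hom_ext <;> simp [hg, hn₂, h1]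
    have h3 : ((π₂ ≫ π₁) ≫ w) ≫ Φ = ((π₂ ≫ π₁) ≫ w') ≫ Φ := by simp only [Category.assoc, h2]
    rw [e1, e2, formula, formula] at h3
    obtain ⟨h, hh⟩ := exists_eq_mul_of_comp_eq hq h3
    rw [_root_.mul_assoc, mul_left_cancel_iff] at hh
    have h4 : ((π₂ ≫ n₁)⁻¹ * n₂) ≫ i₀ = h ≫ i' := by
      rw [MonObj.mul_comp, GrpObj.inv_comp, hh, inv_mul_cancel_left]
    obtain ⟨k, hk, -⟩ := hj.exists_lift _ _ h4
    rw [e1, e2, show n₂ = (π₂ ≫ n₁) * (k ≫ j) by rw [hk, mul_inv_cancel_left], comp_mul_right hqa]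
  -- every pair lifts locally
  have hloc : ∀ (T : Over S) (a : T ⟶ G) (b : T ⟶ Q), a ≫ q₁ ≫ qb = b ≫ π →
      ∃ (T' : Over S) (d : T' ⟶ T) (w : T' ⟶ G ⊗ Qa), Cov d ∧ w ≫ fst G Qa = d ≫ a ∧ w ≫ Φ = d ≫ b := by
    intro T a b hab
    obtain ⟨T₁, π₁, g', hπ₁, hg'⟩ := exists_lift_cover (cov_of_isQuotient hq) b
    have h1 : ((π₁ ≫ a) ≫ q₁) ≫ qb = (g' ≫ q₁) ≫ qb := by
      rw [Category.assoc _ q₁ qb, Category.assoc π₁, hab, Category.assoc g' q₁ qb, ← hπ, ← Category.assoc g',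
        hg', Category.assoc]
    obtain ⟨h₁, hh₁⟩ := exists_eq_mul_of_comp_eq hqb h1
    obtain ⟨T₂, π₂, h', hπ₂, hh'⟩ := exists_lift_cover hpc h₁
    set A := (π₂ ≫ π₁) ≫ a with hA
    have h2 : (A * (h' ≫ i')) ≫ q₁ = (π₂ ≫ g') ≫ q₁ := by
      rw [MonObj.mul_comp, Category.assoc h', ← hp, ← Category.assoc h', hh', Category.assoc π₂ g' q₁, hh₁,
        MonObj.comp_mul, hA]
      simp only [Category.assoc]
    obtain ⟨m, hm⟩ := exists_eq_mul_of_comp_eq hq₁ h2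
    obtain ⟨m', hm'⟩ := hn T₂ (h' ≫ i') m
    refine ⟨T₂, π₂ ≫ π₁, lift A (m' ≫ qa), hπ₂.comp hπ₁, by rw [lift_fst], ?_⟩
    rw [formula, Category.assoc π₂ π₁ b, ← hg', ← Category.assoc π₂ g' q, hm,
      show A * (h' ≫ i') * (m ≫ i₀) = A * (m' ≫ i₀) * (h' ≫ i') by rw [← hm']; group,
      comp_mul_right hq]
  have hex : ∀ (T : Over S) (a : T ⟶ G) (b : T ⟶ Q), a ≫ q₁ ≫ qb = b ≫ π →
      ∃ w : T ⟶ G ⊗ Qa, w ≫ fst G Qa = a ∧ w ≫ Φ = b := by
    intro T a b hab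
    obtain ⟨T', d, w, hd, hw1, hw2⟩ := hloc T a b hab
    obtain ⟨v, hv, -⟩ := hd.desc w fun W x y hxy => huniq W _ _
      (by simp only [Category.assoc, hw1, reassoc_of% hxy])
      (by simp only [Category.assoc, hw2, reassoc_of% hxy])
    haveI := hd.epi
    exact ⟨v, by rw [← cancel_epi d, ← Category.assoc, hv, hw1], by rw [← cancel_epi d, ← Category.assoc, hv, hw2]⟩
  refine ⟨Φ, π, hπ, ⟨⟨hw⟩, ⟨PullbackCone.IsLimit.mk _ (fun c => (hex c.pt c.fst c.snd c.condition).choose)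
    (fun c => (hex c.pt c.fst c.snd c.condition).choose_spec.1)
    (fun c => (hex c.pt c.fst c.snd c.condition).choose_spec.2) (fun c m h1 h2 => huniq _ _ _ ?_ ?_)⟩⟩⟩
  · exact h1.trans (hex c.pt c.fst c.snd c.condition).choose_spec.1.symm
  · exact h2.trans (hex c.pt c.fst c.snd c.condition).choose_spec.2.symm

section Field

variable {k : Type u} [Field k] [CharZero k]

theorem isReduced_of_grpObj (H : Over (Spec (CommRingCat.of k))) [GrpObj H] [LocallyOfFiniteType H.hom] :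
    IsReduced H.left := by
  haveI : Smooth H.hom := S0353.result k H
  exact SpFP87.isReduced_of_smooth H.hom

/-- a surjection of groups is a cover -/
theorem cov_of_surjective {G H : Over (Spec (CommRingCat.of k))} [GrpObj G] [GrpObj H]
    [LocallyOfFiniteType G.hom] [QuasiCompact G.hom] [LocallyOfFiniteType H.hom] (φ : G ⟶ H) [IsMonHom φ]
    (hs : Surjective φ.left) : Cov φ := by
  haveI := hs
  haveI := isReduced_of_grpObj H
  haveI : IsLocallyNoetherian H.left := LocallyOfFiniteType.isLocallyNoetherian H.hom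
  haveI : LocallyOfFiniteType φ.left := by
    haveI : LocallyOfFiniteType (φ.left ≫ H.hom) := by rw [Over.w]; infer_instance
    exact locallyOfFiniteType_of_comp φ.left H.hom
  exact ⟨hs, AlgGrp79.flat_of_surjective_hom φ, LocallyOfFinitePresentation.iff_locallyOfFiniteType.2 inferInstance⟩

end Field

end Groth.Agent.EqTors4.QuotExt
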