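import Groth.Agent.Comod33.QuotAffine

/-!
Quotients with a total integral are affine.
-/

universe u

open CategoryTheory MonoidalCategory CartesianMonoidalCategory AlgebraicGeometry TensorProduct Opposite

noncomputable section

namespace Groth.Agent.EqTors4.QuotInt

open CoactBr MonObj
open Groth.Agent.Comod33 Groth.Agent.Comod33.QuotAff

local instance (R : Type u) [CommRing R] : (algSpec (CommRingCat.of R)).Braided := braidedAlgSpec

variable {k : Type u} [Field k] {AG AH : Type u} [CommRing AG] [HopfAlgebra k AG]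
  [CommRing AH] [HopfAlgebra k AH] (ψ : AG →ₐc[k] AH)

/-- the quotient is affine as soon as there is a total integral -/
theorem isAffine_of_totalIntegral
    (hint : letI := comod ψ; ∃ α : AH →ₗ[k] AG, Hoch.IsComodHom AH α ∧ α 1 = 1)
    (Q : Over (Spec (CommRingCat.of k))) (q : sp k AG ⟶ Q)
    (hq : RedSub.IsQuotient (pt (ψ : AG →ₐ[k] AH)) q) : IsAffine Q.left := by
  letI := comod ψ
  letI := isCoactAlg ψ
  obtain ⟨α, hα, hα1⟩ := hint
  have hsurj := Groth.Agent.S12922.result k AH AG ⟨α, hα, hα1⟩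
  let C := GLin.invariants k AH AG
  let f : Spec (CommRingCat.of AG) ⟶ Spec (CommRingCat.of C) :=
    Spec.map (CommRingCat.ofHom (algebraMap C AG))
  have hf : Spec.map (CommRingCat.ofHom (GLin.coactAlgHom k AH AG).toRingHom) ≫ f =
      Spec.map (CommRingCat.ofHom
        (Algebra.TensorProduct.includeLeftRingHom : AG →+* AG ⊗[k] AH)) ≫ f := by
    rw [← Spec.map_comp, ← Spec.map_comp, ← CommRingCat.ofHom_comp, ← CommRingCat.ofHom_comp]
    congr 2
    exact RingHom.ext fun c => c.2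
  obtain ⟨χ, hχ, -⟩ := CatQuot.existsUnique_desc hα hα1 hsurj q.left (invariant ψ q hq)
  obtain ⟨χ₀, -, huniq⟩ := CatQuot.existsUnique_desc hα hα1 hsurj f hf
  haveI := hq.1
  haveI := hq.2.1
  haveI := hq.2.2.1
  haveI : EffectiveEpi q.left := inferInstance
  let q' : Spec (CommRingCat.of AG) ⟶ Q.left := q.left
  haveI : EffectiveEpi q' := ‹EffectiveEpi q.left›
  have hF : pt (Algebra.TensorProduct.includeLeft : AG →ₐ[k] AG ⊗[k] AH) ≫ pt C.val =
      pt ((Algebra.TensorProduct.map (AlgHom.id k AG) (ψ : AG →ₐ[k] AH)).comp (Bialgebra.comulAlgHom k AG)) ≫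
        pt C.val := by
    rw [← pt_comp, ← pt_comp]
    congr 1
    exact AlgHom.ext fun c => c.2.symm
  have hdesc : ∀ {Z : Scheme.{u}} (g₁ g₂ : Z ⟶ Spec (CommRingCat.of AG)), g₁ ≫ q' = g₂ ≫ q' → g₁ ≫ f = g₂ ≫ f :=
    fun g₁ g₂ h12 => comp_eq_of_comp_eq ψ q hq (pt C.val) hF g₁ g₂ h12
  let d : Q.left ⟶ Spec (CommRingCat.of C) := EffectiveEpi.desc q' f hdesc
  have hd : q' ≫ d = f := EffectiveEpi.fac q' f hdesc
  have hχ' : f ≫ χ = q' := hχ
  have h1 : χ ≫ d = 𝟙 _ := by
    have e1 : f ≫ χ ≫ d = f := by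
      rw [← Category.assoc, hχ', hd]
    exact (huniq _ e1).trans (huniq _ (Category.comp_id f)).symm
  have h2 : d ≫ χ = 𝟙 _ := by
    rw [← cancel_epi q', ← Category.assoc, hd, hχ', Category.comp_id]
  let e : Q.left ≅ Spec (CommRingCat.of C) := ⟨d, χ, h2, h1⟩
  exact @IsAffine.of_isIso _ _ e.hom (Iso.isIso_hom e) _

end Groth.Agent.EqTors4.QuotInt
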