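import Groth.Agent.EqTors4.UnipRetr
import Groth.Agent.EqTors4.QuotInt

/-!
Quotients by subgroups whose unipotent radical lies in the ambient one are affine, in characteristic zero.
-/

set_option autoImplicit false
set_option linter.style.haveILetI false

universe u

open CategoryTheory CategoryTheory.Limits MonoidalCategory CartesianMonoidalCategory MonObj GrpObj AlgebraicGeometry
open scoped TensorProduct
open WithConv TensorProduct Groth.Agent.Comod33

set_option backward.isDefEq.respectTransparency false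
set_option backward.isDefEq.respectTransparency.types false

noncomputable section

namespace Groth.Agent.EqTors4.QuotInt

section Cat

variable {S : Scheme.{u}} {G G' L' U' : Over S} [GrpObj G] [GrpObj G'] [GrpObj L'] [GrpObj U']
  (u' : U' ⟶ G') (l' : L' ⟶ G') (i' : G' ⟶ G) (ρ : G ⟶ U')

/-- the family of subgroup elements to be averaged -/
def Xf {T : Over S} (g : T ⟶ G) (l : T ⟶ L') : T ⟶ G' :=
  (((g * ((l⁻¹ ≫ l') ≫ i')) ≫ ρ) ≫ u') * (l ≫ l')

theorem comp_Xf {T T' : Over S} (φ : T' ⟶ T) (g : T ⟶ G) (l : T ⟶ L') :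
    φ ≫ Xf u' l' i' ρ g l = Xf u' l' i' ρ (φ ≫ g) (φ ≫ l) := by
  rw [Xf, Xf, MonObj.comp_mul, ← Category.assoc φ, ← Category.assoc φ, MonObj.comp_mul, ← Category.assoc φ,
    ← Category.assoc φ, GrpObj.comp_inv, ← Category.assoc φ]

variable [IsMonHom u'] [IsMonHom l'] [IsMonHom i']

theorem Xf_mul [IsIso ((l' ⊗ₘ u') ≫ μ[G'])] (hn : AlgGrp.IsNormalHom u')
    (hρ : ∀ (T : Over S) (x : T ⟶ G) (w : T ⟶ U'), (x * ((w ≫ u') ≫ i')) ≫ ρ = (x ≫ ρ) * w)
    {T : Over S} (g : T ⟶ G) (l : T ⟶ L') (h : T ⟶ G') :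
    Xf u' l' i' ρ (g * (h ≫ i')) l = Xf u' l' i' ρ g (l * (h ≫ Levi.proj u' l')⁻¹) * h := by
  set m := h ≫ Levi.proj u' l' with hm
  set w := h ≫ Levi.proj' u' l' with hw
  have hd : (m ≫ l') * (w ≫ u') = h := by simpa [hm, hw] using Levi.decomp u' l' h
  obtain ⟨w', hw'⟩ := hn T (l ≫ l') w
  set n := l * m⁻¹ with hn'
  have e1 : h * (l⁻¹ ≫ l') = (n⁻¹ ≫ l') * (w' ≫ u') := by
    rw [← hw', ← hd, hn', GrpObj.inv_comp, GrpObj.inv_comp, MonObj.mul_comp, GrpObj.inv_comp]
    group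
  have e2 : g * (h ≫ i') * ((l⁻¹ ≫ l') ≫ i') = g * ((n⁻¹ ≫ l') ≫ i') * ((w' ≫ u') ≫ i') := by
    rw [_root_.mul_assoc, ← MonObj.mul_comp, e1, MonObj.mul_comp, _root_.mul_assoc]
  have e3 : (w' ≫ u') * (l ≫ l') = (n ≫ l') * h := by
    rw [← hw', ← hd, hn', MonObj.mul_comp, GrpObj.inv_comp]
    group
  rw [Xf, Xf, e2, hρ, MonObj.mul_comp, _root_.mul_assoc, e3, _root_.mul_assoc]

end Cat

variable {k : Type u} [Field k] [CharZero k]
variable {G G' U U' : Over (Spec (CommRingCat.of k))} [GrpObj G] [GrpObj G'] [GrpObj U] [GrpObj U']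
  [IsAffine G.left] [LocallyOfFiniteType G.hom]

/-- a right equivariant retraction of the group onto the small unipotent radical -/
theorem exists_rho (u : U ⟶ G) (hU : Par.IsUnipotentRadical u) (i' : G' ⟶ G) [IsMonHom i']
    [IsClosedImmersion i'.left] (u' : U' ⟶ G') [IsMonHom u'] [IsClosedImmersion u'.left] (f : U' ⟶ U)
    (hf : f ≫ u = u' ≫ i') :
    ∃ ρ : G ⟶ U', ∀ (T : Over (Spec (CommRingCat.of k))) (x : T ⟶ G) (w : T ⟶ U'),
      (x * ((w ≫ u') ≫ i')) ≫ ρ = (x ≫ ρ) * w := by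
  obtain ⟨L, _, l, hl, -, hiso⟩ := Mostow.exists_levi u hU
  haveI := hl
  haveI := hiso
  obtain ⟨hu, hcl, hn, hsm, -, hgeo, -⟩ := hU
  haveI := hu
  haveI := hcl
  haveI := hsm
  haveI : IsAffine U.left := isAffine_of_isAffineHom u.left
  haveI : Mono u.left := inferInstance
  haveI : Mono u := Over.mono_of_mono_left u
  haveI : IsMonHom f :=
    { one_hom := by rw [← cancel_mono u, Category.assoc, hf, ← Category.assoc, IsMonHom.one_hom,
        IsMonHom.one_hom, IsMonHom.one_hom]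
      mul_hom := by
        rw [← cancel_mono u, Category.assoc, Category.assoc, hf, ← Category.assoc, IsMonHom.mul_hom,
          Category.assoc, IsMonHom.mul_hom, IsMonHom.mul_hom, ← Category.assoc, ← Category.assoc,
          tensorHom_comp_tensorHom, tensorHom_comp_tensorHom, hf] }
  haveI : IsClosedImmersion f.left := by
    haveI : IsClosedImmersion (f.left ≫ u.left) := by
      rw [← Over.comp_left, hf, Over.comp_left]; infer_instance
    exact IsClosedImmersion.of_comp_isClosedImmersion f.left u.left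
  obtain ⟨s⟩ : Nonempty ↥(Spec (CommRingCat.of k)) := inferInstanceAs (Nonempty (PrimeSpectrum k))
  obtain ⟨hconn, hno⟩ := hgeo s
  haveI : ConnectedSpace U.left := connectedSpace_of_geomFibre s U hconn
  obtain ⟨H, _, _, φ, hφ⟩ := GMod80.exists_coord U
  haveI := hφ
  obtain ⟨r, hr⟩ := Mostow.exists_retraction_sch φ (isUnipotent_coord φ s hno) f
  refine ⟨((Levi.proj' u l)⁻¹ ≫ r)⁻¹, fun T x w => ?_⟩
  have hp : (x * ((w ≫ u') ≫ i')) ≫ Levi.proj' u l = (x ≫ Levi.proj' u l) * (w ≫ f) := by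
    have hd : ((x ≫ Levi.proj u l) ≫ l) * ((x ≫ Levi.proj' u l) ≫ u) = x := by
      simpa using Levi.decomp u l x
    conv_lhs => rw [← hd, Category.assoc w u' i', ← hf, ← Category.assoc w f u, _root_.mul_assoc, ← MonObj.mul_comp,
      ← Levi.lift_mu u l, Levi.proj', Category.assoc, IsIso.hom_inv_id_assoc, lift_snd]
    rfl
  rw [GrpObj.comp_inv, GrpObj.comp_inv, ← Category.assoc, ← Category.assoc, GrpObj.comp_inv, GrpObj.comp_inv, hp,
    _root_.mul_inv_rev, ← GrpObj.inv_comp w f, hr, _root_.mul_inv_rev, _root_.inv_inv]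

/-- the quotient is affine -/
theorem isAffine_quotient (i' : G' ⟶ G) [IsMonHom i'] (hi' : IsClosedImmersion i'.left)
    (u : U ⟶ G) (hU : Par.IsUnipotentRadical u) (u' : U' ⟶ G') (hU' : Par.IsUnipotentRadical u')
    (f : U' ⟶ U) (hf : f ≫ u = u' ≫ i')
    (Q : Over (Spec (CommRingCat.of k))) (q : G ⟶ Q) (hq : RedSub.IsQuotient i' q) :
    IsAffine Q.left := by
  haveI : IsAffine G'.left := isAffine_of_isAffineHom i'.left
  haveI : LocallyOfFiniteType G'.hom := by rw [← Over.w i']; infer_instance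
  obtain ⟨L', _, l', hl', hl'cl, hiso'⟩ := Mostow.exists_levi u' hU'
  haveI := hl'
  haveI := hiso'
  obtain ⟨B, _, _, _, ψL, hψL, hLR⟩ := Levi.exists_coord_linRed u' hU' l' hiso'
  haveI := hψL
  obtain ⟨hu', hcl', hn', -⟩ := hU'
  haveI := hu'
  haveI := hcl'
  obtain ⟨ρ, hρ⟩ := exists_rho u hU i' u' f hf
  obtain ⟨A, _, _, ψG, hψG⟩ := GMod80.exists_coord G
  obtain ⟨C, _, _, ψH, hψH⟩ := GMod80.exists_coord G'
  let ψ : A →ₐc[k] C := GMod80.pullBialg ψG ψH i'
  -- transport the quotient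
  have hpt : CoactBr.pt (ψ : A →ₐ[k] C) ≫ ψG.hom = ψH.hom ≫ i' := by
    have h := GMod80.e_comp ψG ψH i' (toConv (AlgHom.id k C))
    rw [GMod80.e_id, ofConv_toConv, AlgHom.id_comp] at h
    rw [h, show toConv (GMod80.pull ψG ψH i') =
      toConv ((ψ : A →ₐ[k] C).comp (toConv (AlgHom.id k A)).ofConv) from rfl, ← GMod80.e_natural, GMod80.e_id]
    rfl
  have hq' : RedSub.IsQuotient (CoactBr.pt (ψ : A →ₐ[k] C)) (ψG.hom ≫ q) := by
    obtain ⟨h1, h2, h3, h4⟩ := hq
    haveI := h1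
    haveI := h2
    haveI := h3
    haveI : IsIso ψG.hom.left := ((Over.forget _).mapIso ψG).isIso_hom
    refine ⟨?_, ?_, ?_, ?_⟩
    · rw [Over.comp_left]; infer_instance
    · rw [Over.comp_left]; infer_instance
    · rw [Over.comp_left]; infer_instance
    · refine h4.of_iso (ψG.symm ⊗ᵢ ψH.symm) ψG.symm ψG.symm (Iso.refl Q) ?_ ?_ ?_ ?_
      · simp
      · rw [← cancel_mono ψG.hom]
        simp only [Iso.symm_hom, MonoidalCategory.tensorIso_hom, Category.assoc, Iso.inv_hom_id, Category.comp_id]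
        rw [IsMonHom.mul_hom ψG.hom, ← Category.assoc (_ ◁ _), ← id_tensorHom, ← id_tensorHom,
          tensorHom_comp_tensorHom, ← Category.assoc _ _ μ[G], tensorHom_comp_tensorHom, Category.id_comp,
          Iso.inv_hom_id, hpt, Iso.inv_hom_id_assoc]
      · simp
      · simp
  refine QuotInt.isAffine_of_totalIntegral ψ ?_ Q _ hq'
  -- the integral
  obtain ⟨J, hJ1, hJ⟩ := Quot.exists_invariant_functional hLR
  letI := QuotAff.comod ψ
  let π := Levi.proj u' l'
  let gA : A →ₐ[k] (A ⊗[k] B) := Algebra.TensorProduct.includeLeft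
  let lB : B →ₐ[k] (A ⊗[k] B) := Algebra.TensorProduct.includeRight
  let g₀ := GMod80.e ψG (A ⊗[k] B) (toConv gA)
  let l₀ := GMod80.e ψL (A ⊗[k] B) (toConv lB)
  obtain ⟨Φ, hΦ⟩ := (GMod80.e ψH (A ⊗[k] B)).surjective (Xf u' l' i' ρ g₀ l₀)
  let jR : (A ⊗[k] B) →ₐ[k] ((A ⊗[k] B) ⊗[k] C) := Algebra.TensorProduct.includeLeft
  let hC : WithConv (C →ₐ[k] ((A ⊗[k] B) ⊗[k] C)) := toConv Algebra.TensorProduct.includeRight
  let h₁ := GMod80.e ψH ((A ⊗[k] B) ⊗[k] C) hC
  obtain ⟨mR, hmR⟩ := (GMod80.e ψL ((A ⊗[k] B) ⊗[k] C)).surjective (h₁ ≫ π)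
  let gh : WithConv (A →ₐ[k] ((A ⊗[k] B) ⊗[k] C)) := toConv (jR.comp gA) * toConv (hC.ofConv.comp (ψ : A →ₐ[k] C))
  let lR : B →ₐ[k] ((A ⊗[k] B) ⊗[k] C) := jR.comp lB
  let σ : (A ⊗[k] B) →ₐ[k] ((A ⊗[k] B) ⊗[k] C) := Algebra.TensorProduct.lift gh.ofConv lR fun _ _ => Commute.all _ _
  let nR : WithConv (B →ₐ[k] ((A ⊗[k] B) ⊗[k] C)) := toConv lR * mR⁻¹
  let Θ : ((A ⊗[k] B) ⊗[k] C) →ₐ[k] ((A ⊗[k] B) ⊗[k] C) := Algebra.TensorProduct.lift
    (Algebra.TensorProduct.lift (jR.comp gA) nR.ofConv fun _ _ => Commute.all _ _)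
    hC.ofConv fun _ _ => Commute.all _ _
  let rhs : WithConv (C →ₐ[k] ((A ⊗[k] B) ⊗[k] C)) := toConv (jR.comp Φ.ofConv) * hC
  have ep : ∀ {P : Type u} [CommRing P] [Algebra k P] (φ : (A ⊗[k] B) →ₐ[k] P),
      VecGrp.ptMap φ ≫ Xf u' l' i' ρ g₀ l₀ =
        Xf u' l' i' ρ (GMod80.e ψG P (toConv (φ.comp gA))) (GMod80.e ψL P (toConv (φ.comp lB))) := fun φ => by
    rw [comp_Xf]
    exact congrArg₂ (Xf u' l' i' ρ) (GMod80.e_natural ψG φ (toConv gA)) (GMod80.e_natural ψL φ (toConv lB))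
  have key : σ.comp Φ.ofConv = Θ.comp rhs.ofConv := by
    suffices hk : GMod80.e ψH ((A ⊗[k] B) ⊗[k] C) (toConv (σ.comp Φ.ofConv)) = GMod80.e ψH ((A ⊗[k] B) ⊗[k] C) (toConv (Θ.comp rhs.ofConv)) from
      congrArg WithConv.ofConv ((GMod80.e ψH ((A ⊗[k] B) ⊗[k] C)).injective hk)
    rw [← GMod80.e_natural, ← GMod80.e_natural, hΦ, ep, map_mul (GMod80.e ψH ((A ⊗[k] B) ⊗[k] C)), MonObj.comp_mul,
      GMod80.e_natural ψH Θ, ofConv_toConv, ← AlgHom.comp_assoc, ← GMod80.e_natural ψH (Θ.comp jR) Φ, hΦ, ep,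
      GMod80.e_natural ψH Θ hC]
    have eσ1 : σ.comp gA = gh.ofConv := Algebra.TensorProduct.lift_comp_includeLeft _ _ fun _ _ => Commute.all _ _
    have eσ2 : σ.comp lB = lR := Algebra.TensorProduct.lift_comp_includeRight _ _ fun _ _ => Commute.all _ _
    have eΘ1 : (Θ.comp jR).comp gA = jR.comp gA := by
      rw [show Θ.comp jR = _ from Algebra.TensorProduct.lift_comp_includeLeft _ _ fun _ _ => Commute.all _ _]
      exact Algebra.TensorProduct.lift_comp_includeLeft _ _ fun _ _ => Commute.all _ _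
    have eΘ2 : (Θ.comp jR).comp lB = nR.ofConv := by
      rw [show Θ.comp jR = _ from Algebra.TensorProduct.lift_comp_includeLeft _ _ fun _ _ => Commute.all _ _]
      exact Algebra.TensorProduct.lift_comp_includeRight _ _ fun _ _ => Commute.all _ _
    have eΘ3 : Θ.comp hC.ofConv = hC.ofConv := Algebra.TensorProduct.lift_comp_includeRight _ _ fun _ _ => Commute.all _ _
    rw [eσ1, eσ2, eΘ1, eΘ2, eΘ3, toConv_ofConv, toConv_ofConv, toConv_ofConv]
    have e1 : GMod80.e ψG ((A ⊗[k] B) ⊗[k] C) gh = GMod80.e ψG ((A ⊗[k] B) ⊗[k] C) (toConv (jR.comp gA)) * (h₁ ≫ i') := by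
      rw [map_mul, GMod80.e_comp ψG ψH i' hC]
      rfl
    have e2 : GMod80.e ψL ((A ⊗[k] B) ⊗[k] C) nR = GMod80.e ψL ((A ⊗[k] B) ⊗[k] C) (toConv lR) * (h₁ ≫ π)⁻¹ := by
      rw [map_mul, show GMod80.e ψL _ mR⁻¹ = (GMod80.e ψL _ mR)⁻¹ from map_inv (GMod80.e ψL _) mR, hmR]
    rw [e1, e2]
    exact Xf_mul u' l' i' ρ hn' hρ _ _ _
  let E : (A ⊗[k] B) →ₗ[k] A := (TensorProduct.rid k A).toLinearMap ∘ₗ J.lTensor A
  refine ⟨E ∘ₗ Φ.ofConv.toLinearMap, LinearMap.ext fun c => ?_, ?_⟩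
  swap
  · show E (Φ.ofConv 1) = 1
    rw [map_one, Algebra.TensorProduct.one_def]
    simp [E, hJ1]
  show (QuotAff.comod ψ).coact (E (Φ.ofConv c)) =
    (E ∘ₗ Φ.ofConv.toLinearMap).rTensor C (CoalgebraStruct.comul (R := k) c)
  let E' : ((A ⊗[k] B) ⊗[k] C) →ₗ[k] A ⊗[k] C := E.rTensor C
  have hσ : ∀ z : (A ⊗[k] B), (QuotAff.comod ψ).coact (E z) = E' (σ z) := by
    intro z
    induction z using TensorProduct.induction_on with
    | zero => simp
    | add x y hx hy => simp only [map_add, hx, hy]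
    | tmul a b =>
      have h1 : gh.ofConv a = Algebra.TensorProduct.map gA (AlgHom.id k C)
          (Algebra.TensorProduct.map (AlgHom.id k A) (ψ : A →ₐ[k] C) (CoalgebraStruct.comul (R := k) a)) := by
        rw [AlgHom.convMul_apply]
        generalize CoalgebraStruct.comul (R := k) a = t
        induction t using TensorProduct.induction_on with
        | zero => simp
        | add x y hx hy => simp only [map_add, hx, hy]
        | tmul x y => simp [jR, gA, hC]
      show (QuotAff.comod ψ).coact (E (a ⊗ₜ[k] b)) = E' (gh.ofConv a * lR b)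
      rw [show E (a ⊗ₜ[k] b) = J b • a by simp [E], map_smul, QuotAff.coact_eq, h1]
      generalize Algebra.TensorProduct.map (AlgHom.id k A) (ψ : A →ₐ[k] C) (CoalgebraStruct.comul (R := k) a) = t
      induction t using TensorProduct.induction_on with
      | zero => simp
      | add x y hx hy => simp only [map_add, smul_add, add_mul, hx, hy]
      | tmul x y => simp [E', E, jR, gA, lR, lB, TensorProduct.smul_tmul']
  obtain ⟨mi, hmi⟩ : ∃ mi : B →ₐ[k] C, (mR⁻¹).ofConv = (Algebra.TensorProduct.includeRight).comp mi := by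
    obtain ⟨m₀, hm₀⟩ := (GMod80.e ψL C).surjective (GMod80.e ψH C (toConv (AlgHom.id k C)) ≫ π)
    refine ⟨m₀⁻¹.ofConv, ?_⟩
    suffices hk : GMod80.e ψL ((A ⊗[k] B) ⊗[k] C) mR⁻¹ =
        GMod80.e ψL ((A ⊗[k] B) ⊗[k] C) (toConv ((Algebra.TensorProduct.includeRight : C →ₐ[k] ((A ⊗[k] B) ⊗[k] C)).comp m₀⁻¹.ofConv)) from
      congrArg WithConv.ofConv ((GMod80.e ψL ((A ⊗[k] B) ⊗[k] C)).injective hk)
    rw [show GMod80.e ψL _ mR⁻¹ = (GMod80.e ψL _ mR)⁻¹ from map_inv (GMod80.e ψL _) mR, hmR, ← GMod80.e_natural,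
      show GMod80.e ψL _ m₀⁻¹ = (GMod80.e ψL _ m₀)⁻¹ from map_inv (GMod80.e ψL _) m₀, hm₀, GrpObj.comp_inv, ← Category.assoc, GMod80.e_natural]
    rfl
  have hΘ : ∀ z : ((A ⊗[k] B) ⊗[k] C), E' (Θ z) = E' z := by
    intro z
    induction z using TensorProduct.induction_on with
    | zero => simp
    | add x y hx hy => simp only [map_add, hx, hy]
    | tmul w c =>
      induction w using TensorProduct.induction_on with
      | zero => simp
      | add x y hx hy => simp only [add_tmul, map_add, hx, hy]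
      | tmul a b =>
        show E' (jR (gA a) * nR.ofConv b * hC.ofConv c) = E' ((a ⊗ₜ[k] b) ⊗ₜ[k] c)
        have h1 : nR.ofConv b = Algebra.TensorProduct.map lB mi (CoalgebraStruct.comul (R := k) b) := by
          rw [AlgHom.convMul_apply, hmi]
          generalize CoalgebraStruct.comul (R := k) b = t
          induction t using TensorProduct.induction_on with
          | zero => simp
          | add x y hx hy => simp only [map_add, hx, hy]
          | tmul x y => simp [lR, jR]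
        have h2 : ∀ t : B ⊗[k] B, E' (jR (gA a) * Algebra.TensorProduct.map lB mi t * hC.ofConv c) =
            a ⊗ₜ[k] (mi (TensorProduct.lid k B (J.rTensor B t)) * c) := by
          intro t
          induction t using TensorProduct.induction_on with
          | zero => simp
          | add x y hx hy => simp only [map_add, add_mul, mul_add, tmul_add, hx, hy]
          | tmul x y =>
            simp [E', E, jR, gA, lB, hC, TensorProduct.smul_tmul', TensorProduct.tmul_smul]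
        rw [h1, h2, hJ]
        simp [E', E, TensorProduct.smul_tmul']
  rw [hσ, show σ (Φ.ofConv c) = Θ (rhs.ofConv c) from congrArg (fun r : C →ₐ[k] ((A ⊗[k] B) ⊗[k] C) => r c) key, hΘ,
    AlgHom.convMul_apply]
  generalize CoalgebraStruct.comul (R := k) c = t
  induction t with
  | zero => simp
  | add x y hx hy => simp only [map_add, hx, hy]
  | tmul x y =>
    show E' (jR (Φ.ofConv x) * hC.ofConv y) = E (Φ.ofConv x) ⊗ₜ[k] y
    simp [E', jR, hC]

end Groth.Agent.EqTors4.QuotInt
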