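import Groth.Agent.Char34.RedQuot
import Groth.Agent.Csa25.Separable
import Groth.Agent.S18813
import Groth.Agent.GIT36.LinRedChar0.Alg

/-!
A group in characteristic zero without normal unipotent subgroups over the ground field is linearly
reductive.
-/

set_option autoImplicit false
set_option linter.style.haveILetI false

universe u

open TensorProduct WithConv Groth.Agent.Comod33 Groth.Agent.Comod33.Conn
open Groth.Agent.GIT36.LinRedChar0 (IsMinSub ssCoef ssIdeal mk_ssCoef kills_ssIdeal_iff)

set_option backward.isDefEq.respectTransparency false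
set_option backward.isDefEq.respectTransparency.types false

noncomputable section

namespace Groth.Agent.EqTors4.RadLR

variable {k : Type u} [Field k]

/-- a criterion for unipotence -/
theorem isUnipotent_of_soc {Q : Type u} [CommRing Q] [Bialgebra k Q]
    (h : ∀ q : Q, ∃ n, q ∈ soc k Q Q n) : HopfRep.IsUnipotent k Q := by
  intro V _ _ _ _ hnt
  obtain ⟨E, -, hE0, hE, -, hmin⟩ :=
    exists_minimal_subcomod_le (A := Q) (⊤ : Submodule k V) top_ne_bot isSubcomod_top
  obtain ⟨v, hv, hv0⟩ := (Submodule.ne_bot_iff E).1 hE0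
  obtain ⟨φ, hφ⟩ := exists_cf_ne_zero (k := k) (A := Q) hv0
  have hinj : ∀ x ∈ E, cf (A := Q) φ x = 0 → x = 0 := by
    intro x hx hx0
    rcases hmin _ inf_le_left (isSubcomod_inf hE (isSubcomod_ker (isComodHom_cf φ))) with h | h
    · have hx' : x ∈ E ⊓ LinearMap.ker (cf (A := Q) φ) := ⟨hx, hx0⟩
      rwa [h, Submodule.mem_bot] at hx'
    · exact absurd (h.ge hv).2 hφ
  have hfix : ∀ i, ∀ x ∈ E, x ≠ 0 → cf (A := Q) φ x ∈ soc k Q Q i → HopfRep.fixedPts k Q V ≠ ⊥ := by
    intro i
    induction i with
    | zero =>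
      intro x hx hx0 hs
      exact absurd (hinj x hx ((Submodule.mem_bot k).1 hs)) hx0
    | succ n ih =>
      intro x hx hx0 hs
      by_cases hf : ∀ f : Q →ₗ[k] k, f 1 = 0 → dact (A := Q) f x = 0
      · refine (Submodule.ne_bot_iff _).2 ⟨x, ?_, hx0⟩
        rw [← soc_one]
        exact mem_soc_succ_iff.2 fun f h1 => (Submodule.mem_bot k).2 (hf f h1)
      · push Not at hf
        obtain ⟨f, h1, hf⟩ := hf
        refine ih _ ((isSubcomod_iff E).1 hE f x hx) hf ?_
        rw [IsComodHom.dact (isComodHom_cf φ)]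
        exact mem_soc_succ_iff.1 hs f h1
  obtain ⟨n, hn⟩ := h (cf (A := Q) φ v)
  exact hfix n v hv hv0 hn

variable {B : Type u} [CommRing B] [HopfAlgebra k B]

/-- the functionals vanishing on the identity and on the kernel ideal lower the filtration -/
def nil (V : Type u) [AddCommGroup V] [Module k V] [HopfRep.Comod k B V] : ℕ → Set V
  | 0 => {0}
  | n + 1 => {v | ∀ f : B ⧸ ssIdeal k B →ₗ[k] k, f 1 = 0 →
      dact (f ∘ₗ (Ideal.Quotient.mkₐ k (ssIdeal k B)).toLinearMap) v ∈ nil V n}

theorem dact_minSub {V : Type u} [AddCommGroup V] [Module k V] [HopfRep.Comod k B V]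
    {E : Submodule k V} (hE : HopfRep.IsSubcomod (k := k) (A := B) E) (hfin : Module.Finite k E) (hE0 : E ≠ ⊥)
    (hmin : ∀ F : Submodule k V, F ≤ E → HopfRep.IsSubcomod (k := k) (A := B) F → F = ⊥ ∨ F = E)
    (f : B ⧸ ssIdeal k B →ₗ[k] k) (hf : f 1 = 0) {e : V} (he : e ∈ E) :
    dact (f ∘ₗ (Ideal.Quotient.mkₐ k (ssIdeal k B)).toLinearMap) e = 0 := by
  set g := f ∘ₗ (Ideal.Quotient.mkₐ k (ssIdeal k B)).toLinearMap
  by_contra hne
  obtain ⟨φ, hφ⟩ := exists_cf_ne_zero (k := k) (A := B) hne
  have hge : dact g e ∈ E := (isSubcomod_iff E).1 hE g e he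
  have hinj : ∀ x ∈ E, cf (A := B) φ x = 0 → x = 0 := by
    intro x hx hx0
    rcases hmin _ inf_le_left (isSubcomod_inf hE (isSubcomod_ker (isComodHom_cf φ))) with h | h
    · have hx' : x ∈ E ⊓ LinearMap.ker (cf (A := B) φ) := ⟨hx, hx0⟩
      rwa [h, Submodule.mem_bot] at hx'
    · exact absurd (h.ge hge).2 hφ
  have hW : IsMinSub (E.map (cf (A := B) φ)) := by
    refine ⟨isSubcomod_map hE (isComodHom_cf φ), ?_, Module.Finite.map E _, ?_⟩
    · intro h
      obtain ⟨x, hx, hx0⟩ := (Submodule.ne_bot_iff E).1 hE0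
      exact hx0 (hinj x hx ((Submodule.mem_bot k).1 (h.le (Submodule.mem_map_of_mem hx))))
    · intro F hF hFs
      rcases hmin (E ⊓ F.comap (cf (A := B) φ)) inf_le_left
        (isSubcomod_inf hE (isSubcomod_comap hFs (isComodHom_cf φ))) with h | h
      · left
        rw [Submodule.eq_bot_iff]
        intro y hy
        obtain ⟨x, hx, rfl⟩ := hF hy
        have hx' : x ∈ E ⊓ F.comap (cf (A := B) φ) := ⟨hx, hy⟩
        rw [h, Submodule.mem_bot] at hx'
        rw [hx', map_zero]
      · right
        refine le_antisymm hF ?_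
        rintro _ ⟨x, hx, rfl⟩
        exact (h.ge hx).2
  have h1 := (kills_ssIdeal_iff (Ideal.Quotient.mkₐ k (ssIdeal k B))).1
    (fun a ha => Ideal.Quotient.eq_zero_iff_mem.2 ha) _ hW _ (Submodule.mem_map_of_mem he)
  apply hφ
  rw [IsComodHom.dact (isComodHom_cf φ), dact_apply]
  show rc g _ = 0
  rw [← rc_lTensor, show LinearMap.lTensor B (Ideal.Quotient.mkₐ k (ssIdeal k B)).toLinearMap
    (HopfRep.Comod.coact (k := k) (A := B) (cf (A := B) φ e)) = _ from h1, rc_tmul, hf, zero_smul]

theorem exists_nil (V : Type u) [AddCommGroup V] [Module k V] [c : HopfRep.Comod k B V] [Module.Finite k V] :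
    ∃ n, ∀ v : V, v ∈ nil (k := k) (B := B) V n := by
  induction hn : Module.finrank k V using Nat.strong_induction_on generalizing V with
  | _ n ih =>
  rcases subsingleton_or_nontrivial V with hV | hV
  · exact ⟨0, fun v => show v ∈ ({0} : Set V) from Subsingleton.elim _ _⟩
  obtain ⟨E, -, hE0, hE, hEfin, hmin⟩ :=
    exists_minimal_subcomod_le (A := B) (⊤ : Submodule k V) top_ne_bot isSubcomod_top
  letI := ComodSub.Comod.quot c E hE
  have hlt : Module.finrank k (V ⧸ E) < n := by
    have h1 := Submodule.finrank_quotient_add_finrank E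
    have h3 : 0 < Module.finrank k E := by
      haveI : Nontrivial E := Submodule.nontrivial_iff_ne_bot.2 hE0
      exact Module.finrank_pos
    omega
  obtain ⟨N, hN⟩ := ih _ hlt (V ⧸ E) rfl
  have hq : Hoch.IsComodHom B E.mkQ := ComodSub.isComodHom_mkQ c E hE
  suffices h : ∀ m, ∀ v : V, E.mkQ v ∈ nil (k := k) (B := B) (V ⧸ E) m → v ∈ nil (k := k) (B := B) V (m + 1) from
    ⟨N + 1, fun v => h N v (hN _)⟩
  intro m
  induction m with
  | zero =>
    intro v hv f hf
    exact dact_minSub hE hEfin hE0 hmin f hf ((Submodule.Quotient.mk_eq_zero E).1 hv)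
  | succ m ihm =>
    intro v hv f hf
    exact ihm _ (by rw [IsComodHom.dact hq]; exact hv f hf)

/-- the quotient by the kernel ideal is unipotent, over any field -/
theorem isUnipotent_ssIdeal : HopfRep.IsUnipotent k (B ⧸ ssIdeal k B) := by
  set I := ssIdeal k B
  refine isUnipotent_of_soc fun q => ?_
  obtain ⟨b, rfl⟩ := Ideal.Quotient.mkₐ_surjective k I q
  obtain ⟨U, hUf, hbU, hU⟩ := exists_finite_subcomod_mem (k := k) (A := B) b
  letI := ComodSub.Comod.restr (HopfRep.Comod.regular k B) U hU
  obtain ⟨n, hn⟩ := exists_nil (k := k) (B := B) U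
  refine ⟨n, ?_⟩
  suffices h : ∀ m, ∀ v : U, v ∈ nil (k := k) (B := B) U m → Ideal.Quotient.mkₐ k I v ∈ soc k (B ⧸ I) (B ⧸ I) m from
    h n ⟨b, hbU⟩ (hn _)
  intro m
  induction m with
  | zero =>
    intro v hv
    rw [show v = 0 from hv]
    exact zero_mem _
  | succ m ih =>
    intro v hv
    refine mem_soc_succ_iff.2 fun f hf => ?_
    have h1 := ih _ (hv f hf)
    have h2 : dact (A := B ⧸ I) f (Ideal.Quotient.mkₐ k I (v : B)) =
        Ideal.Quotient.mkₐ k I ((dact (f ∘ₗ (Ideal.Quotient.mkₐ k I).toLinearMap) v : U) : B) := by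
      rw [show ((dact (f ∘ₗ (Ideal.Quotient.mkₐ k I).toLinearMap) v : U) : B) = _ from
        IsComodHom.dact (ComodSub.isComodHom_subtype (HopfRep.Comod.regular k B) U hU) _ v]
      show rc f (CoalgebraStruct.comul (R := k) (Ideal.Quotient.mkₐ k I (v : B))) =
        Ideal.Quotient.mkₐ k I (rc (f ∘ₗ (Ideal.Quotient.mkₐ k I).toLinearMap) (CoalgebraStruct.comul (R := k) (v : B)))
      rw [show CoalgebraStruct.comul (R := k) (Ideal.Quotient.mkₐ k I (v : B)) =
          Algebra.TensorProduct.map (Ideal.Quotient.mkₐ k I) (Ideal.Quotient.mkₐ k I)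
            (CoalgebraStruct.comul (R := k) (v : B)) from
        (CoalgHomClass.map_comp_comul_apply (Bialgebra.Quotient.mkBialgHom (R := k) I) (v : B)).symm]
      generalize CoalgebraStruct.comul (R := k) (v : B) = t
      induction t with
      | zero => simp
      | add p q hp hq => simp only [map_add, hp, hq]
      | tmul p q => simp
    rw [h2]
    exact h1

/-- finitely many simple representations with trivial common kernel -/
theorem exists_faithful [Algebra.FiniteType k B]
    (hrad : ∀ I : Ideal B, I.IsHopfIdeal k → SGA3.IsNormalHopfIdeal k B I →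
      (∀ [I.IsHopfIdeal k], HopfRep.IsUnipotent k (B ⧸ I)) → I = RingHom.ker (Bialgebra.counitAlgHom k B)) :
    ∃ (W : Submodule k B) (hW : HopfRep.IsSubcomod (k := k) (A := B) W), Module.Finite k W ∧
      (letI := ComodSub.Comod.restr (HopfRep.Comod.regular k B) W hW
       HopfRep.IsSemisimpleComod k B W) ∧
      ∀ (R : Type u) [CommRing R] [Algebra k R] (g : B →ₐ[k] R),
        (∀ w ∈ W, ∀ φ : B →ₗ[k] k, g (cf (A := B) φ w) = algebraMap k R (φ w)) →
          g = (Algebra.ofId k R).comp (Bialgebra.counitAlgHom k B) := by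
  classical
  haveI : IsNoetherianRing B := Algebra.FiniteType.isNoetherianRing k B
  obtain ⟨t, ht, hspan⟩ := Submodule.fg_span_iff_fg_span_finset_subset
    ((fun b => b - algebraMap k B (CoalgebraStruct.counit (R := k) b)) '' ssCoef k B) |>.1
    (IsNoetherian.noetherian (R := B) (M := B) _)
  choose b hb hbe using fun x : t => ht x.2
  choose M φ w hM hw hbw using hb
  let W : Submodule k B := ⨆ x : t, M x
  have hW : HopfRep.IsSubcomod (k := k) (A := B) W := isSubcomod_iSup _ fun x => (hM x).1
  haveI hMf : ∀ x : t, Module.Finite k (M x) := fun x => (hM x).2.2.1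
  refine ⟨W, hW, Submodule.finite_iSup M, ?_, fun R _ _ g hg => ?_⟩
  · intro X hX
    let X' : Submodule k B := X.map W.subtype
    letI := ComodSub.Comod.restr (HopfRep.Comod.regular k B) W hW
    have hι : Hoch.IsComodHom B W.subtype := ComodSub.isComodHom_subtype (HopfRep.Comod.regular k B) W hW
    have hX' : HopfRep.IsSubcomod (k := k) (A := B) X' := isSubcomod_map hX hι
    let U : Submodule (WithConv (B →ₗ[k] k)) B := ⨆ x : t, toSub (M x) (hM x).1
    haveI hUss : IsSemisimpleModule (WithConv (B →ₗ[k] k)) U := by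
      have h1 : ∀ x : t, IsSemisimpleModule (WithConv (B →ₗ[k] k)) (toSub (M x) (hM x).1) := fun x => by
        haveI := (isSimpleModule_toSub_iff (hM x).1).2 ⟨(hM x).2.1, fun W' hW' hle => (hM x).2.2.2 W' hle hW'⟩
        infer_instance
      have h2 := isSemisimpleModule_biSup_of_isSemisimpleModule_submodule (s := (Set.univ : Set t))
        (p := fun x => toSub (M x) (hM x).1) fun x _ => h1 x
      rw [iSup_univ] at h2
      exact h2
    have hUW : U.restrictScalars k = W := by
      rw [show U.restrictScalars k = ⨆ x : t, (toSub (M x) (hM x).1).restrictScalars k from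
        (Comod33.iSup_restrictScalars _).symm]
      simp only [restrictScalars_toSub]
      rfl
    have hmem : ∀ a : B, a ∈ U ↔ a ∈ W := fun a => by rw [← hUW]; rfl
    haveI := (isSemisimpleModule_iff _ _).1 hUss
    obtain ⟨Y, hY⟩ := exists_isCompl ((toSub X' hX').comap U.subtype)
    let Y' : Submodule k B := (Y.map U.subtype).restrictScalars k
    have hY' : HopfRep.IsSubcomod (k := k) (A := B) Y' := isSubcomod_restrictScalars _
    refine ⟨Y'.comap W.subtype, isSubcomod_comap hY' hι, ⟨?_, ?_⟩⟩
    · rw [Submodule.disjoint_def]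
      rintro ⟨a, ha⟩ h1 ⟨y, hy, hya⟩
      have hya' : (y : B) = a := hya
      have h0 := Submodule.disjoint_def.1 hY.disjoint y (show (y : B) ∈ toSub X' hX' from
        hya' ▸ Submodule.mem_map_of_mem h1) hy
      exact Subtype.ext (hya'.symm.trans (congrArg Subtype.val h0))
    · rw [codisjoint_iff, eq_top_iff]
      rintro ⟨a, ha⟩ -
      obtain ⟨p, hp, q, hq, hpq⟩ := Submodule.mem_sup.1
        (show (⟨a, (hmem a).2 ha⟩ : U) ∈ (toSub X' hX').comap U.subtype ⊔ Y by rw [hY.sup_eq_top]; trivial)
      obtain ⟨x, hx, hxp⟩ := hp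
      refine Submodule.mem_sup.2 ⟨x, hx, ⟨q, (hmem _).1 q.2⟩, ⟨q, hq, rfl⟩, Subtype.ext ?_⟩
      exact (congrArg (· + (q : B)) hxp).trans (congrArg Subtype.val hpq)
  · have hle : ssIdeal k B ≤ RingHom.ker g := by
      rw [ssIdeal, Ideal.span, hspan]
      refine Submodule.span_le.2 fun a ha => ?_
      obtain ⟨x, rfl⟩ : ∃ x : t, (x : B) = a := ⟨⟨a, ha⟩, rfl⟩
      show g (x : B) = 0
      rw [← hbe x, map_sub, AlgHom.commutes, hbw x, counit_cf,
        hg _ (Submodule.mem_iSup_of_mem x (hw x))]
      exact sub_self _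
    rw [hrad _ GIT36.LinRedChar0.isHopfIdeal_ssIdeal GIT36.LinRedChar0.isNormal_ssIdeal isUnipotent_ssIdeal] at hle
    refine AlgHom.ext fun a => ?_
    have h2 : g (a - algebraMap k B (Bialgebra.counitAlgHom k B a)) = 0 := hle (by simp)
    rw [map_sub, AlgHom.commutes, sub_eq_zero] at h2
    exact h2

theorem isSeparable_center [CharZero k] (R : Type u) [Ring R] [Algebra k R] [Module.Finite k R] [IsSemisimpleRing R] :
    Algebra.IsSeparable k (Subalgebra.center k R) := by
  have hred : ∀ (z : Subalgebra.center k R) (n : ℕ), z ^ n = 0 → z = 0 := by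
    intro z n hz
    obtain ⟨e, he, hspan⟩ := IsSemisimpleRing.ideal_eq_span_idempotent (Ideal.span {(z : R)})
    have hez : e ∈ Ideal.span {(z : R)} := by rw [hspan]; exact Submodule.mem_span_singleton_self e
    obtain ⟨a, ha⟩ := Ideal.mem_span_singleton'.1 hez
    have hc : Commute a (z : R) := (Subalgebra.mem_center_iff.1 z.2 a)
    have hzn : (z : R) ^ (n + 1) = 0 := by
      rw [pow_succ, ← SubmonoidClass.coe_pow, hz, ZeroMemClass.coe_zero, zero_mul]
    have he0 : e = 0 := by
      rw [← he.pow_succ_eq n, ← ha, hc.mul_pow, hzn, mul_zero]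
    have hzm : (z : R) ∈ Ideal.span {e} := by rw [← hspan]; exact Submodule.mem_span_singleton_self _
    rw [he0] at hzm
    exact Subtype.ext (by simpa using hzm)
  refine ⟨fun x => ?_⟩
  have hint : IsIntegral k x := Algebra.IsIntegral.isIntegral x
  refine PerfectField.separable_iff_squarefree.2 fun q hq => ?_
  obtain ⟨r, hr⟩ := hq
  have hp0 : minpoly k x ≠ 0 := minpoly.ne_zero hint
  have h0 : Polynomial.aeval x (q * r) = 0 := by
    refine hred _ 2 ?_
    rw [← map_pow, show (q * r) ^ 2 = minpoly k x * r by rw [hr]; ring, map_mul, minpoly.aeval, zero_mul]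
  have hd := minpoly.dvd k x h0
  rw [hr] at hd hp0
  have hqr : q * r ≠ 0 := by
    intro h
    exact hp0 (by rw [_root_.mul_assoc, h, mul_zero])
  have h2 : q * (q * r) ∣ 1 * (q * r) := by rwa [one_mul, ← _root_.mul_assoc]
  exact isUnit_iff_dvd_one.2 ((mul_dvd_mul_iff_right hqr).1 h2)

variable (K : Type u) [Field K] [Algebra k K]

/-- subcomodules of a base changed comodule -/
theorem isSubcomod_baseChange_iff (V : Type u) [AddCommGroup V] [Module k V] [HopfRep.Comod k B V]
    (X : Submodule K (K ⊗[k] V)) :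
    (letI := CoactBr.Comod.baseChange k K B V
     HopfRep.IsSubcomod (k := K) (A := K ⊗[k] B) X) ↔
      ∀ f : B →ₗ[k] k, ∀ x ∈ X, (dact f : V →ₗ[k] V).baseChange K x ∈ X := by
  letI := CoactBr.Comod.baseChange k K B V
  have hrc : ∀ (f : B →ₗ[k] k) (z : K ⊗[k] V),
      rc f (BC.cbc K (K ⊗[k] V) B (HopfRep.Comod.coact (k := K) (A := K ⊗[k] B) z)) =
        (dact f : V →ₗ[k] V).baseChange K z := by
    intro f z
    rw [BC.cbc_baseChange_coact]
    induction z with
    | zero => simp
    | add p q hp hq => simp only [map_add, hp, hq]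
    | tmul c v =>
      rw [LinearMap.lTensor_tmul, LinearMap.baseChange_tmul, dact_apply]
      generalize HopfRep.Comod.coact (k := k) (A := B) v = s
      induction s with
      | zero => simp
      | add p q hp hq => simp only [tmul_add, map_add, hp, hq]
      | tmul n a => simp
  have key : ∀ z : (K ⊗[k] V) ⊗[K] (K ⊗[k] B), z ∈ LinearMap.range (X.subtype.rTensor (K ⊗[k] B)) ↔
      ∀ f : B →ₗ[k] k, rc f (BC.cbc K (K ⊗[k] V) B z) ∈ X.restrictScalars k := by
    intro z
    rw [mem_range_rTensor_iff]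
    constructor
    · intro hz f
      let F : K ⊗[k] B →ₗ[K] K := (TensorProduct.AlgebraTensorModule.rid k K K).toLinearMap ∘ₗ f.baseChange K
      suffices rc f (BC.cbc K (K ⊗[k] V) B z) = rc F z by rw [this]; exact hz F
      clear hz
      induction z with
      | zero => simp
      | add p q hp hq => simp only [map_add, hp, hq]
      | tmul n b =>
        induction b with
        | zero => simp
        | add p q hp hq => simp only [tmul_add, map_add, hp, hq]
        | tmul c a => simp [F, BC.cbc]
    · intro hz F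
      obtain ⟨y, hy⟩ := (mem_range_rTensor_iff (X.restrictScalars k) _).2 hz
      rw [show z = (BC.cbc K (K ⊗[k] V) B).symm (BC.cbc K (K ⊗[k] V) B z) from
        ((BC.cbc K (K ⊗[k] V) B).symm_apply_apply z).symm, ← hy]
      clear hy
      induction y with
      | zero => simp
      | add p q hp hq => simp only [map_add]; exact X.add_mem hp hq
      | tmul n a =>
        rw [LinearMap.rTensor_tmul, Submodule.subtype_apply]
        rw [show (BC.cbc K (K ⊗[k] V) B).symm ((n : K ⊗[k] V) ⊗ₜ[k] a) =
          (n : K ⊗[k] V) ⊗ₜ[K] ((1 : K) ⊗ₜ[k] a) from rfl, rc_tmul]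
        exact X.smul_mem _ n.2
  constructor
  · intro h f x hx
    rw [← hrc]
    exact (key _).1 (h x hx) f
  · intro h x hx
    exact (key _).2 fun f => by rw [hrc]; exact h f x hx

/-- semisimple representations stay semisimple over a field extension in characteristic zero -/
theorem isSemisimpleComod_baseChange [CharZero k] (V : Type u) [AddCommGroup V] [Module k V]
    [HopfRep.Comod k B V] [Module.Finite k V] (hss : HopfRep.IsSemisimpleComod k B V) :
    letI := CoactBr.Comod.baseChange k K B V
    HopfRep.IsSemisimpleComod K (K ⊗[k] B) (K ⊗[k] V) := by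
  letI := CoactBr.Comod.baseChange k K B V
  haveI := isSemisimpleComod_iff.1 hss
  let α : WithConv (B →ₗ[k] k) →ₐ[k] Module.End k V := Algebra.lsmul k k V
  let R : Subalgebra k (Module.End k V) := α.range
  have hstab : ∀ U : Submodule R V, ∀ (f : WithConv (B →ₗ[k] k)), ∀ x ∈ U, f • x ∈ U :=
    fun U f x hx => U.smul_mem (⟨α f, f, rfl⟩ : R) hx
  haveI : IsSemisimpleModule R V := by
    refine (isSemisimpleModule_iff _ _).2 ⟨fun U => ?_⟩
    obtain ⟨U', hc⟩ := exists_isCompl
      ({ U.toAddSubmonoid with smul_mem' := hstab U } : Submodule (WithConv (B →ₗ[k] k)) V)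
    refine ⟨{ U'.toAddSubmonoid with smul_mem' := ?_ }, ⟨?_, ?_⟩⟩
    · rintro ⟨_, f, rfl⟩ x hx
      exact U'.smul_mem f hx
    · rw [Submodule.disjoint_def]
      exact fun x hx hx' => Submodule.disjoint_def.1 hc.disjoint x hx hx'
    · rw [codisjoint_iff, eq_top_iff]
      intro x _
      obtain ⟨a, ha, b, hb, rfl⟩ := Submodule.mem_sup.1 (hc.sup_eq_top ▸ Submodule.mem_top (x := x))
      exact Submodule.add_mem_sup ha hb
  haveI : IsSemisimpleRing R := by
    let b := Module.finBasis k V
    let f : R →ₗ[R] (Fin (Module.finrank k V) → V) := LinearMap.pi fun i => LinearMap.toSpanSingleton R V (b i)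
    refine IsSemisimpleModule.of_injective f fun p q h => Subtype.ext (b.ext fun i => ?_)
    exact congrFun h i
  haveI : Algebra.IsSeparable k (Subalgebra.center k R) := isSeparable_center R
  haveI : IsSemisimpleRing (K ⊗[k] R) :=
    ((Csa25.hasSepIdem_of_semisimple (k := k) (A := R)).baseChange K).isSemisimpleRing
  let θ : K ⊗[k] R →ₐ[K] Module.End K (K ⊗[k] V) :=
    Algebra.TensorProduct.lift (Algebra.ofId K _) ((Module.End.baseChangeHom k K V).comp R.val)
      (fun c _ => Algebra.commute_algebraMap_left _ _)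
  letI : Module (K ⊗[k] R) (K ⊗[k] V) := Module.compHom _ θ.toRingHom
  have hθ : ∀ (c : K) (r : R) (x : K ⊗[k] V), (c ⊗ₜ[k] r) • x = c • (r : Module.End k V).baseChange K x :=
    fun c r x => by
      show θ (c ⊗ₜ[k] r) x = _
      rw [Algebra.TensorProduct.lift_tmul, Module.End.mul_apply, Algebra.ofId_apply, Module.algebraMap_end_apply]
      rfl
  intro X hX
  have hX' := (isSubcomod_baseChange_iff K V X).1 hX
  let Xt : Submodule (K ⊗[k] R) (K ⊗[k] V) :=
    { X.toAddSubmonoid with
      smul_mem' := fun z x hx => by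
        show z • x ∈ X
        induction z with
        | zero =>
          rw [show (0 : K ⊗[k] R) • x = 0 from zero_smul (K ⊗[k] R) x]
          exact X.zero_mem
        | add p q hp hq => rw [add_smul]; exact X.add_mem hp hq
        | tmul c r =>
          obtain ⟨_, f, rfl⟩ := r
          rw [hθ]
          exact X.smul_mem c (hX' f.ofConv x hx) }
  obtain ⟨Yt, hc⟩ := exists_isCompl Xt
  let Y : Submodule K (K ⊗[k] V) :=
    { Yt.toAddSubmonoid with
      smul_mem' := fun c x hx => by
        have h : c • x = ((c ⊗ₜ[k] (1 : R)) : K ⊗[k] R) • x := by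
          rw [hθ]; simp [Module.End.one_eq_id]
        show c • x ∈ Yt
        rw [h]
        exact Yt.smul_mem _ hx }
  refine ⟨Y, (isSubcomod_baseChange_iff K V Y).2 fun f x hx => ?_, ⟨?_, ?_⟩⟩
  · have h := Yt.smul_mem ((1 : K) ⊗ₜ[k] (⟨α (toConv f), toConv f, rfl⟩ : R)) hx
    rw [hθ, one_smul] at h
    exact h
  · rw [Submodule.disjoint_def]
    exact fun x hx hx' => Submodule.disjoint_def.1 hc.disjoint x hx hx'
  · rw [codisjoint_iff, eq_top_iff]
    intro x _
    obtain ⟨a, ha, b, hb, rfl⟩ := Submodule.mem_sup.1 (hc.sup_eq_top ▸ Submodule.mem_top (x := x))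
    exact Submodule.add_mem_sup ha hb

omit K in
/-- A group without normal unipotent subgroups in characteristic zero is linearly reductive. -/
theorem isLinearlyReductive_of_hrad [CharZero k] [Algebra.FiniteType k B]
    (hrad : ∀ I : Ideal B, I.IsHopfIdeal k → SGA3.IsNormalHopfIdeal k B I →
      (∀ [I.IsHopfIdeal k], HopfRep.IsUnipotent k (B ⧸ I)) → I = RingHom.ker (Bialgebra.counitAlgHom k B)) :
    HopfRep.IsLinearlyReductive k B := by
  obtain ⟨W, hW, hWf, hWss, hker⟩ := exists_faithful hrad
  letI := ComodSub.Comod.restr (HopfRep.Comod.regular k B) W hW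
  let K := AlgebraicClosure k
  haveI : CharZero K := charZero_of_injective_algebraMap (algebraMap k K).injective
  refine (S18813.result k K B).2 ?_
  letI := CoactBr.Comod.baseChange k K B W
  refine Char34.isLinearlyReductive_of_faithful (K ⊗[k] W) (isSemisimpleComod_baseChange K W hWss) ?_
  refine (injective_iff_map_eq_one _).2 fun g hg => ?_
  have h1 := hker K ((g.ofConv.restrictScalars k).comp Algebra.TensorProduct.includeRight) fun w hw φ => by
    have h := congrArg ((TensorProduct.AlgebraTensorModule.rid k K K).toLinearMap ∘ₗ (φ ∘ₗ W.subtype).baseChange K)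
      (LinearMap.congr_fun hg ((1 : K) ⊗ₜ[k] (⟨w, hw⟩ : W)))
    have hcf : cf (A := B) φ w = cf (A := B) (φ ∘ₗ W.subtype) (⟨w, hw⟩ : W) :=
      cf_comp (ComodSub.isComodHom_subtype (HopfRep.Comod.regular k B) W hW) φ (⟨w, hw⟩ : W)
    rw [hcf, cf_apply]
    rw [actHom_apply, Module.End.one_apply, act_eq_dact, dact_apply, CoactBr.baseChange_coact_tmul] at h
    simp only [LinearMap.comp_apply, LinearMap.baseChange_tmul, LinearEquiv.coe_coe,
      TensorProduct.AlgebraTensorModule.rid_tmul, Submodule.subtype_apply] at h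
    rw [Algebra.algebraMap_eq_smul_one, ← h]
    generalize HopfRep.Comod.coact (k := k) (A := B) (⟨w, hw⟩ : W) = s
    induction s with
    | zero => simp
    | add p q hp hq =>
      rw [map_add, map_add, hp, hq, tmul_add]
      simp only [tmul_add, map_add]
    | tmul n a =>
      rw [lc_tmul, map_smul]
      simp [Algebra.smul_def, mul_comm]
  refine ofConv_injective (Algebra.TensorProduct.ext (AlgHom.ext fun c => ?_) (AlgHom.ext fun a => ?_))
  · refine (g.ofConv.commutes c).trans ?_
    exact ((1 : WithConv (K ⊗[k] B →ₐ[K] K)).ofConv.commutes c).symm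
  · refine (congrArg (fun q : B →ₐ[k] K => q a) h1).trans ?_
    show algebraMap k K _ = algebraMap K K (CoalgebraStruct.counit (R := K) ((1 : K) ⊗ₜ[k] a))
    simp [Algebra.algebraMap_eq_smul_one]

end Groth.Agent.EqTors4.RadLR
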