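import Groth.Agent.EqTors4.Fixed
import Groth.Agent.Comod33.MultQuot
import Groth.Agent.GMod80.NoTorus
import Groth.Agent.GIT36.AffQuot.Main
import Groth.Agent.Torsor99.Basic
import Groth.Agent.HopfPt96.TorsorScheme
import Groth.Prelude.Def_NonAbH2

/-!
Equivariant torsors under unipotent group schemes in characteristic zero have invariant rational
points, for linearly reductive groups.
-/

universe u

open CategoryTheory CategoryTheory.Limits MonoidalCategory CartesianMonoidalCategory MonObj GrpObj AlgebraicGeometry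
open WithConv TensorProduct

set_option backward.isDefEq.respectTransparency false
set_option backward.isDefEq.respectTransparency.types false

noncomputable section

namespace Groth.Agent.EqTors4

variable {k : Type u} [Field k]

open GMod80 (sp)

/-- algebra maps as points of a spectrum -/
def spPts (A B : Type u) [CommRing A] [Algebra k A] [CommRing B] [Algebra k B] :
    (A →ₐ[k] B) ≃ (VecGrp.pt k B ⟶ sp k A) where
  toFun f := Over.homMk (Spec.map (CommRingCat.ofHom f.toRingHom)) (by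
    show Spec.map _ ≫ Spec.map _ = Spec.map _
    rw [← Spec.map_comp, ← CommRingCat.ofHom_comp]
    congr 2
    exact f.comp_algebraMap)
  invFun g :=
    { toRingHom := (Spec.preimage g.left).hom
      commutes' := fun r => by
        suffices CommRingCat.ofHom (algebraMap k A) ≫ Spec.preimage g.left =
          CommRingCat.ofHom (algebraMap k B) from congr($this r)
        apply Spec.map_injective
        rw [Spec.map_comp, Spec.map_preimage]
        exact Over.w g }
  left_inv f := by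
    ext x
    show (Spec.preimage (Spec.map (CommRingCat.ofHom f.toRingHom))).hom x = f x
    rw [Spec.preimage_map]
    rfl
  right_inv g := by
    apply Over.OverMorphism.ext
    exact Spec.map_preimage g.left

/-- points of an affine scheme with coordinates -/
def eP {A : Type u} [CommRing A] [Algebra k A] {P : Over (Spec (CommRingCat.of k))} (χ : sp k A ≅ P)
    (B : Type u) [CommRing B] [Algebra k B] : (A →ₐ[k] B) ≃ (VecGrp.pt k B ⟶ P) :=
  (spPts A B).trans
    { toFun := fun g => g ≫ χ.hom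
      invFun := fun g => g ≫ χ.inv
      left_inv := fun g => by simp
      right_inv := fun g => by simp }

theorem eP_natural {A : Type u} [CommRing A] [Algebra k A] {P : Over (Spec (CommRingCat.of k))}
    (χ : sp k A ≅ P) {B B' : Type u} [CommRing B] [Algebra k B] [CommRing B'] [Algebra k B']
    (φ : B →ₐ[k] B') (f : A →ₐ[k] B) : VecGrp.ptMap φ ≫ eP χ B f = eP χ B' (φ.comp f) := by
  show VecGrp.ptMap φ ≫ spPts A B f ≫ χ.hom = spPts A B' (φ.comp f) ≫ χ.hom
  rw [← Category.assoc]
  congr 1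
  apply Over.OverMorphism.ext
  show Spec.map _ ≫ Spec.map _ = Spec.map _
  rw [← Spec.map_comp, ← CommRingCat.ofHom_comp]
  rfl

section

variable {R H A : Type u} [CommRing R] [HopfAlgebra k R] [CommRing H] [HopfAlgebra k H]
  [CommRing A] [Algebra k A]
  {G U P : Over (Spec (CommRingCat.of k))} [GrpObj G] [GrpObj U]
  (ψ : sp k R ≅ G) [IsMonHom ψ.hom] (φ : sp k H ≅ U) [IsMonHom φ.hom] (χ : sp k A ≅ P)
  (c : AlgGrp.Action G U) (d : AlgGrp.Action G P) (b : AlgGrp.Action U P)

/-- the coordinates of an action, turned to the right -/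
def dHofAction {X : Type u} [CommRing X] [Algebra k X] {Q : Over (Spec (CommRingCat.of k))}
    (ξ : sp k X ≅ Q) (a : AlgGrp.Action G Q) : X →ₐ[k] X ⊗[k] R :=
  (eP ξ _).symm (lift (GMod80.e ψ _ (toConv Algebra.TensorProduct.includeRight))⁻¹
    (eP ξ _ Algebra.TensorProduct.includeLeft) ≫ a.act)

/-- the coordinates of the torsor structure -/
def βofAction : A →ₐ[k] A ⊗[k] H :=
  (eP χ _).symm (lift (GMod80.e φ _ (toConv Algebra.TensorProduct.includeRight))
    (eP χ _ Algebra.TensorProduct.includeLeft) ≫ b.act)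

theorem eP_tr (B : Type u) [CommRing B] [Algebra k B] (p : A →ₐ[k] B) (u : H →ₐ[k] B) :
    eP χ B (tr (βofAction φ χ b) p u) = lift (GMod80.e φ B (toConv u)) (eP χ B p) ≫ b.act := by
  rw [tr, ← eP_natural, βofAction, Equiv.apply_symm_apply, comp_lift_assoc, GMod80.e_natural,
    eP_natural, ofConv_toConv, Algebra.TensorProduct.lift_comp_includeRight',
    Algebra.TensorProduct.lift_comp_includeLeft]

theorem eP_act {X : Type u} [CommRing X] [Algebra k X] {Q : Over (Spec (CommRingCat.of k))}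
    (ξ : sp k X ≅ Q) (a : AlgGrp.Action G Q) (B : Type u) [CommRing B] [Algebra k B] (p : X →ₐ[k] B)
    (g : R →ₐ[k] B) :
    eP ξ B (act (dHofAction ψ ξ a) p g) = lift (GMod80.e ψ B (toConv g))⁻¹ (eP ξ B p) ≫ a.act := by
  rw [act, ← eP_natural, dHofAction, Equiv.apply_symm_apply, comp_lift_assoc, GrpObj.comp_inv,
    GMod80.e_natural, eP_natural, ofConv_toConv, Algebra.TensorProduct.lift_comp_includeRight',
    Algebra.TensorProduct.lift_comp_includeLeft]

theorem act_mul' {X : Type u} [CommRing X] [Algebra k X] {Q : Over (Spec (CommRingCat.of k))}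
    (ξ : sp k X ≅ Q) (a : AlgGrp.Action G Q) (B : Type u) [CommRing B] [Algebra k B] (p : X →ₐ[k] B)
    (g h : R →ₐ[k] B) :
    act (dHofAction ψ ξ a) p (toConv g * toConv h).ofConv =
      act (dHofAction ψ ξ a) (act (dHofAction ψ ξ a) p g) h := by
  apply (eP ξ B).injective
  rw [eP_act, eP_act, eP_act, toConv_ofConv, map_mul, _root_.mul_inv_rev, Hom.mul_def]
  have := a.mul_act
  calc lift (lift (GMod80.e ψ B (toConv h))⁻¹ (GMod80.e ψ B (toConv g))⁻¹ ≫ μ) (eP ξ B p) ≫ a.act
      = lift (lift (GMod80.e ψ B (toConv h))⁻¹ (GMod80.e ψ B (toConv g))⁻¹) (eP ξ B p) ≫ (μ[G] ▷ Q) ≫ a.act := by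
        rw [lift_whiskerRight_assoc]
    _ = _ := by rw [this, lift_lift_associator_hom_assoc, lift_whiskerLeft_assoc]

theorem act_one' {X : Type u} [CommRing X] [Algebra k X] {Q : Over (Spec (CommRingCat.of k))}
    (ξ : sp k X ≅ Q) (a : AlgGrp.Action G Q) (B : Type u) [CommRing B] [Algebra k B] (p : X →ₐ[k] B) :
    act (dHofAction ψ ξ a) p (1 : WithConv (R →ₐ[k] B)).ofConv = p := by
  apply (eP ξ B).injective
  rw [eP_act, toConv_ofConv, map_one, inv_one, Hom.one_def]
  calc lift (toUnit _ ≫ η[G]) (eP ξ B p) ≫ a.act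
      = lift (toUnit _) (eP ξ B p) ≫ (η[G] ▷ Q) ≫ a.act := by rw [lift_whiskerRight_assoc]
    _ = _ := by rw [a.one_act, lift_leftUnitor_hom]

theorem eP_eq_e (B : Type u) [CommRing B] [Algebra k B] (u : H →ₐ[k] B) :
    eP φ B u = GMod80.e φ B (toConv u) := rfl

/-- The data of an equivariant torsor. -/
theorem data_of_actions
    (hc : ∀ (T : Over (Spec (CommRingCat.of k))) (g : T ⟶ G) (u₁ u₂ : T ⟶ U),
      lift g (u₁ * u₂) ≫ c.act = (lift g u₁ ≫ c.act) * (lift g u₂ ≫ c.act))
    (hcomp : ∀ (T : Over (Spec (CommRingCat.of k))) (g : T ⟶ G) (v : T ⟶ U) (p : T ⟶ P),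
      lift g (lift v p ≫ b.act) ≫ d.act = lift (lift g v ≫ c.act) (lift g p ≫ d.act) ≫ b.act)
    (hb : NonAbH1.IsPseudoTorsorSch b) (hA : Nontrivial A) :
    Data (dHofAction ψ χ d) (dHofAction ψ φ c) (βofAction φ χ b) where
  actA_mul B _ _ p g h := act_mul' ψ χ d B p g h
  actA_one B _ _ p := act_one' ψ χ d B p
  actH_mul B _ _ p g h := act_mul' ψ φ c B p g h
  actH_one B _ _ p := act_one' ψ φ c B p
  actH_hom B _ _ u v g := by
    apply (GMod80.e φ B).injective
    rw [map_mul, ← eP_eq_e φ B (act _ (toConv u * toConv v).ofConv g), ← eP_eq_e φ B (act _ u g),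
      ← eP_eq_e φ B (act _ v g), eP_act, eP_act, eP_act]
    rw [eP_eq_e φ B (toConv u * toConv v).ofConv, toConv_ofConv, map_mul]
    exact hc _ _ _ _
  tr_mul B _ _ p u v := by
    apply (eP χ B).injective
    rw [eP_tr, eP_tr, eP_tr, toConv_ofConv, map_mul, Hom.mul_def]
    have := b.mul_act
    calc lift (lift (GMod80.e φ B (toConv u)) (GMod80.e φ B (toConv v)) ≫ μ) (eP χ B p) ≫ b.act
        = lift (lift (GMod80.e φ B (toConv u)) (GMod80.e φ B (toConv v))) (eP χ B p) ≫ (μ[U] ▷ P) ≫ b.act := by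
          rw [lift_whiskerRight_assoc]
      _ = _ := by rw [this, lift_lift_associator_hom_assoc, lift_whiskerLeft_assoc]
  tr_one B _ _ p := by
    apply (eP χ B).injective
    rw [eP_tr, toConv_ofConv, map_one, Hom.one_def]
    calc lift (toUnit _ ≫ η[U]) (eP χ B p) ≫ b.act
        = lift (toUnit _) (eP χ B p) ≫ (η[U] ▷ P) ≫ b.act := by rw [lift_whiskerRight_assoc]
      _ = _ := by rw [b.one_act, lift_leftUnitor_hom]
  tr_act B _ _ p u g := by
    apply (eP χ B).injective
    rw [eP_act, eP_tr, eP_tr, eP_act, ← eP_eq_e φ B u, ← eP_eq_e φ B (act (dHofAction ψ φ c) u g), eP_act, hcomp]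
  exists_unique B _ _ p q := by
    obtain ⟨w, hw⟩ := Torsor99.exists_translate hb (eP χ B p) (eP χ B q)
    obtain ⟨u, rfl⟩ := (GMod80.e φ B).surjective w
    refine ⟨u.ofConv, (eP χ B).injective (by rw [eP_tr, toConv_ofConv, hw]), fun v hv => ?_⟩
    have h := congrArg (eP χ B) hv
    rw [eP_tr, ← hw] at h
    exact congrArg WithConv.ofConv ((GMod80.e φ B).injective (Torsor99.translate_inj hb _ h))
  nontrivial := hA

end

/-- Coordinates of a unipotent group are unipotent. -/
theorem isUnipotent_coord {U : Over (Spec (CommRingCat.of k))} [GrpObj U] [IsAffine U.left] [Smooth U.hom]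
    [ConnectedSpace U.left] {H : Type u} [CommRing H] [HopfAlgebra k H] (φ : sp k H ≅ U) [IsMonHom φ.hom]
    (s : ↥(Spec (CommRingCat.of k)))
    (hU : Red.HasNoSubtorus (AlgebraicClosure ((Spec (CommRingCat.of k)).residueField s)) (Red.geomFibre s U)) :
    HopfRep.IsUnipotent k H := by
  let S := Spec (CommRingCat.of k)
  obtain ⟨f, hf⟩ : ∃ f, Spec.map f = Red.geomPt s := ⟨Spec.preimage _, Spec.map_preimage _⟩
  let L := AlgebraicClosure (S.residueField s)
  letI : Algebra k L := f.hom.toAlgebra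
  have hU' : Red.HasNoSubtorus L (Red.bc (GIT36.LinRedChar0.bm k L) U) := by
    show Red.HasNoSubtorus L (Red.bc (Spec.map f) U)
    rw [hf]
    exact hU
  let φ' : sp L (L ⊗[k] H) ≅ Red.bc (GIT36.LinRedChar0.bm k L) U :=
    GIT36.LinRedChar0.bcIso k L H ≪≫ (Over.pullback (GIT36.LinRedChar0.bm k L)).mapIso φ
  haveI : IsMonHom φ'.hom := by
    haveI := GIT36.LinRedChar0.isMonHom_bcIso k L H
    haveI : IsMonHom ((Over.pullback (GIT36.LinRedChar0.bm k L)).map φ.hom) := inferInstance
    exact (inferInstance : IsMonHom ((GIT36.LinRedChar0.bcIso k L H).hom ≫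
      (Over.pullback (GIT36.LinRedChar0.bm k L)).map φ.hom))
  haveI : Algebra.FiniteType k H := GMod80.finiteType φ
  haveI := GIT36.LinRedChar0.isAffine_left φ'
  haveI : Smooth (Red.bc (GIT36.LinRedChar0.bm k L) U).hom :=
    MorphismProperty.pullback_snd _ _ ‹Smooth U.hom›
  haveI : ConnectedSpace (Red.bc (GIT36.LinRedChar0.bm k L) U).left :=
    GIT36.LinRedChar0.connectedSpace_left φ'
      (Unip38.idem_baseChange_trivial (Bialgebra.counitAlgHom k H) (GMod80.connected φ) L)
  exact Comod33.MultQuot.isUnipotent_descend (GMod80.isUnipotent_of_hasNoSubtorus φ' hU')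

variable [CharZero k]

/-- The fixed point theorem for schemes. -/
theorem exists_fixedPt {G U P : Over (Spec (CommRingCat.of k))} [GrpObj G] [GrpObj U]
    {R : Type u} [CommRing R] [HopfAlgebra k R] (ψ : sp k R ≅ G) [IsMonHom ψ.hom]
    (hR : HopfRep.IsLinearlyReductive k R)
    {H : Type u} [CommRing H] [HopfAlgebra k H] [Algebra.FiniteType k H] (φ : sp k H ≅ U) [IsMonHom φ.hom]
    (hH : HopfRep.IsUnipotent k H)
    (c : AlgGrp.Action G U)
    (hc : ∀ (T : Over (Spec (CommRingCat.of k))) (g : T ⟶ G) (u₁ u₂ : T ⟶ U),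
      lift g (u₁ * u₂) ≫ c.act = (lift g u₁ ≫ c.act) * (lift g u₂ ≫ c.act))
    (d : AlgGrp.Action G P) (b : AlgGrp.Action U P)
    (hb : NonAbH1.IsTorsorFor Scheme.fpqcPrecoverage b)
    (hcomp : ∀ (T : Over (Spec (CommRingCat.of k))) (g : T ⟶ G) (v : T ⟶ U) (p : T ⟶ P),
      lift g (lift v p ≫ b.act) ≫ d.act = lift (lift g v ≫ c.act) (lift g p ≫ d.act) ≫ b.act) :
    ∃ x : 𝟙_ (Over (Spec (CommRingCat.of k))) ⟶ P, d.IsFixedPt x := by
  haveI : IsAffine U.left := IsAffine.of_isIso (GMod80.sch φ).inv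
  haveI := Unr55.isAffineHom.{u}
  haveI : IsAffineHom U.hom := isAffineHom_of_isAffine _
  haveI : IsAffineHom P.hom := Sga84.hom_of_isTorsorFor @IsAffineHom this hb
  haveI : IsAffine P.left := isAffine_of_isAffineHom P.hom
  obtain ⟨A, ⟨χ⟩⟩ := HopfPt96.exists_algSpec_iso P
  let χ' : sp k A ≅ P := χ
  have hA : Nontrivial A := by
    obtain ⟨p, -⟩ := (Sga84.surjective_of_isLocallyTrivialFor hb.2).surj (IsLocalRing.closedPoint k)
    exact PrimeSpectrum.nontrivial (show PrimeSpectrum A from χ'.inv.left p)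
  have D := data_of_actions ψ φ χ' c d b hc hcomp hb.1 hA
  obtain ⟨p, hp⟩ := exists_fixed hR hH D
  let ptI : 𝟙_ (Over (Spec (CommRingCat.of k))) ≅ VecGrp.pt k k :=
    Over.isoMk (Iso.refl _) (by
      show 𝟙 _ ≫ Spec.map (CommRingCat.ofHom (algebraMap k k)) = 𝟙 _
      rw [Category.id_comp]
      exact Spec.map_id _)
  refine ⟨ptI.hom ≫ eP χ' k p, fun T g => ?_⟩
  -- enough at the universal point
  have hpt : toUnit (VecGrp.pt k R) ≫ ptI.hom = VecGrp.ptMap (Algebra.ofId k R) := by
    rw [← cancel_mono ptI.inv, Category.assoc, Iso.hom_inv_id, Category.comp_id]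
    exact toUnit_unique _ _
  have key := congrArg (eP χ' R) (hp R (HopfAlgebra.antipodeAlgHom k R))
  rw [eP_act, ← eP_natural, ← hpt, Category.assoc, ← map_inv,
    show (toConv (HopfAlgebra.antipodeAlgHom k R))⁻¹ = toConv (AlgHom.id k R) from
      inv_eq_of_mul_eq_one_right AlgHom.antipode_id_cancel, GMod80.e_id] at key
  have hgψ : (g ≫ ψ.inv) ≫ ψ.hom = g := by rw [Category.assoc, Iso.inv_hom_id, Category.comp_id]
  have hgu : (g ≫ ψ.inv) ≫ toUnit (VecGrp.pt k R) = toUnit T := toUnit_unique _ _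
  have hx : (g ≫ ψ.inv) ≫ (toUnit (VecGrp.pt k R) ≫ ptI.hom ≫ eP χ' k p) = toUnit T ≫ ptI.hom ≫ eP χ' k p :=
    (Category.assoc _ _ _).symm.trans (congrArg (· ≫ ptI.hom ≫ eP χ' k p) hgu)
  have h2 : (g ≫ ψ.inv) ≫ (lift ψ.hom (toUnit (VecGrp.pt k R) ≫ ptI.hom ≫ eP χ' k p) ≫ d.act) =
      lift g (toUnit T ≫ ptI.hom ≫ eP χ' k p) ≫ d.act :=
    (comp_lift_assoc _ _ _ _).trans (by rw [hgψ]; exact congrArg (fun z => lift g z ≫ d.act) hx)
  exact h2.symm.trans ((congrArg ((g ≫ ψ.inv) ≫ ·) key).trans hx)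

end Groth.Agent.EqTors4
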