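import Groth.Agent.EqTors4.Mostow

/-!
Equivariant retractions onto subgroups of unipotent groups, in characteristic zero.
-/

set_option autoImplicit false
set_option linter.style.haveILetI false

universe u

open CategoryTheory CategoryTheory.Limits MonoidalCategory CartesianMonoidalCategory MonObj GrpObj AlgebraicGeometry
open scoped TensorProduct
open WithConv TensorProduct Groth.Agent.Comod33
open Groth.Agent.GIT36.LinRedChar0 (lieAlg fn)

set_option backward.isDefEq.respectTransparency false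
set_option backward.isDefEq.respectTransparency.types false

noncomputable section

namespace Groth.Agent.EqTors4.Mostow

attribute [local instance 100] LieRing.ofAssociativeRing

variable {k : Type u} [Field k] [CharZero k]

theorem expPt_natural {Q : Type u} [CommRing Q] [HopfAlgebra k Q] (D : lieAlg k Q)
    (hU : HopfRep.IsUnipotent k Q) {R R' : Type u} [CommRing R] [Algebra k R] [CommRing R'] [Algebra k R']
    (g : R →ₐ[k] R') (t : R) : g.comp (expPt D hU t) = expPt D hU (g t) := by
  dsimp only [expPt]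
  refine AlgHom.ext fun a => ?_
  simp only [AlgHom.comp_apply]
  exact (Polynomial.aeval_algHom_apply g t _).symm

theorem conv_comp_right {A R R' : Type u} [CommRing A] [HopfAlgebra k A] [CommRing R] [Algebra k R]
    [CommRing R'] [Algebra k R'] (φ : R →ₐ[k] R') (a b : WithConv (A →ₐ[k] R)) :
    toConv (φ.comp (a * b).ofConv) = toConv (φ.comp a.ofConv) * toConv (φ.comp b.ofConv) :=
  ofConv_injective (SGA3a.NormalHopf.comp_conv φ a.ofConv b.ofConv)

theorem conv_comp_inv {A R R' : Type u} [CommRing A] [HopfAlgebra k A] [CommRing R] [Algebra k R]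
    [CommRing R'] [Algebra k R'] (φ : R →ₐ[k] R') (a : WithConv (A →ₐ[k] R)) :
    toConv (φ.comp a⁻¹.ofConv) = (toConv (φ.comp a.ofConv))⁻¹ := by
  refine ofConv_injective ?_
  show φ.comp (toConv a.ofConv)⁻¹.ofConv = _
  rw [SGA3a.NormalHopf.inv_ofConv, SGA3a.NormalHopf.inv_ofConv]
  rfl

variable {A : Type u} [CommRing A] [HopfAlgebra k A] [Algebra.FiniteType k A]

/-- a closed subgroup of a unipotent group has a left equivariant retraction -/
theorem exists_retraction (hU : HopfRep.IsUnipotent k A) (J : Ideal A) (hJ : J.IsHopfIdeal k) :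
    ∃ r : A →ₐ[k] A, (∀ a ∈ J, r a = 0) ∧ ∀ (R : Type u) [CommRing R] [Algebra k R] (g h : A →ₐ[k] R),
      (∀ a ∈ J, h a = 0) →
      toConv ((toConv h * toConv g).ofConv.comp r) = toConv h * toConv (g.comp r) := by
  classical
  haveI : IsNoetherianRing A := Algebra.FiniteType.isNoetherianRing k A
  induction J using IsWellFounded.induction (· > ·) (α := Ideal A) with
  | _ J ih =>
  haveI := hJ
  let q := Ideal.Quotient.mkₐ k J
  by_cases hall : ∀ a : A, TensorProduct.map q.toLinearMap LinearMap.id (CoalgebraStruct.comul (R := k) a) =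
      (1 : A ⧸ J) ⊗ₜ[k] a
  · refine ⟨(1 : WithConv (A →ₐ[k] A)).ofConv, fun a ha => ?_, fun R _ _ g h hh => ?_⟩
    · rw [AlgHom.convOne_apply, Submodule.IsCoideal.counit_eq_zero (I := J.restrictScalars k) (x := a) ha,
        map_zero]
    · have hq : ∀ a, q a = algebraMap k _ (CoalgebraStruct.counit (R := k) a) := fun a => by
        have h1 := congrArg (fun z => TensorProduct.rid k (A ⧸ J)
          ((CoalgebraStruct.counit (R := k) (A := A)).lTensor (A ⧸ J) z)) (hall a)
        simp only [LinearMap.lTensor_tmul, TensorProduct.rid_tmul] at h1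
        rw [← LinearMap.comp_apply (LinearMap.lTensor _ _), LinearMap.lTensor_comp_map, LinearMap.comp_id,
          ← LinearMap.rTensor_comp_lTensor, LinearMap.comp_apply, Coalgebra.lTensor_counit_comul,
          LinearMap.rTensor_tmul, TensorProduct.rid_tmul, one_smul] at h1
        rw [Algebra.algebraMap_eq_smul_one]
        exact h1
      have h1 : toConv h = 1 := ofConv_injective (AlgHom.ext fun a => by
        rw [ofConv_toConv, ← Ideal.Quotient.liftₐ_comp J h hh, AlgHom.comp_apply, hq, AlgHom.commutes,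
          AlgHom.convOne_apply])
      rw [h1, _root_.one_mul, _root_.one_mul]
  -- the first function moved by the subgroup
  push Not at hall
  obtain ⟨b, hb⟩ := hall
  have hex : ∃ n, ∃ b ∈ soc k A A n, TensorProduct.map q.toLinearMap LinearMap.id
      (CoalgebraStruct.comul (R := k) b) ≠ (1 : A ⧸ J) ⊗ₜ[k] b := by
    have h : b ∈ ⨆ i, soc k A A i := by rw [iSup_soc_eq_top hU]; trivial
    obtain ⟨n, hn⟩ := (Submodule.mem_iSup_of_directed _ (soc_mono.directed_le)).1 h
    exact ⟨n, b, hn, hb⟩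
  obtain ⟨n, ⟨b, hbn, hb⟩, hmin⟩ := Nat.findX hex
  obtain ⟨n, rfl⟩ : ∃ m, n = m + 1 := by
    cases n with
    | zero =>
      exfalso
      rw [(Submodule.mem_bot k).1 hbn, map_zero, map_zero, tmul_zero] at hb
      exact hb rfl
    | succ m => exact ⟨m, rfl⟩
  set δ := TensorProduct.map q.toLinearMap LinearMap.id (CoalgebraStruct.comul (R := k) b) -
    (1 : A ⧸ J) ⊗ₜ[k] b with hδ
  have hfix : ∀ f : A →ₗ[k] k, f 1 = 0 → (dact (A := A) (V := A) f).lTensor (A ⧸ J) δ = 0 := by
    intro f hf
    have h1 : dact (A := A) (V := A) f b ∈ soc k A A n := mem_soc_succ_iff.1 hbn f hf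
    have h2 := not_not.1 fun h => hmin n (Nat.lt_succ_self n) ⟨_, h1, h⟩
    rw [hδ, map_sub, LinearMap.lTensor_tmul, sub_eq_zero, ← h2]
    have h3 : CoalgebraStruct.comul (R := k) (dact (A := A) (V := A) f b) =
        (dact (A := A) (V := A) f).lTensor A (CoalgebraStruct.comul (R := k) b) := by
      refine eq_of_lc fun φ => ?_
      rw [lc_lTensor]
      exact IsComodHom.dact (isComodHom_cf (A := A) (V := A) φ) f b
    rw [h3]
    generalize CoalgebraStruct.comul (R := k) b = t
    induction t with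
    | zero => simp
    | add u v hu hv => simp only [map_add, hu, hv]
    | tmul u v => simp
  set a := b - algebraMap k A (CoalgebraStruct.counit (R := k) b) with ha
  have hδa : δ = q a ⊗ₜ[k] (1 : A) := by
    have hfixed : ∀ φ : A ⧸ J →ₗ[k] k, lc φ δ = CoalgebraStruct.counit (R := k) (lc φ δ) • (1 : A) := by
      intro φ
      have h1 : ∀ f : A →ₗ[k] k, f 1 = 0 → dact (A := A) (V := A) f (lc φ δ) = 0 := fun f hf => by
        rw [← lc_lTensor, hfix f hf, map_zero]
      have h2 : lc φ δ ∈ soc k A A 1 := mem_soc_succ_iff.2 fun f hf => (Submodule.mem_bot k).2 (h1 f hf)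
      rw [soc_one] at h2
      have h3 := congrArg (fun z => TensorProduct.lid k A ((CoalgebraStruct.counit (R := k) (A := A)).rTensor A z))
        (show CoalgebraStruct.comul (R := k) (lc φ δ) = lc φ δ ⊗ₜ[k] (1 : A) from h2)
      simpa [Coalgebra.rTensor_counit_comul] using h3
    refine eq_of_lc fun φ => ?_
    rw [hfixed φ, lc_tmul]
    congr 1
    rw [hδ, map_sub, lc_tmul, map_sub, map_smul, ← lc_lTensor, ha, map_sub, AlgHom.commutes, map_sub]
    refine congrArg₂ (· - ·) ?_ ?_
    · rw [← LinearMap.comp_apply (LinearMap.lTensor _ _), LinearMap.lTensor_comp_map, LinearMap.comp_id,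
        ← LinearMap.rTensor_comp_lTensor, LinearMap.comp_apply, Coalgebra.lTensor_counit_comul,
        LinearMap.rTensor_tmul, lc_tmul, smul_eq_mul, _root_.mul_one]
      rfl
    · rw [Algebra.algebraMap_eq_smul_one, map_smul, smul_eq_mul, smul_eq_mul, mul_comm]
  have haΔ : TensorProduct.map q.toLinearMap LinearMap.id (CoalgebraStruct.comul (R := k) a) =
      q a ⊗ₜ[k] (1 : A) + (1 : A ⧸ J) ⊗ₜ[k] a := by
    rw [← hδa, hδ, ha, map_sub, map_sub, Algebra.algebraMap_eq_smul_one, map_smul, Bialgebra.comul_one,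
      Algebra.TensorProduct.one_def, map_smul, TensorProduct.map_tmul, AlgHom.toLinearMap_apply, map_one,
      LinearMap.id_apply, tmul_sub, TensorProduct.tmul_smul]
    abel
  let Kills : ∀ {R : Type u} [CommRing R] [Algebra k R], (A →ₐ[k] R) → Prop := fun f => ∀ x ∈ J, f x = 0
  have hadd : ∀ (R : Type u) [CommRing R] [Algebra k R] (h g : A →ₐ[k] R), Kills h →
      (toConv h * toConv g).ofConv a = h a + g a := by
    intro R _ _ h g hh
    let h' := Ideal.Quotient.liftₐ J h hh
    have e : (toConv h * toConv g).ofConv a =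
        LinearMap.mul' k R (TensorProduct.map h'.toLinearMap g.toLinearMap
          (TensorProduct.map q.toLinearMap LinearMap.id (CoalgebraStruct.comul (R := k) a))) := by
      rw [AlgHom.convMul_apply]
      generalize CoalgebraStruct.comul (R := k) a = z
      induction z with
      | zero => simp
      | add p q hp hq => simp only [map_add, hp, hq]
      | tmul u v => simp [h', q]
    rw [e, haΔ]
    simp [h', q]
  have hqa : q a ≠ 0 := fun h => hb (sub_eq_zero.1 (by rw [← hδ, hδa, h, zero_tmul]))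
  have hprim : Diag.IsPrim (k := k) (q a) := by
    show CoalgebraStruct.comul (R := k) (Ideal.Quotient.mk J a) = _
    rw [Bialgebra.Quotient.comul_mk]
    have e := congrArg (q.toLinearMap.lTensor (A ⧸ J)) haΔ
    rw [← LinearMap.comp_apply, LinearMap.lTensor_comp_map, LinearMap.comp_id, map_add, LinearMap.lTensor_tmul,
      LinearMap.lTensor_tmul, AlgHom.toLinearMap_apply, map_one] at e
    exact e
  have hUQ : HopfRep.IsUnipotent k (A ⧸ J) :=
    Unip38.isUnipotent_of_surjective (Bialgebra.Quotient.mkBialgHom (R := k) J) Ideal.Quotient.mk_surjective hU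
  haveI : Algebra.FiniteType k (A ⧸ J) :=
    Algebra.FiniteType.of_surjective q (Ideal.Quotient.mkₐ_surjective k J)
  obtain ⟨D₀, hD₀⟩ : ∃ D : lieAlg k (A ⧸ J), fn D (q a) ≠ 0 := by
    by_contra h
    push Not at h
    exact hqa (eq_zero_of_prim_of_lieAlg hprim h)
  obtain ⟨D, hD⟩ : ∃ D : lieAlg k (A ⧸ J), fn D (q a) = 1 := by
    refine ⟨⟨(fn D₀ (q a))⁻¹ • (D₀ : WithConv (A ⧸ J →ₗ[k] k)), (lieAlg k (A ⧸ J)).toSubmodule.smul_mem _ D₀.2⟩, ?_⟩
    show (fn D₀ (q a))⁻¹ * fn D₀ (q a) = 1
    exact inv_mul_cancel₀ hD₀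
  -- the smaller subgroup
  let J₂ : Ideal A := J ⊔ Ideal.span {a}
  have hJ₂ : J₂.IsHopfIdeal k := by
    let K : Ideal (A ⧸ J) := Ideal.span {q a}
    haveI : K.IsHopfIdeal k := by
      refine IdComp.isHopfIdeal_span _ ?_ ?_ ?_
      · rintro _ rfl
        exact Diag.counit_prim hprim
      · rintro _ rfl
        show Algebra.TensorProduct.map _ _ (CoalgebraStruct.comul (R := k) (q a)) = 0
        have h0 : Ideal.Quotient.mkₐ k K (q a) = 0 :=
          Ideal.Quotient.eq_zero_iff_mem.2 (Ideal.subset_span rfl)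
        rw [show CoalgebraStruct.comul (R := k) (q a) = _ from hprim, map_add, Algebra.TensorProduct.map_tmul,
          Algebra.TensorProduct.map_tmul]
        simp [h0, K] at *
      · rintro _ rfl
        show HopfAlgebraStruct.antipode (R := k) (q a) ∈ K
        have h := HopfAlgebra.mul_antipode_rTensor_comul_apply (R := k) (q a)
        rw [show CoalgebraStruct.comul (R := k) (q a) = _ from hprim, Diag.counit_prim hprim, map_zero, map_add,
          map_add, LinearMap.rTensor_tmul, LinearMap.rTensor_tmul, LinearMap.mul'_apply, LinearMap.mul'_apply,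
          HopfAlgebra.antipode_one, _root_.mul_one, _root_.one_mul] at h
        rw [eq_neg_of_add_eq_zero_left h]
        exact K.neg_mem (Ideal.subset_span rfl)
    let ρ : A →ₐc[k] (A ⧸ J) ⧸ K := (Bialgebra.Quotient.mkBialgHom (R := k) K).comp
      (Bialgebra.Quotient.mkBialgHom (R := k) J)
    have e : J₂ = RingHom.ker (ρ : A →ₐ[k] (A ⧸ J) ⧸ K) := by
      show J ⊔ Ideal.span {a} = RingHom.ker ((Ideal.Quotient.mk K).comp (Ideal.Quotient.mk J))
      rw [← RingHom.comap_ker, Ideal.mk_ker, show K = Ideal.map (Ideal.Quotient.mk J) (Ideal.span {a}) by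
        rw [Ideal.map_span, Set.image_singleton]; rfl, Ideal.comap_map_of_surjective _ Ideal.Quotient.mk_surjective,
        ← RingHom.ker_eq_comap_bot, Ideal.mk_ker, sup_comm]
    rw [e]
    exact IdComp.isHopfIdeal_ker ρ fun y => by
      obtain ⟨y, rfl⟩ := Ideal.Quotient.mk_surjective y
      obtain ⟨x, rfl⟩ := Ideal.Quotient.mk_surjective y
      exact ⟨x, rfl⟩
  have hlt : J₂ > J := lt_of_le_of_ne le_sup_left fun h => hqa (Ideal.Quotient.eq_zero_iff_mem.2
    (h.symm ▸ Ideal.mem_sup_right (Ideal.subset_span rfl)))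
  obtain ⟨r₂, hr₂J, hr₂⟩ := ih J₂ hlt hJ₂
  let nn : ∀ {R : Type u} [CommRing R] [Algebra k R], R → WithConv (A →ₐ[k] R) :=
    fun t => toConv ((expPt D hUQ t).comp q)
  have hnn : ∀ (R : Type u) [CommRing R] [Algebra k R] (t : R), Kills (nn t).ofConv ∧ (nn t).ofConv a = t := by
    intro R _ _ t
    refine ⟨fun x hx => ?_, ?_⟩
    · show expPt D hUQ t (q x) = 0
      rw [show q x = 0 from Ideal.Quotient.eq_zero_iff_mem.2 hx, map_zero]
    · show expPt D hUQ t (q a) = t
      rw [expPt_prim D hUQ t hprim, hD, one_smul]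
  have hnat : ∀ (R : Type u) [CommRing R] [Algebra k R] (φ : A →ₐ[k] R) (t : A),
      toConv (φ.comp (nn t).ofConv) = nn (φ t) := fun R _ _ φ t =>
    congrArg toConv (by rw [ofConv_toConv, ← AlgHom.comp_assoc, expPt_natural])
  let G' : WithConv (A →ₐ[k] A) := (nn a)⁻¹ * toConv (AlgHom.id k A)
  let r : WithConv (A →ₐ[k] A) := nn a * toConv (G'.ofConv.comp r₂)
  have hG' : ∀ (R : Type u) [CommRing R] [Algebra k R] (g : A →ₐ[k] R),
      toConv (g.comp G'.ofConv) = (nn (g a))⁻¹ * toConv g := by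
    intro R _ _ g
    rw [conv_comp_right, conv_comp_inv, hnat, ofConv_toConv, AlgHom.comp_id]
  have hr : ∀ (R : Type u) [CommRing R] [Algebra k R] (g : A →ₐ[k] R),
      toConv (g.comp r.ofConv) = nn (g a) * toConv (((nn (g a))⁻¹ * toConv g).ofConv.comp r₂) := by
    intro R _ _ g
    rw [conv_comp_right, hnat, ofConv_toConv, ← hG' R g, ofConv_toConv, AlgHom.comp_assoc]
  refine ⟨r.ofConv, fun x hx => ?_, fun R _ _ g h hh => ?_⟩
  · refine kills_mul J (f := (nn a).ofConv) (g := G'.ofConv.comp r₂) (hnn A a).1 (fun y hy => ?_) x hx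
    rw [AlgHom.comp_apply, hr₂J y (Ideal.mem_sup_left hy), map_zero]
  · set T := (toConv h * toConv g).ofConv a with hT
    set c := (nn T)⁻¹ * toConv h * nn (g a) with hc
    have hcJ₂ : ∀ x ∈ J₂, c.ofConv x = 0 := by
      have hcJ : Kills ((nn T)⁻¹ * toConv h).ofConv := kills_mul J
        (f := (nn T)⁻¹.ofConv) (g := h) (fun x hx => by
          have := SGA3a.NormalHopf.kills_inv J (h := (nn T).ofConv) (hnn R T).1
          exact this x hx) hh
      have hcJ' : Kills c.ofConv := kills_mul J (f := ((nn T)⁻¹ * toConv h).ofConv) (g := (nn (g a)).ofConv)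
        hcJ (hnn R _).1
      have hca : c.ofConv a = 0 := by
        have e1 := hadd R ((nn T)⁻¹ * toConv h).ofConv (nn (g a)).ofConv hcJ
        have hi : Kills ((nn T)⁻¹).ofConv := SGA3a.NormalHopf.kills_inv J (h := (nn T).ofConv) (hnn R T).1
        have e2 := hadd R ((nn T)⁻¹).ofConv h hi
        have e3 := hadd R (nn T).ofConv ((nn T)⁻¹).ofConv (hnn R T).1
        simp only [toConv_ofConv] at e1 e2 e3
        rw [_root_.mul_inv_cancel, AlgHom.convOne_apply, (hnn R T).2,
          show CoalgebraStruct.counit (R := k) a = 0 by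
            rw [ha, map_sub, Bialgebra.counit_algebraMap, sub_self], map_zero] at e3
        rw [← hc] at e1
        have hT' : T = h a + g a := hT.trans (hadd R h g hh)
        rw [e1, e2, (hnn R _).2]
        linear_combination -e3 - hT' 
      intro x hx
      obtain ⟨y, hy, z, hz, rfl⟩ := Submodule.mem_sup.1 hx
      obtain ⟨w, rfl⟩ := Ideal.mem_span_singleton'.1 hz
      rw [map_add, map_mul, hcJ' y hy, hca, mul_zero, add_zero]
    rw [hr, hr, ← hT, toConv_ofConv]
    have e : (nn T)⁻¹ * (toConv h * toConv g) = c * ((nn (g a))⁻¹ * toConv g) := by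
      rw [hc]; group
    rw [e]
    have h2 := hr₂ R ((nn (g a))⁻¹ * toConv g).ofConv c.ofConv hcJ₂
    simp only [toConv_ofConv] at h2
    rw [h2, hc]
    group

variable {U U' : Over (Spec (CommRingCat.of k))} [GrpObj U] [GrpObj U'] [IsAffine U.left]
  [LocallyOfFiniteType U.hom]

omit [Algebra.FiniteType k A] in
/-- the scheme form -/
theorem exists_retraction_sch {H : Type u} [CommRing H] [HopfAlgebra k H] (φ : GMod80.sp k H ≅ U)
    [IsMonHom φ.hom] (hH : HopfRep.IsUnipotent k H) (f : U' ⟶ U) [IsMonHom f] [IsClosedImmersion f.left] :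
    ∃ r : U ⟶ U', ∀ (T : Over (Spec (CommRingCat.of k))) (h : T ⟶ U') (x : T ⟶ U),
      ((h ≫ f) * x) ≫ r = h * (x ≫ r) := by
  haveI : IsAffine U'.left := isAffine_of_isAffineHom f.left
  haveI : Algebra.FiniteType k H := GMod80.finiteType φ
  obtain ⟨H', _, _, φ', hφ'⟩ := GMod80.exists_coord U'
  let ν := GMod80.pullBialg φ φ' f
  have hν : Function.Surjective ν := GMod80.pull_surjective φ φ' f
  let J := RingHom.ker (ν : H →ₐ[k] H')
  have hJ : J.IsHopfIdeal k := IdComp.isHopfIdeal_ker ν hν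
  obtain ⟨r, hrJ, hr⟩ := exists_retraction hH J hJ
  let r' : H' →ₐ[k] H := AlgHom.liftOfSurjective (ν : H →ₐ[k] H') hν r (fun x hx => hrJ x hx)
  have hr' : r'.comp (ν : H →ₐ[k] H') = r :=
    AlgHom.ext fun x => AlgHom.liftOfSurjective_apply (ν : H →ₐ[k] H') hν r (fun x hx => hrJ x hx) x
  let r₀ : GMod80.sp k H ⟶ U' := GMod80.e φ' H (toConv r')
  refine ⟨φ.inv ≫ r₀, ?_⟩
  haveI : Mono f.left := inferInstance
  haveI : Mono f := Over.mono_of_mono_left f
  have hpt : ∀ (R : Type u) [CommRing R] [Algebra k R] (x : WithConv (H →ₐ[k] R)),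
      GMod80.e φ R x ≫ φ.inv ≫ r₀ ≫ f = GMod80.e φ R (toConv (x.ofConv.comp r)) := by
    intro R _ _ x
    have h1 : GMod80.e φ R x = VecGrp.ptMap x.ofConv ≫ φ.hom := by
      conv_lhs => rw [show x = toConv (x.ofConv.comp (toConv (AlgHom.id k H)).ofConv) from rfl]
      rw [← GMod80.e_natural, GMod80.e_id]
    rw [h1, Category.assoc, Iso.hom_inv_id_assoc]
    show VecGrp.ptMap x.ofConv ≫ GMod80.e φ' H (toConv r') ≫ f = _
    rw [GMod80.e_comp φ φ' f, GMod80.e_natural, ofConv_toConv, ofConv_toConv]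
    exact congrArg (fun z => GMod80.e φ R (toConv (x.ofConv.comp z))) hr'
  haveI : IsIso (GMod80.pairIso φ H') := GIT36.LinRedChar0.isIso_pairIso φ H'
  haveI : IsIso φ'.hom := inferInstance
  obtain ⟨p, hp⟩ : ∃ p : VecGrp.pt k (H ⊗[k] H') ⟶ U' ⊗ U, IsIso p :=
    ⟨GMod80.pairIso φ H' ≫ (U ◁ φ'.hom) ≫ (β_ U U').hom, inferInstanceAs (IsIso (_ ≫ _ ≫ _))⟩
  have huniv : ((fst U' U ≫ f) * snd U' U) ≫ (φ.inv ≫ r₀) = fst U' U * (snd U' U ≫ φ.inv ≫ r₀) := by
    haveI := hp
    rw [← cancel_epi p, ← cancel_mono f]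
    rw [Category.assoc, Category.assoc, MonObj.comp_mul p (fst U' U), MonObj.mul_comp _ _ f,
      ← Category.assoc p _ ((φ.inv ≫ r₀) ≫ f), MonObj.comp_mul p (fst U' U ≫ f)]
    simp only [Category.assoc]
    obtain ⟨xh, hxh⟩ := (GMod80.e φ' _).surjective (p ≫ fst U' U)
    obtain ⟨xx, hxx⟩ := (GMod80.e φ _).surjective (p ≫ snd U' U)
    rw [← Category.assoc p (fst U' U) f, ← Category.assoc p (snd U' U), ← hxh, ← hxx, GMod80.e_comp φ φ' f, ← map_mul, hpt, hpt]
    refine (congrArg (GMod80.e φ _) ?_).trans (map_mul (GMod80.e φ _) _ _)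
    exact hr _ xx.ofConv (xh.ofConv.comp (ν : H →ₐ[k] H')) fun a ha => by
      rw [AlgHom.comp_apply, show (ν : H →ₐ[k] H') a = 0 from ha, map_zero]
  intro T h x
  have h1 := congrArg (CartesianMonoidalCategory.lift h x ≫ ·) huniv
  rw [← Category.assoc, MonObj.comp_mul, MonObj.comp_mul, ← Category.assoc _ (fst U' U) f, lift_fst, lift_snd,
    ← Category.assoc _ (snd U' U), lift_snd] at h1
  exact h1

end Groth.Agent.EqTors4.Mostow
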